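import Cfsg.Agent.Lib.SmallOrder.Exclude

/-!
# Subgroups of prescribed index from Sylow arithmetic
-/

set_option autoImplicit false

namespace CfsgLib.SmallOrder

/-- `indexesBad` apart from the indices in `L`. -/
def indexesExcept (n q p m : ℕ) (L : List ℕ) : Bool :=
  (List.range (m + 1)).all fun e =>
    decide (m % e ≠ 0) || decide (e ≤ 1) || !hasSylCand p (m / e) || badIndexQ n q e || L.contains e

/-- `excludedAt` apart from the indices in `L`. -/
def excludedExcept (n q p a m : ℕ) (L : List ℕ) : Bool :=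
  (List.range (m + 1)).all fun c =>
    decide (c % p ≠ 1) || decide (m % c ≠ 0) || decide (c ≤ 1) || badIndexQ n q c || L.contains c ||
      (decide (a = 1) && decide (Nat.gcd (m / c) (p - 1) = 1)) ||
      (decide (2 ≤ a) && decide (c % (p * p) ≠ 1) && indexesExcept n q p m L)

variable {G : Type*} [Group G] [Finite G] [IsSimpleGroup G]

/-- Sylow arithmetic leaves a proper subgroup with index in `L`. -/
theorem exists_index_of_excludedExcept (hG : ¬ IsMulCommutative G) (q p a m : ℕ) [hp : Fact p.Prime] (hq : q = 0 ∨ q.Prime)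
    (ha : a ≠ 0) (hn : Nat.card G = p ^ a * m) (hm : ¬ p ∣ m)
    {L : List ℕ} (h : excludedExcept (Nat.card G) q p a m L = true) :
    ∃ H : Subgroup G, H ≠ ⊤ ∧ H.index ∈ L := by
  obtain ⟨P⟩ := (inferInstance : Nonempty (Sylow p G))
  have hp1 : 1 < p := hp.out.one_lt
  have hpG : p ∣ Nat.card G := hn ▸ dvd_mul_of_dvd_left (dvd_pow_self p ha) m
  have hm0 : 0 < m := Nat.pos_of_ne_zero fun h0 => hm (h0 ▸ dvd_zero p)
  have hfac : (Nat.card G).factorization p = a := by
    rw [hn, Nat.factorization_mul (by positivity) hm0.ne', Finsupp.add_apply,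
      Nat.Prime.factorization_pow hp.out, Finsupp.single_eq_same,
      Nat.factorization_eq_zero_of_not_dvd hm, add_zero]
  have hPcard : Nat.card (P : Subgroup G) = p ^ a := by
    rw [P.card_eq_multiplicity, hfac]
  have hPidx : (P : Subgroup G).index = m := by
    have h1 := (P : Subgroup G).card_mul_index
    rw [hPcard, hn] at h1
    exact Nat.eq_of_mul_eq_mul_left (by positivity) h1
  set c := Nat.card (Sylow p G) with hc
  have hcm : c ∣ m := hPidx ▸ Sylow.card_dvd_index P
  have hc1 : c % p = 1 := by
    have h1 : c % p = 1 % p := card_sylow_modEq_one p G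
    rw [h1, Nat.mod_eq_of_lt hp1]
  have hc2 : c ≠ 1 := card_sylow_ne_one hG hpG
  simp only [excludedExcept, List.all_eq_true, List.mem_range, Bool.or_eq_true, Bool.and_eq_true,
    decide_eq_true_eq] at h
  rcases h c (Nat.lt_succ_of_le (Nat.le_of_dvd hm0 hcm)) with
    (((((h1 | h1) | h1) | h1) | h0) | ⟨h1, h2⟩) | ⟨⟨h1, h2⟩, h3⟩
  · exact absurd hc1 h1
  · exact absurd (Nat.mod_eq_zero_of_dvd hcm) h1
  · have : 0 < c := Nat.card_pos
    omega
  · have hN := normalizer_sylow_ne_top hG hpG P
    have := badIndexQ_eq_false hG hq hN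
    erw [← Sylow.card_eq_index_normalizer P] at this
    exact absurd (this ▸ h1) Bool.false_ne_true
  · refine ⟨_, normalizer_sylow_ne_top hG hpG P, ?_⟩
    erw [← Sylow.card_eq_index_normalizer P]
    exact List.contains_iff_mem.mp h0
  · obtain ⟨k, hk⟩ := hcm
    have : m / c = k := by rw [hk, Nat.mul_div_cancel_left _ Nat.card_pos]
    rw [this] at h2
    refine (not_coprime_of_card_sylow_eq hG P (by rw [hPcard, h1, pow_one]) (m := k) ?_ h2).elim
    rw [hn, h1, pow_one, hk]; ring
  · -- two Sylow subgroups meeting in a subgroup `D` of index `p`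
    have hnm : ¬ c ≡ 1 [MOD p ^ 2] := fun hmod => h2 (by
      rw [← pow_two]
      have h' : c % p ^ 2 = 1 % p ^ 2 := hmod
      rw [h', Nat.mod_eq_of_lt (Nat.one_lt_pow two_ne_zero hp1)])
    obtain ⟨R, hRP, hR⟩ := exists_sylow_relIndex_le hnm P
    rw [show 2 - 1 = 1 by norm_num, pow_one] at hR
    set D : Subgroup G := (P : Subgroup G) ⊓ (R : Subgroup G) with hD
    have hPN := le_normalizer_inf_of_relIndex_eq P R hR
    have hRcard : Nat.card (R : Subgroup G) = p ^ a := by rw [R.card_eq_multiplicity, hfac]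
    have e1 := card_inf_mul_relIndex (R : Subgroup G) (P : Subgroup G)
    have e2 := card_inf_mul_relIndex (P : Subgroup G) (R : Subgroup G)
    rw [hPcard, inf_comm, ← hD] at e1
    rw [hRcard, ← hD] at e2
    have hDpos : 0 < Nat.card D := Nat.card_pos
    have hR' : (P : Subgroup G).relIndex (R : Subgroup G) ≤ p := by
      rw [Nat.eq_of_mul_eq_mul_left hDpos (e2.trans e1.symm)]
      exact hR
    have hRN := le_normalizer_inf_of_relIndex_eq R P hR'
    rw [inf_comm, ← hD] at hRN
    rw [← hD] at hPN
    set N := Subgroup.normalizer (D : Set G) with hN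
    have hDbot : D ≠ ⊥ := by
      intro hb
      rw [hb, Subgroup.card_bot, one_mul] at e1
      rw [e1] at hR
      have h' : p ^ a ≤ p ^ 1 := by rwa [pow_one]
      have := (Nat.pow_le_pow_iff_right hp1).mp h'
      omega
    have hDtop : D ≠ ⊤ := fun ht => sylow_ne_top hG P (top_le_iff.mp (ht ▸ inf_le_left))
    have hNtop : N ≠ ⊤ := fun ht => by
      rcases (Subgroup.normalizer_eq_top_iff.mp ht).eq_bot_or_eq_top with h' | h'
      · exact hDbot h'
      · exact hDtop h'
    -- the order of `N` is `p ^ a * s`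
    have hdvd : p ^ a ∣ Nat.card N := hPcard ▸ Subgroup.card_dvd_of_le hPN
    obtain ⟨s, hs⟩ := hdvd
    have hes : N.index * s = m := by
      have h' := N.card_mul_index
      rw [hs, hn, mul_assoc, mul_comm s] at h'
      exact Nat.eq_of_mul_eq_mul_left (by positivity) h'
    let P' : Sylow p N := P.subtype hPN
    let R' : Sylow p N := R.subtype hRN
    have hP'R' : P' ≠ R' := fun h' => hRP (Sylow.subtype_injective h').symm
    have ht1 : 2 ≤ Nat.card (Sylow p N) := by
      have : Nontrivial (Sylow p N) := ⟨⟨P', R', hP'R'⟩⟩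
      exact Finite.one_lt_card
    have ht2 : Nat.card (Sylow p N) % p = 1 := by
      have h' : Nat.card (Sylow p N) % p = 1 % p := card_sylow_modEq_one p N
      rw [h', Nat.mod_eq_of_lt hp1]
    have ht3 : Nat.card (Sylow p N) ∣ s := by
      have h' := Sylow.card_dvd_index P'
      have h'' := (P' : Subgroup N).card_mul_index
      have hP' : Nat.card (P' : Subgroup N) = p ^ a := by
        rw [← hPcard]
        exact Nat.card_congr (Subgroup.subgroupOfEquivOfLe hPN).toEquiv
      rw [hP', hs] at h''
      rwa [Nat.eq_of_mul_eq_mul_left (by positivity) h''] at h'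
    have hs0 : 0 < s := Nat.pos_of_ne_zero fun h' => by simp [h'] at hs; exact Nat.card_pos.ne' hs
    have hcand : hasSylCand p s = true := by
      simp only [hasSylCand, List.any_eq_true, List.mem_range, Bool.and_eq_true, decide_eq_true_eq]
      exact ⟨_, Nat.lt_succ_of_le (Nat.le_of_dvd hs0 ht3), ⟨ht1, ht2⟩, Nat.mod_eq_zero_of_dvd ht3⟩
    have he : N.index ≤ m := Nat.le_of_dvd hm0 ⟨s, hes.symm⟩
    simp only [indexesExcept, List.all_eq_true, List.mem_range, Bool.or_eq_true, Bool.not_eq_true',
      decide_eq_true_eq] at h3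
    rcases h3 N.index (Nat.lt_succ_of_le he) with (((h' | h') | h') | h') | h0
    · exact absurd (Nat.mod_eq_zero_of_dvd ⟨s, hes.symm⟩) h'
    · have := two_le_index hNtop
      omega
    · rw [show m / N.index = s by
        rw [← hes, Nat.mul_div_cancel_left _ (by have := two_le_index hNtop; omega)]] at h'
      exact absurd (h'.symm.trans hcand) Bool.false_ne_true
    · exact absurd ((badIndexQ_eq_false hG hq hNtop).symm.trans h') Bool.false_ne_true
    · exact ⟨N, hNtop, List.contains_iff_mem.mp h0⟩

end CfsgLib.SmallOrder
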