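import Mathlib

/-!
Permutations of the projective line over the field with nine elements, as maps of `Fin 10`
(`a + 3 b` is `a + b √-1`, and `9` is the point at infinity), and the finite check that pins
down the inversion.
-/

set_option autoImplicit false

namespace CfsgLib.ThreeSixty

/-- `x ↦ x + 1`. -/
def permU : Equiv.Perm (Fin 10) where
  toFun := ![1, 2, 0, 4, 5, 3, 7, 8, 6, 9]
  invFun := ![2, 0, 1, 5, 3, 4, 8, 6, 7, 9]
  left_inv := by intro x; revert x; decide
  right_inv := by intro x; revert x; decide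

/-- `x ↦ x + √-1`. -/
def permV : Equiv.Perm (Fin 10) where
  toFun := ![3, 4, 5, 6, 7, 8, 0, 1, 2, 9]
  invFun := ![6, 7, 8, 0, 1, 2, 3, 4, 5, 9]
  left_inv := by intro x; revert x; decide
  right_inv := by intro x; revert x; decide

/-- `x ↦ √-1 x`. -/
def permI : Equiv.Perm (Fin 10) where
  toFun := ![0, 3, 6, 2, 5, 8, 1, 4, 7, 9]
  invFun := ![0, 6, 3, 1, 7, 4, 2, 8, 5, 9]
  left_inv := by intro x; revert x; decide
  right_inv := by intro x; revert x; decide

/-- `x ↦ 1 / x`. -/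
def permW : Equiv.Perm (Fin 10) where
  toFun := ![9, 1, 2, 6, 5, 4, 3, 8, 7, 0]
  invFun := ![9, 1, 2, 6, 5, 4, 3, 8, 7, 0]
  left_inv := by intro x; revert x; decide
  right_inv := by intro x; revert x; decide

/-- The model. -/
def model : Subgroup (Equiv.Perm (Fin 10)) := Subgroup.closure {permU, permI, permW}

/-- Iterates of `permI`. -/
def rot : Fin 4 → Fin 10 → Fin 10 :=
  ![id, ![0, 3, 6, 2, 5, 8, 1, 4, 7, 9], ![0, 2, 1, 6, 8, 7, 3, 5, 4, 9],
    ![0, 6, 3, 1, 7, 4, 2, 8, 5, 9]]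

theorem rot_eq : ∀ (k : Fin 4) (x : Fin 10), rot k x = (permI ^ (k : ℕ)) x := by decide

/-- The logarithm of a point in its `permI`-orbit. -/
def logI : Fin 10 → Fin 4 := ![0, 0, 2, 1, 0, 1, 3, 3, 2, 0]

/-- Membership in the orbit of `1`. -/
def inA : Fin 10 → Bool := ![false, true, true, true, false, false, true, false, false, false]

theorem orbit_cases : ∀ x : Fin 10, x = 9 ∨ x = 0 ∨ rot (logI x) (if inA x then 1 else 4) = x := by
  decide

/-- The only possible map interchanging `0` and `9` which turns `permI` into `permI ^ e` and sends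
`1 ↦ a`, `4 ↦ b`. -/
def cand (e : Bool) (a b : Fin 10) (x : Fin 10) : Fin 10 :=
  if x = 9 then 0 else if x = 0 then 9
  else rot (if e then logI x else -logI x) (if inA x then a else b)

/-- Letters of words: the unknown map, `u`, `u²`, `v`, `v²`. -/
def letter (f : Fin 10 → Fin 10) : Fin 5 → Fin 10 → Fin 10 :=
  ![f, ![1, 2, 0, 4, 5, 3, 7, 8, 6, 9], ![2, 0, 1, 5, 3, 4, 8, 6, 7, 9],
    ![3, 4, 5, 6, 7, 8, 0, 1, 2, 9], ![6, 7, 8, 0, 1, 2, 3, 4, 5, 9]]

/-- Evaluation of a word. -/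
def evalWord (f : Fin 10 → Fin 10) (w : List (Fin 5)) (x : Fin 10) : Fin 10 :=
  w.foldr (fun c y => letter f c y) x

/-- The words used to rule out wrong candidates. -/
def testWords : List (List (Fin 5)) :=
  [[0, 0], [0, 1, 0, 1, 0, 1], [0, 1, 0, 2, 0, 1], [0, 1, 0, 3, 0, 1], [0, 1, 0, 4, 0, 1],
    [1, 0, 1, 0, 2, 0, 3, 0, 2], [1, 0, 1, 0, 2, 0, 4, 0, 2], [1, 0, 2, 0, 2, 0, 3, 0, 2],
    [1, 0, 2, 0, 2, 0, 4, 0, 2], [0, 1, 0, 3, 0, 2], [0, 1, 0, 4, 0, 2],
    [1, 0, 1, 0, 1, 0, 2, 0, 1], [1, 0, 1, 0, 2, 0, 2, 0, 1], [0, 3, 0, 4, 2, 0, 1],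
    [0, 4, 0, 3, 2, 0, 1], [0, 4, 0, 4, 1, 0, 1], [0, 3, 0, 3, 1, 0, 1], [0, 1, 0, 4, 2, 0, 1],
    [0, 1, 0, 3, 2, 0, 1], [0, 1, 0, 4, 1, 0, 1], [0, 1, 0, 3, 1, 0, 1]]

/-- The word fixes both distinguished points and is not a power of `permI`. -/
def kills (f : Fin 10 → Fin 10) (w : List (Fin 5)) : Bool :=
  evalWord f w 9 == 9 && evalWord f w 0 == 0 &&
    (List.finRange 4).all fun k => (List.finRange 10).any fun x => evalWord f w x != rot k x

/-- Every candidate is not injective, is a twist of `permW`, or is killed. -/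
def checkCand (e : Bool) (a b : Fin 10) : Bool :=
  a == 9 || a == 0 || b == 9 || b == 0 ||
    ((List.finRange 10).any fun x => (List.finRange 10).any fun y =>
      x != y && cand e a b x == cand e a b y) ||
    ((List.finRange 4).any fun j => (List.finRange 10).all fun x =>
      cand e a b x == permW (rot j x)) ||
    testWords.any (kills (cand e a b))

set_option maxRecDepth 20000 in
theorem checkCand_eq : ∀ (e : Bool) (a b : Fin 10), checkCand e a b = true := by decide +kernel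

end CfsgLib.ThreeSixty
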