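import Cfsg.Agent.Lib.SmallOrder.Basic
import Cfsg.Agent.Lib.SmallOrder.ThreeSixtyModel

/-!
A simple group of order 360 is determined by its action on the ten Sylow 3-subgroups.
-/

set_option autoImplicit false
set_option linter.style.haveILetI false
set_option linter.unusedSectionVars false

namespace CfsgLib.ThreeSixty

open CfsgLib.SmallOrder
open scoped Classical

variable {G : Type*} [Group G] [Finite G] [IsSimpleGroup G]

theorem not_comm (h : Nat.card G = 360) : ¬ IsMulCommutative G := by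
  intro hc
  letI : CommGroup G := { (inferInstance : Group G) with mul_comm := hc.is_comm.comm }
  have := IsSimpleGroup.prime_card (α := G)
  rw [h] at this
  norm_num at this

theorem six_le_index (h : Nat.card G = 360) {H : Subgroup G} (hH : H ≠ ⊤) : 6 ≤ H.index := by
  by_contra hlt
  have hd := two_mul_card_dvd_factorial (not_comm h) hH
  rw [h] at hd
  have := two_le_index hH
  interval_cases hi : H.index <;> norm_num [Nat.factorial] at hd

theorem center_eq_bot (h : Nat.card G = 360) : Subgroup.center G = ⊥ :=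
  (inferInstance : (Subgroup.center G).Normal).eq_bot_or_eq_top.resolve_right fun e =>
    not_comm h ⟨⟨fun a b => (Subgroup.mem_center_iff.mp (e ▸ Subgroup.mem_top a) b).symm⟩⟩

theorem two_ne_mul_self : ∀ z : ZMod 3, (2 : ZMod 3) ≠ z * z := by decide

theorem four_eq {H : Type*} [Group H] (a : H) : a * a * (a * a) = a ^ 4 := by
  rw [pow_succ, pow_succ, pow_two]; group

theorem conj_split {H : Type*} [Group H] (i A B : H) (n m : ℕ) :
    i * (A ^ n * B ^ m) = (i * A * i⁻¹) ^ n * (i * B * i⁻¹) ^ m * i := by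
  rw [conj_pow, conj_pow]; group

variable [hp3 : Fact (Nat.Prime 3)]

omit [IsSimpleGroup G] in
theorem index_normalizer {H : Type*} [Group H] [Finite H] (P : Sylow 3 H) :
    (Subgroup.normalizer ((P : Subgroup H) : Set H)).index = Nat.card (Sylow 3 H) :=
  (Sylow.card_eq_index_normalizer P).symm

theorem card_sylow_group (h : Nat.card G = 360) (P : Sylow 3 G) : Nat.card (P : Subgroup G) = 9 := by
  rw [P.card_eq_multiplicity, h]
  have h1 : (360 : ℕ).factorization 3 = 2 := by
    rw [show (360 : ℕ) = 3 ^ 2 * 40 by rfl, Nat.factorization_mul (by norm_num) (by norm_num),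
      Finsupp.add_apply, Nat.factorization_eq_zero_of_not_dvd (by norm_num : ¬ 3 ∣ 40),
      Nat.Prime.factorization_pow Nat.prime_three, Finsupp.single_eq_same]
  rw [h1]; rfl

theorem comm_sylow (h : Nat.card G = 360) (P : Sylow 3 G) :
    (P : Subgroup G) ≤ Subgroup.centralizer ((P : Subgroup G) : Set G) := by
  intro a ha b hb
  have hc : IsMulCommutative (P : Subgroup G) :=
    IsPGroup.isMulCommutative_of_card_eq_prime_sq (p := 3) (by rw [card_sylow_group h P]; rfl)
  exact congrArg Subtype.val (hc.is_comm.comm (⟨b, hb⟩ : (P : Subgroup G)) ⟨a, ha⟩)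

theorem card_sylow (h : Nat.card G = 360) : Nat.card (Sylow 3 G) = 10 := by
  obtain ⟨P⟩ := (inferInstance : Nonempty (Sylow 3 G))
  have hPc := card_sylow_group h P
  have hd : Nat.card (Sylow 3 G) ∣ 40 := by
    have h1 := P.card_dvd_index
    have h2 := (P : Subgroup G).card_mul_index
    rw [hPc, h] at h2
    rwa [show (P : Subgroup G).index = 40 by omega] at h1
  have hm : Nat.card (Sylow 3 G) % 3 = 1 := card_sylow_modEq_one 3 G
  have hN := normalizer_sylow_ne_top (not_comm h) (by rw [h]; norm_num) P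
  have h6 := six_le_index h hN
  rw [index_normalizer P] at h6
  have h40 : Nat.card (Sylow 3 G) ≠ 40 := fun e => by
    refine not_normalizer_le_centralizer (not_comm h) (by rw [h]; norm_num) P ?_
    have hi := (Subgroup.normalizer ((P : Subgroup G) : Set G)).card_mul_index
    rw [index_normalizer P, e, h] at hi
    rw [← Subgroup.eq_of_le_of_card_ge (Subgroup.le_normalizer (H := (P : Subgroup G)))
      (by rw [hPc]; omega)]
    exact comm_sylow h P
  have hle := Nat.le_of_dvd (by norm_num) hd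
  interval_cases hk : Nat.card (Sylow 3 G) <;> simp_all (config := {decide := true})

theorem card_normalizer (h : Nat.card G = 360) (P : Sylow 3 G) :
    Nat.card (Subgroup.normalizer ((P : Subgroup G) : Set G)) = 36 := by
  have hi := (Subgroup.normalizer ((P : Subgroup G) : Set G)).card_mul_index
  rw [index_normalizer P, card_sylow h, h] at hi
  omega

theorem toPerm_injective (h : Nat.card G = 360) :
    Function.Injective (MulAction.toPermHom G (Sylow 3 G)) := by
  rw [← MonoidHom.ker_eq_bot_iff]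
  refine ((MulAction.toPermHom G (Sylow 3 G)).normal_ker.eq_bot_or_eq_top).resolve_right fun e => ?_
  obtain ⟨P⟩ := (inferInstance : Nonempty (Sylow 3 G))
  refine normalizer_sylow_ne_top (not_comm h) (by rw [h]; norm_num) P (top_le_iff.mp fun g _ => ?_)
  refine Sylow.smul_eq_iff_mem_normalizer.mp ?_
  exact congrArg (fun f : Equiv.Perm (Sylow 3 G) => f P) (MonoidHom.mem_ker.mp (e ▸ Subgroup.mem_top g))

omit [IsSimpleGroup G] in
/-- A `3`-element fixing a Sylow subgroup lies in it. -/
theorem mem_of_smul_eq {P Q : Sylow 3 G} {z : G} (hz : z ∈ (P : Subgroup G)) (hQ : z • Q = Q) :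
    z ∈ (Q : Subgroup G) := by
  have hp : IsPGroup 3 (Subgroup.zpowers z) := P.2.to_le (Subgroup.zpowers_le.mpr hz)
  have := hp.inf_normalizer_sylow Q
  rw [inf_eq_left.mpr (Subgroup.zpowers_le.mpr (Sylow.smul_eq_iff_mem_normalizer.mp hQ))] at this
  exact (this.le.trans inf_le_right) (Subgroup.mem_zpowers z)

/-- An involution commuting with an element of order `3` fixing one point is trivial. -/
theorem eq_one_of_commute (h : Nat.card G = 360) {P : Sylow 3 G} {z s : G}
    (hz : z ∈ (P : Subgroup G)) (hgood : ∀ Q : Sylow 3 G, z • Q = Q → Q = P)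
    (hs : s * s = 1) (hsP : s • P = P) (hc : z * s = s * z) : s = 1 := by
  classical
  haveI : Fintype (Sylow 3 G) := Fintype.ofFinite _
  set σ := MulAction.toPermHom G (Sylow 3 G) s with hσ
  set τ := MulAction.toPermHom G (Sylow 3 G) z with hτ
  refine (toPerm_injective h) (?_ : σ = MulAction.toPermHom G (Sylow 3 G) 1)
  rw [map_one]
  by_contra hne
  have hσ2 : σ ^ 2 = 1 := by rw [pow_two, hσ, ← map_mul, hs, map_one]
  have hcomm : Commute τ σ := by
    show τ * σ = σ * τ
    rw [hσ, hτ, ← map_mul, ← map_mul, hc]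
  have hsign : Equiv.Perm.sign σ = 1 :=
    map_eq_one_of_comm (not_comm h) (Equiv.Perm.sign.comp (MulAction.toPermHom G (Sylow 3 G))) s
  have h4 : 4 ∣ σ.support.card := by
    obtain ⟨n, hn⟩ := Equiv.Perm.cycleType_prime_order
      (σ := σ) (by rw [orderOf_eq_prime hσ2 hne]; norm_num)
    rw [orderOf_eq_prime hσ2 hne] at hn
    have hsum := Equiv.Perm.sum_cycleType σ
    rw [Equiv.Perm.sign_of_cycleType, hn, Multiset.sum_replicate, Multiset.card_replicate,
      smul_eq_mul] at hsign
    rw [hn, Multiset.sum_replicate, smul_eq_mul] at hsum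
    rw [← hsum]
    rcases Nat.even_or_odd (n + 1) with ⟨k, hk⟩ | ho
    · exact ⟨k, by omega⟩
    · exfalso
      obtain ⟨k, hk⟩ := ho
      have hodd : Odd ((n + 1) * 2 + (n + 1)) := ⟨3 * k + 1, by omega⟩
      rw [hodd.neg_one_pow] at hsign
      exact absurd hsign (by decide)
  -- `τ` permutes the support of `σ` without fixed points
  have hmaps : ∀ Q, σ Q ≠ Q ↔ σ (τ Q) ≠ τ Q := by
    intro Q
    have e : σ (τ Q) = τ (σ Q) := (congrArg (fun f : Equiv.Perm (Sylow 3 G) => f Q) hcomm.eq).symm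
    rw [e]
    exact not_congr τ.injective.eq_iff.symm
  have hpt : ∀ Q : Sylow 3 G, σ Q ≠ Q → τ Q ≠ Q := fun Q hQ e => by
    rw [hgood Q e] at hQ
    exact hQ hsP
  set ρ := τ.subtypePerm (p := fun Q => σ Q ≠ Q) (fun Q => (hmaps Q).symm) with hρ
  have hρ3 : ρ ^ 3 ^ 2 = 1 := by
    refine Equiv.ext fun Q => Subtype.ext ?_
    have hz9 : z ^ 9 = 1 := by
      have := pow_card_eq_one' (x := (⟨z, hz⟩ : (P : Subgroup G)))
      rw [card_sylow_group h P] at this
      exact congrArg Subtype.val this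
    rw [hρ, Equiv.Perm.subtypePerm_pow, Equiv.Perm.subtypePerm_apply]
    show (τ ^ 9) Q.1 = Q.1
    have hτ9 : τ ^ 9 = 1 := by rw [hτ, ← map_pow, hz9, map_one]
    exact congrArg (fun f : Equiv.Perm (Sylow 3 G) => f Q.1) hτ9
  have hmod := Equiv.Perm.card_compl_support_modEq (p := 3) hρ3
  have hsupp : ρ.support = Finset.univ := Finset.eq_univ_iff_forall.mpr fun Q =>
    Equiv.Perm.mem_support.mpr fun e => hpt Q Q.2 (congrArg Subtype.val e)
  rw [hsupp, Finset.compl_univ, Finset.card_empty] at hmod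
  have h3 : 3 ∣ σ.support.card := by
    have hc' : Fintype.card {Q : Sylow 3 G // σ Q ≠ Q} = σ.support.card := by
      rw [Fintype.card_subtype]
      congr 1
    rw [← hc']
    exact Nat.modEq_zero_iff_dvd.mp hmod.symm
  have hle : σ.support.card ≤ 10 := by
    rw [← card_sylow h, Nat.card_eq_fintype_card]
    exact Finset.card_le_univ _
  have hlt : σ.support.card ≠ 0 := fun e =>
    hne (Equiv.Perm.support_eq_empty_iff.mp (Finset.card_eq_zero.mp e))
  omega

/-- If two Sylow subgroups contain `x ≠ 1`, then `C(x)` has order 36 and `N(P) ∩ C(x) = P`. -/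
theorem bad_structure (h : Nat.card G = 360) {P Q : Sylow 3 G} (hne : Q ≠ P) {x : G} (hx1 : x ≠ 1)
    (hxP : x ∈ (P : Subgroup G)) (hxQ : x ∈ (Q : Subgroup G)) :
    Nat.card (Subgroup.centralizer ({x} : Set G)) = 36 ∧
      ∀ c ∈ Subgroup.centralizer ({x} : Set G),
        c ∈ Subgroup.normalizer ((P : Subgroup G) : Set G) → c ∈ (P : Subgroup G) := by
  set C := Subgroup.centralizer ({x} : Set G) with hC
  have hPC : (P : Subgroup G) ≤ C := fun a ha =>
    Subgroup.mem_centralizer_singleton_iff.mpr (comm_sylow h P ha x hxP).symm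
  have hQC : (Q : Subgroup G) ≤ C := fun a ha =>
    Subgroup.mem_centralizer_singleton_iff.mpr (comm_sylow h Q ha x hxQ).symm
  have hCt : C ≠ ⊤ := fun e => by
    have : x ∈ Subgroup.center G := Subgroup.mem_center_iff.mpr fun g =>
      Subgroup.mem_centralizer_singleton_iff.mp (e ▸ Subgroup.mem_top g : g ∈ C)
    rw [center_eq_bot h, Subgroup.mem_bot] at this
    exact hx1 this
  have hidx := six_le_index h hCt
  have hmul := C.card_mul_index
  rw [h] at hmul
  obtain ⟨m, hm⟩ := Subgroup.card_dvd_of_le hPC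
  rw [card_sylow_group h P] at hm
  set PC := P.subtype hPC with hPCdef
  have hn3 : Nat.card (Sylow 3 C) ∣ m := by
    have h1 := PC.card_dvd_index
    have h2 := (PC : Subgroup C).card_mul_index
    rw [show Nat.card (PC : Subgroup C) = 9 from
      (Nat.card_congr (Subgroup.subgroupOfEquivOfLe hPC).toEquiv).trans (card_sylow_group h P), hm] at h2
    rwa [show (PC : Subgroup C).index = m by omega] at h1
  have hn1 : Nat.card (Sylow 3 C) ≠ 1 := fun e => by
    haveI := (Nat.card_eq_one_iff_unique.mp e).1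
    exact hne (Sylow.subtype_injective (hP := hQC) (hQ := hPC) (Subsingleton.elim _ _))
  have hnmod : Nat.card (Sylow 3 C) % 3 = 1 := card_sylow_modEq_one 3 C
  have hm5 : m ≤ 6 := by
    have := Nat.mul_le_mul_left (Nat.card C) hidx
    rw [hmul, hm] at this
    omega
  have hmdvd : m ∣ 40 := by
    have hd := C.card_subgroup_dvd_card
    rw [h, hm, show (360 : ℕ) = 9 * 40 by rfl] at hd
    exact Nat.dvd_of_mul_dvd_mul_left (by norm_num) hd
  have hnpos : 0 < Nat.card (Sylow 3 C) := Nat.card_pos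
  have hnle : Nat.card (Sylow 3 C) ≤ m :=
    Nat.le_of_dvd (Nat.pos_of_ne_zero fun e => by rw [e] at hm; exact Nat.card_pos.ne' hm) hn3
  have hm4 : m = 4 ∧ Nat.card (Sylow 3 C) = 4 := by
    have h4 : Nat.card (Sylow 3 C) = 4 := by omega
    have hm0 : m ≠ 5 ∧ m ≠ 6 := by
      constructor <;> rintro rfl <;> rw [h4] at hn3 <;> norm_num at hn3
    exact ⟨by omega, h4⟩
  refine ⟨by rw [hm, hm4.1], fun c hc hcN => ?_⟩
  have hcard : Nat.card (Subgroup.normalizer ((PC : Subgroup C) : Set C)) = 9 := by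
    have h1 := (Subgroup.normalizer ((PC : Subgroup C) : Set C)).card_mul_index
    rw [index_normalizer PC, hm4.2, hm, hm4.1] at h1
    omega
  have hle : Subgroup.normalizer ((PC : Subgroup C) : Set C) ≤ (PC : Subgroup C) :=
    (Subgroup.eq_of_le_of_card_ge Subgroup.le_normalizer (by
      rw [hcard, show Nat.card (PC : Subgroup C) = 9 from
        (Nat.card_congr (Subgroup.subgroupOfEquivOfLe hPC).toEquiv).trans (card_sylow_group h P)])).ge
  refine hle (x := ⟨c, hc⟩) ?_
  refine Subgroup.mem_normalizer_iff.mpr fun a => ?_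
  exact Subgroup.mem_normalizer_iff.mp hcN (a : G)

/-- No involution of `N(P)` centralizes a nontrivial element of `P`. -/
theorem no_commute (h : Nat.card G = 360) {P : Sylow 3 G} {z s : G} (hz : z ∈ (P : Subgroup G))
    (hz1 : z ≠ 1) (hs : s * s = 1) (hsP : s • P = P) (hc : z * s = s * z) : s = 1 := by
  by_cases hgood : ∀ Q : Sylow 3 G, z • Q = Q → Q = P
  · exact eq_one_of_commute h hz hgood hs hsP hc
  push Not at hgood
  obtain ⟨Q, hQ, hne⟩ := hgood
  have hmem := (bad_structure h hne hz1 hz (mem_of_smul_eq hz hQ)).2 s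
    (Subgroup.mem_centralizer_singleton_iff.mpr hc.symm) (Sylow.smul_eq_iff_mem_normalizer.mp hsP)
  have ho : orderOf s ∣ 9 := by
    have := orderOf_dvd_natCard (⟨s, hmem⟩ : (P : Subgroup G))
    rwa [Subgroup.orderOf_mk, card_sylow_group h P] at this
  have ho2 : orderOf s ∣ 2 := orderOf_dvd_of_pow_eq_one (by rw [pow_two]; exact hs)
  exact orderOf_eq_one_iff.mp (Nat.eq_one_of_dvd_coprimes (by norm_num) ho ho2)

omit [IsSimpleGroup G] [Finite G] in
theorem conj_mem {P : Subgroup G} {g x : G} (hg : g ∈ Subgroup.normalizer (P : Set G)) (hx : x ∈ P) :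
    g * x * g⁻¹ ∈ P :=
  (Subgroup.mem_normalizer_iff.mp hg x).mp hx

/-- An involution of `N(P)` inverts `P` if it is nontrivial. -/
theorem inverts (h : Nat.card G = 360) {P : Sylow 3 G} {s : G} (hs : s * s = 1) (hs1 : s ≠ 1)
    (hsP : s • P = P) {x : G} (hx : x ∈ (P : Subgroup G)) : s * x * s⁻¹ = x⁻¹ := by
  have hsi : s⁻¹ = s := inv_eq_of_mul_eq_one_right hs
  have hsN := Sylow.smul_eq_iff_mem_normalizer.mp hsP
  by_contra hne
  have hy : s * x * s⁻¹ ∈ (P : Subgroup G) := conj_mem hsN hx
  refine hs1 (no_commute h (mul_mem hx hy) (fun e => hne (eq_inv_of_mul_eq_one_right e)) hs hsP ?_)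
  have hxy := comm_sylow h P hy x hx
  calc x * (s * x * s⁻¹) * s = x * (s * x) := by group
    _ = s * (s * x * s⁻¹ * x) := by rw [hsi, show s * (s * x * s * x) = (s * s) * (x * s * x) by group, hs, one_mul, mul_assoc]
    _ = s * (x * (s * x * s⁻¹)) := by rw [hxy]

/-- Nontrivial elements of `P` fix only `P`. -/
theorem eq_of_fixes (h : Nat.card G = 360) {P Q : Sylow 3 G} {x : G} (hx : x ∈ (P : Subgroup G))
    (hx1 : x ≠ 1) (hQ : x • Q = Q) : Q = P := by
  by_contra hne
  haveI : Fact (Nat.Prime 2) := ⟨Nat.prime_two⟩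
  obtain ⟨hC, hCN⟩ := bad_structure h hne hx1 hx (mem_of_smul_eq hx hQ)
  set C := Subgroup.centralizer ({x} : Set G) with hCdef
  obtain ⟨s0, hs0⟩ := exists_prime_orderOf_dvd_card'
    (G := Subgroup.normalizer ((P : Subgroup G) : Set G)) 2 (by rw [card_normalizer h P]; norm_num)
  set s : G := (s0 : G) with hsdef
  have hso : orderOf s = 2 := by rw [Subgroup.orderOf_coe]; exact hs0
  have hs : s * s = 1 := by rw [← pow_two, ← hso, pow_orderOf_eq_one]
  have hsP : s • P = P := Sylow.smul_eq_iff_mem_normalizer.mpr s0.2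
  have hs1 : s ≠ 1 := fun e => by rw [e, orderOf_one] at hso; norm_num at hso
  have hinv := inverts h hs hs1 hsP hx
  -- `s` normalizes but does not centralize `⟨x⟩`
  set N := Subgroup.normalizer ((Subgroup.zpowers x : Subgroup G) : Set G)
  have hCN' : C ≤ N := by
    rw [hCdef, ← Subgroup.centralizer_closure, ← Subgroup.zpowers_eq_closure]
    exact Subgroup.centralizer_le_normalizer _
  have hsN : s ∈ N := by
    refine Subgroup.mem_normalizer_fintype fun a ha => ?_
    obtain ⟨i, rfl⟩ := ha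
    refine ⟨-i, ?_⟩
    show x ^ (-i) = s * x ^ i * s⁻¹
    rw [← conj_zpow, hinv, inv_zpow', ]
  have hsC : s ∉ C := fun hc => by
    have := hCN s hc s0.2
    have ho : orderOf s ∣ 9 := by
      have h' := orderOf_dvd_natCard (⟨s, this⟩ : (P : Subgroup G))
      rwa [Subgroup.orderOf_mk, card_sylow_group h P] at h'
    rw [hso] at ho
    norm_num at ho
  have hlt : C < N := lt_of_le_of_ne hCN' fun e => hsC (e ▸ hsN)
  obtain ⟨m, hm⟩ := Subgroup.card_dvd_of_le hlt.le
  have hgt : Nat.card C < Nat.card N := lt_of_not_ge fun hh => hlt.ne (Subgroup.eq_of_le_of_card_ge hlt.le hh)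
  have hNt : N ≠ ⊤ := fun e => by
    haveI : (Subgroup.zpowers x).Normal := Subgroup.normalizer_eq_top_iff.mp e
    rcases (inferInstance : (Subgroup.zpowers x).Normal).eq_bot_or_eq_top with e1 | e1
    · exact hx1 (Subgroup.zpowers_eq_bot.mp e1)
    · have hle : (Subgroup.zpowers x) ≤ (P : Subgroup G) := Subgroup.zpowers_le.mpr hx
      exact sylow_ne_top (not_comm h) P (top_le_iff.mp (e1 ▸ hle))
  have h6 := six_le_index h hNt
  have hi := N.card_mul_index
  rw [h, hm, hC] at hi
  rw [hm, hC] at hgt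
  have hm2 : 2 ≤ m := by omega
  have := Nat.mul_le_mul hm2 h6
  rw [mul_assoc] at hi
  omega

set_option maxHeartbeats 2000000 in
theorem nonempty_equiv_model (h : Nat.card G = 360) : Nonempty (G ≃* model) := by
  haveI : Fact (Nat.Prime 2) := ⟨Nat.prime_two⟩
  obtain ⟨P⟩ := (inferInstance : Nonempty (Sylow 3 G))
  set N := Subgroup.normalizer ((P : Subgroup G) : Set G) with hN
  have hNc : Nat.card N = 36 := card_normalizer h P
  have hPc := card_sylow_group h P
  have hstab : ∀ g : G, g • P = P ↔ g ∈ N := fun g => Sylow.smul_eq_iff_mem_normalizer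
  obtain ⟨q, hqP⟩ : ∃ q : Sylow 3 G, q ≠ P := by
    haveI : Nontrivial (Sylow 3 G) := Finite.one_lt_card_iff_nontrivial.mp (by rw [card_sylow h]; norm_num)
    exact exists_ne P
  have hfree : ∀ a ∈ (P : Subgroup G), a • q = q → a = 1 := fun a ha e => by
    by_contra ha1
    exact hqP (eq_of_fixes h ha ha1 e)
  -- `P` is transitive on the other points
  have htrans : ∀ Q : Sylow 3 G, Q ≠ P → ∃ a ∈ (P : Subgroup G), a • q = Q := by
    have hne : ∀ a : ↥(P : Subgroup G), (a : G) • q ≠ P := fun a e => hqP (by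
      rw [← inv_smul_smul (a : G) q, e, inv_smul_eq_iff]
      exact ((hstab _).mpr (Subgroup.le_normalizer a.2)).symm)
    let f : ↥(P : Subgroup G) → {Q : Sylow 3 G // Q ≠ P} := fun a => ⟨(a : G) • q, hne a⟩
    have hf : Function.Bijective f := by
      refine (Nat.bijective_iff_injective_and_card f).mpr ⟨fun a b e => ?_, ?_⟩
      · have e' : (a : G) • q = (b : G) • q := congrArg Subtype.val e
        refine Subtype.ext (inv_mul_eq_one.mp (hfree _ (mul_mem (inv_mem b.2) a.2) ?_)).symm
        rw [mul_smul, e', inv_smul_smul]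
      · haveI : Fintype (Sylow 3 G) := Fintype.ofFinite _
        rw [hPc, Nat.card_eq_fintype_card, Fintype.card_subtype_compl, Fintype.card_subtype_eq,
          ← Nat.card_eq_fintype_card, card_sylow h]
    intro Q hQ
    obtain ⟨a, ha⟩ := hf.2 ⟨Q, hQ⟩
    exact ⟨a, a.2, congrArg Subtype.val ha⟩
  -- the stabilizer of two points
  set T := N ⊓ MulAction.stabilizer G q with hT
  have hTc : Nat.card T = 4 := by
    let f : ↥(P : Subgroup G) × T → N := fun a =>
      ⟨(a.1 : G) * (a.2 : G), mul_mem (Subgroup.le_normalizer a.1.2) a.2.2.1⟩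
    have hf : Function.Bijective f := by
      refine ⟨fun a b e => ?_, fun g => ?_⟩
      · have e' : (a.1 : G) * (a.2 : G) = (b.1 : G) * (b.2 : G) := congrArg Subtype.val e
        have ha : (a.1 : G) • q = (b.1 : G) • q := by
          have := congrArg (· • q) e'
          simpa [mul_smul, MulAction.mem_stabilizer_iff.mp a.2.2.2,
            MulAction.mem_stabilizer_iff.mp b.2.2.2] using this
        have h1 : (a.1 : G) = b.1 := (inv_mul_eq_one.mp (hfree _
          (mul_mem (inv_mem b.1.2) a.1.2) (by rw [mul_smul, ha, inv_smul_smul]))).symm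
        rw [h1] at e'
        exact Prod.ext (Subtype.ext h1) (Subtype.ext (mul_left_cancel e'))
      · have hgq : (g : G) • q ≠ P := fun e => hqP (by
          rw [← inv_smul_smul (g : G) q, e, inv_smul_eq_iff]; exact ((hstab _).mpr g.2).symm)
        obtain ⟨a, ha, haq⟩ := htrans _ hgq
        have hm : a⁻¹ * (g : G) ∈ T := Subgroup.mem_inf.mpr
          ⟨mul_mem (inv_mem (Subgroup.le_normalizer ha : a ∈ N)) g.2,
            MulAction.mem_stabilizer_iff.mpr (by rw [mul_smul, ← haq, inv_smul_smul])⟩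
        exact ⟨(⟨a, ha⟩, ⟨_, hm⟩), Subtype.ext (mul_inv_cancel_left a (g : G))⟩
    have := Nat.card_congr (Equiv.ofBijective f hf)
    rw [Nat.card_prod, hPc, hNc] at this
    omega
  have hTP : ∀ a ∈ T, a ∈ (P : Subgroup G) → a = 1 := fun a ha haP => hfree a haP ha.2
  have huniq : ∀ s ∈ T, ∀ s' ∈ T, s * s = 1 → s' * s' = 1 → s ≠ 1 → s' ≠ 1 → s = s' := by
    intro s hs s' hs' h2 h2' h1 h1'
    by_contra hne
    have hsi : s⁻¹ = s := inv_eq_of_mul_eq_one_right h2
    have hsi' : s'⁻¹ = s' := inv_eq_of_mul_eq_one_right h2'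
    haveI : Nontrivial (P : Subgroup G) := Finite.one_lt_card_iff_nontrivial.mp (by rw [hPc]; norm_num)
    obtain ⟨⟨x, hx⟩, hx1⟩ := exists_ne (1 : (P : Subgroup G))
    have hxx : x ≠ 1 := fun e => hx1 (Subtype.ext e)
    set y := s * s' with hy
    have hcx : y * x * y⁻¹ = x := by
      rw [hy, show s * s' * x * (s * s')⁻¹ = s * (s' * x * s'⁻¹) * s⁻¹ by group,
        inverts h h2' h1' ((hstab _).mpr hs'.1) hx,
        inverts h h2 h1 ((hstab _).mpr hs.1) (inv_mem hx), inv_inv]
    have hyT : y ∈ T := mul_mem hs hs'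
    have hy1 : y ≠ 1 := fun e => hne (by
      have e2 := eq_inv_of_mul_eq_one_left e
      rwa [hsi'] at e2)
    have hy4 : y ^ 4 = 1 := by
      have := pow_card_eq_one' (x := (⟨y, hyT⟩ : T))
      rw [hTc] at this
      exact congrArg Subtype.val this
    have hcy : x * y = y * x := (mul_inv_eq_iff_eq_mul.mp hcx).symm
    by_cases hy2 : y * y = 1
    · exact hy1 (no_commute h hx hxx hy2 ((hstab _).mpr hyT.1) hcy)
    · refine hy2 (no_commute h hx hxx ?_ ((hstab _).mpr (mul_mem hyT.1 hyT.1)) ?_)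
      · exact (four_eq y).trans hy4
      · rw [← mul_assoc, hcy, mul_assoc, hcy, ← mul_assoc]
  obtain ⟨i, hiT, hio⟩ : ∃ i ∈ T, orderOf i = 4 := by
    by_contra! hall
    have hinvol : ∀ a ∈ T, a * a = 1 := by
      intro a ha
      have hd : orderOf a ∣ 4 := by
        have := orderOf_dvd_natCard (⟨a, ha⟩ : T)
        rwa [Subgroup.orderOf_mk, hTc] at this
      have h4 := hall a ha
      have hle := Nat.le_of_dvd (by norm_num) hd
      have hd2 : orderOf a ∣ 2 := by
        interval_cases ho : orderOf a <;> simp_all (config := {decide := true})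
      rw [← pow_two]
      exact orderOf_dvd_iff_pow_eq_one.mp hd2
    haveI : Fintype T := Fintype.ofFinite _
    obtain ⟨a, b, c, hab, hac, hbc⟩ := Fintype.two_lt_card_iff.mp
      (show 2 < Fintype.card T by rw [← Nat.card_eq_fintype_card, hTc]; norm_num)
    rcases eq_or_ne (a : G) 1 with ha | ha
    · refine hbc (Subtype.ext (huniq _ b.2 _ c.2 (hinvol _ b.2) (hinvol _ c.2) ?_ ?_)) <;>
        intro e
      · exact hab (Subtype.ext (ha.trans e.symm))
      · exact hac (Subtype.ext (ha.trans e.symm))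
    · rcases eq_or_ne (b : G) 1 with hb | hb
      · refine hac (Subtype.ext (huniq _ a.2 _ c.2 (hinvol _ a.2) (hinvol _ c.2) ha ?_))
        intro e
        exact hbc (Subtype.ext (hb.trans e.symm))
      · exact hab (Subtype.ext (huniq _ a.2 _ b.2 (hinvol _ a.2) (hinvol _ b.2) ha hb))
  have hiT' : T = Subgroup.zpowers i := (Subgroup.eq_of_le_of_card_ge (Subgroup.zpowers_le.mpr hiT)
    (by rw [Nat.card_zpowers, hio, hTc])).symm
  have hi4 : i ^ 4 = 1 := hio ▸ pow_orderOf_eq_one i
  have hiq : i • q = q := hiT.2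
  have hsi : (i * i) * (i * i) = 1 := (four_eq i).trans hi4
  have hsne : i * i ≠ 1 := fun e => by
    have := orderOf_dvd_of_pow_eq_one (show i ^ 2 = 1 by rw [pow_two]; exact e)
    rw [hio] at this
    norm_num at this
  have hi2 : ∀ x ∈ (P : Subgroup G), (i * i) * x * (i * i)⁻¹ = x⁻¹ := fun x hx =>
    inverts h hsi hsne ((hstab _).mpr (mul_mem hiT.1 hiT.1)) hx
  -- generators of `P`
  obtain ⟨u0, hu0⟩ := exists_prime_orderOf_dvd_card' (G := (P : Subgroup G)) 3 (by rw [hPc]; norm_num)
  set u : G := (u0 : G) with hu_def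
  have huP : u ∈ (P : Subgroup G) := u0.2
  have hu : orderOf u = 3 := by rw [Subgroup.orderOf_coe]; exact hu0
  have hu3 : u ^ 3 = 1 := hu ▸ pow_orderOf_eq_one u
  set v : G := i * u * i⁻¹ with hv_def
  have hvP : v ∈ (P : Subgroup G) := conj_mem hiT.1 huP
  have hv3 : v ^ 3 = 1 := by rw [hv_def, conj_pow, hu3, mul_one, mul_inv_cancel]
  have hivi : i * v * i⁻¹ = u ^ 2 := by
    rw [hv_def, show i * (i * u * i⁻¹) * i⁻¹ = (i * i) * u * (i * i)⁻¹ by group, hi2 u huP]
    rw [inv_eq_iff_mul_eq_one, ← pow_succ', hu3]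
  have hvu : v ∉ Subgroup.zpowers u := by
    rw [← mem_powers_iff_mem_zpowers]
    rintro ⟨k, hk⟩
    simp only at hk
    have h2 : u ^ 2 = u ^ (k * k) := by
      rw [← hivi, ← hk, ← conj_pow, ← hv_def, ← hk, ← pow_mul]
    rw [pow_eq_pow_iff_modEq, hu, ← ZMod.natCast_eq_natCast_iff] at h2
    push_cast at h2
    exact two_ne_mul_self _ h2
  have hcuv : Commute u v := comm_sylow h P hvP u huP
  have hrel : ∀ a b : ℕ, u ^ a * v ^ b = 1 → a % 3 = 0 ∧ b % 3 = 0 := by
    intro a b hab
    have hb : b % 3 = 0 := by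
      by_contra hb
      have hvb : v ^ (b % 3) ∈ Subgroup.zpowers u := by
        rw [show v ^ (b % 3) = v ^ b by
          conv_rhs => rw [← Nat.mod_add_div b 3, pow_add, pow_mul, hv3, one_pow, mul_one],
          eq_inv_of_mul_eq_one_right hab]
        exact inv_mem (pow_mem (Subgroup.mem_zpowers u) a)
      have : b % 3 = 1 ∨ b % 3 = 2 := by omega
      rcases this with e | e <;> rw [e] at hvb
      · exact hvu (by rwa [pow_one] at hvb)
      · refine hvu ?_
        have := inv_mem hvb
        rwa [inv_eq_of_mul_eq_one_right (show v ^ 2 * v = 1 by rw [← pow_succ, hv3])] at this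
    refine ⟨?_, hb⟩
    have hua : u ^ a = 1 := by
      rw [← Nat.mod_add_div b 3, hb, zero_add, pow_mul, hv3, one_pow, mul_one] at hab
      exact hab
    have := orderOf_dvd_of_pow_eq_one hua
    rw [hu] at this
    omega
  have tu : ∀ a b : ℕ, a % 3 = b % 3 → u ^ a = u ^ b := fun a b e => by
    rw [pow_eq_pow_iff_modEq, hu]; exact e
  have tv : ∀ a b : ℕ, a % 3 = b % 3 → v ^ a = v ^ b := fun a b e => by
    rw [← Nat.mod_add_div a 3, ← Nat.mod_add_div b 3, pow_add, pow_add, pow_mul, pow_mul, hv3, e,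
      one_pow, one_pow]
  -- the labelling
  let L : Fin 10 → Sylow 3 G := fun x =>
    if x = 9 then P else (u ^ ((x : ℕ) % 3) * v ^ ((x : ℕ) / 3)) • q
  have hL9 : L 9 = P := if_pos rfl
  have hLne : ∀ x : Fin 10, x ≠ 9 → L x = (u ^ ((x : ℕ) % 3) * v ^ ((x : ℕ) / 3)) • q :=
    fun x hx => if_neg hx
  have hL0 : L 0 = q := by rw [hLne 0 (by decide)]; simp
  have hLP : ∀ x : Fin 10, x ≠ 9 → L x ≠ P := fun x hx e => hqP (by
    rw [hLne x hx] at e
    rw [← inv_smul_smul (u ^ ((x : ℕ) % 3) * v ^ ((x : ℕ) / 3)) q, e, inv_smul_eq_iff]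
    exact ((hstab _).mpr (Subgroup.le_normalizer (mul_mem (pow_mem huP _) (pow_mem hvP _)))).symm)
  have hLinj : Function.Injective L := by
    intro x y e
    by_cases hx : x = 9
    · by_cases hy : y = 9
      · rw [hx, hy]
      · exact absurd (e.symm.trans (by rw [hx, hL9])) (hLP y hy)
    by_cases hy : y = 9
    · exact absurd (e.trans (by rw [hy, hL9])) (hLP x hx)
    rw [hLne x hx, hLne y hy] at e
    set a := (x : ℕ) % 3 with ha
    set b := (x : ℕ) / 3 with hb
    set c := (y : ℕ) % 3 with hc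
    set d := (y : ℕ) / 3 with hd
    have h1 : (u ^ c * v ^ d)⁻¹ * (u ^ a * v ^ b) = 1 := hfree _
      (mul_mem (inv_mem (mul_mem (pow_mem huP _) (pow_mem hvP _)))
        (mul_mem (pow_mem huP _) (pow_mem hvP _)))
      (by rw [mul_smul, e, inv_smul_smul])
    have h2 : u ^ (a + 2 * c) * v ^ (b + 2 * d) = 1 := by
      have h3 : u ^ (3 * c) * v ^ (3 * d) = 1 := by rw [pow_mul, pow_mul, hu3, hv3, one_pow, one_pow, one_mul]
      calc u ^ (a + 2 * c) * v ^ (b + 2 * d)
          = (u ^ (2 * c) * v ^ (2 * d)) * (u ^ a * v ^ b) := by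
            rw [add_comm a, add_comm b, pow_add, pow_add, mul_assoc, ← mul_assoc (u ^ a),
              (hcuv.pow_pow a (2 * d)).eq, mul_assoc (v ^ (2 * d)), ← mul_assoc (u ^ (2 * c))]
        _ = (u ^ (2 * c) * v ^ (2 * d)) * (u ^ c * v ^ d) := by
            rw [inv_mul_eq_one.mp h1]
        _ = u ^ (3 * c) * v ^ (3 * d) := by
            rw [show 3 * c = 2 * c + c by omega, show 3 * d = 2 * d + d by omega, pow_add, pow_add,
              mul_assoc, ← mul_assoc (v ^ (2 * d)), ← (hcuv.pow_pow c (2 * d)).eq,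
              mul_assoc (u ^ c), ← mul_assoc (u ^ (2 * c))]
        _ = 1 := h3
    obtain ⟨e1, e2⟩ := hrel _ _ h2
    have := x.isLt
    have := y.isLt
    have : (x : ℕ) ≠ 9 := fun e' => hx (Fin.ext e')
    have : (y : ℕ) ≠ 9 := fun e' => hy (Fin.ext e')
    have hac : a = c := by omega
    have hbd : b = d := by omega
    exact Fin.ext (by omega)
  have hLbij : Function.Bijective L := (Nat.bijective_iff_injective_and_card L).mpr
    ⟨hLinj, by rw [card_sylow h, Nat.card_fin]⟩
  let φ : G →* Equiv.Perm (Fin 10) :=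
    (Equiv.ofBijective L hLbij).symm.permCongrHom.toMonoidHom.comp (MulAction.toPermHom G (Sylow 3 G))
  have hφ : ∀ (g : G) (x : Fin 10), g • L x = L (φ g x) := fun g x =>
    ((Equiv.ofBijective L hLbij).apply_symm_apply (g • L x)).symm
  have hφeq : ∀ (g : G) (f : Equiv.Perm (Fin 10)), (∀ x, g • L x = L (f x)) → φ g = f := fun g f hf =>
    Equiv.ext fun x => hLinj ((hφ g x).symm.trans (hf x))
  have hφU : φ u = permU := hφeq _ _ fun x => by
    have dat : ∀ x : Fin 10, (x = 9 → permU x = 9) ∧ (x ≠ 9 → permU x ≠ 9 ∧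
      ((permU x : Fin 10) : ℕ) % 3 = ((x : ℕ) % 3 + 1) % 3 ∧
      ((permU x : Fin 10) : ℕ) / 3 = (x : ℕ) / 3) := by decide
    by_cases hx : x = 9
    · rw [(dat x).1 hx, hx, hL9]; exact (hstab u).mpr (Subgroup.le_normalizer huP)
    · obtain ⟨h9, h1, h2⟩ := (dat x).2 hx
      rw [hLne _ h9, hLne _ hx, ← mul_smul, ← mul_assoc, ← pow_succ', h2,
        tu _ ((((permU x : Fin 10)) : ℕ) % 3) (by omega)]
  have hφV : φ v = permV := hφeq _ _ fun x => by
    have dat : ∀ x : Fin 10, (x = 9 → permV x = 9) ∧ (x ≠ 9 → permV x ≠ 9 ∧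
      ((permV x : Fin 10) : ℕ) % 3 = (x : ℕ) % 3 ∧
      ((permV x : Fin 10) : ℕ) / 3 = ((x : ℕ) / 3 + 1) % 3) := by decide
    by_cases hx : x = 9
    · rw [(dat x).1 hx, hx, hL9]; exact (hstab v).mpr (Subgroup.le_normalizer hvP)
    · obtain ⟨h9, h1, h2⟩ := (dat x).2 hx
      rw [hLne _ h9, hLne _ hx, ← mul_smul, ← mul_assoc, ← (hcuv.pow_left _).eq, mul_assoc,
        ← pow_succ', h1, tv _ ((((permV x : Fin 10)) : ℕ) / 3) (by omega)]
  have hφI : φ i = permI := hφeq _ _ fun x => by
    have dat : ∀ x : Fin 10, (x = 9 → permI x = 9) ∧ (x ≠ 9 → permI x ≠ 9 ∧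
      ((permI x : Fin 10) : ℕ) % 3 = (2 * ((x : ℕ) / 3)) % 3 ∧
      ((permI x : Fin 10) : ℕ) / 3 = (x : ℕ) % 3) := by decide
    by_cases hx : x = 9
    · rw [(dat x).1 hx, hx, hL9]; exact (hstab i).mpr hiT.1
    · obtain ⟨h9, h1, h2⟩ := (dat x).2 hx
      rw [hLne _ h9, hLne _ hx, ← mul_smul,
        conj_split i u v ((x : ℕ) % 3) ((x : ℕ) / 3),
        ← hv_def, hivi, mul_smul, hiq, ← pow_mul, ← (hcuv.pow_pow _ _).eq, h2,
        tu _ ((((permI x : Fin 10)) : ℕ) % 3) (by omega)]
  have hTimg : ∀ a ∈ T, ∃ k : Fin 4, ∀ x, φ a x = rot k x := by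
    intro a ha
    rw [hiT', ← mem_powers_iff_mem_zpowers] at ha
    obtain ⟨k, rfl⟩ := ha
    refine ⟨⟨k % 4, Nat.mod_lt _ (by norm_num)⟩, fun x => ?_⟩
    rw [rot_eq]
    show φ (i ^ k) x = (permI ^ (k % 4)) x
    rw [← hφI, ← map_pow, ← hio, pow_mod_orderOf]
  -- an element interchanging the two points
  obtain ⟨g, hg1, hg2⟩ : ∃ g : G, g • P = q ∧ g • q = P := by
    obtain ⟨b, hb⟩ := MulAction.exists_smul_eq G q P
    have hbP : b • P ≠ P := fun e => hqP (smul_left_cancel b (hb.trans e.symm))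
    obtain ⟨a, ha, haq⟩ := htrans _ hbP
    refine ⟨a⁻¹ * b, ?_, ?_⟩
    · rw [mul_smul, ← haq, inv_smul_smul]
    · rw [mul_smul, hb, inv_smul_eq_iff]; exact ((hstab _).mpr (Subgroup.le_normalizer ha)).symm
  have hTmem : ∀ a : G, a • P = P → a • q = q → a ∈ T := fun a h1 h2 => ⟨(hstab a).mp h1, h2⟩
  obtain ⟨e, he⟩ : ∃ e : Bool, ∀ (k : Fin 4) (x : Fin 10),
      φ g (rot k x) = rot (if e then k else -k) (φ g x) := by
    have hq' : g⁻¹ • q = P := by rw [← hg1, inv_smul_smul]
    have hP' : g⁻¹ • P = q := by rw [← hg2, inv_smul_smul]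
    have hc : g * i * g⁻¹ ∈ T := by
      refine hTmem _ ?_ ?_
      · rw [mul_smul, mul_smul, hP', hiq, hg2]
      · rw [mul_smul, mul_smul, hq', (hstab i).mpr hiT.1, hg1]
    rw [hiT', ← mem_powers_iff_mem_zpowers] at hc
    obtain ⟨m, hm⟩ := hc
    simp only at hm
    have hord : orderOf (g * i * g⁻¹) = 4 := by
      have := orderOf_injective (MulAut.conj g).toMonoidHom (MulAut.conj g).injective i
      exact this.trans hio
    rw [← pow_mod_orderOf, hio] at hm
    have hm' : m % 4 = 1 ∨ m % 4 = 3 := by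
      have hlt : m % 4 < 4 := Nat.mod_lt _ (by norm_num)
      rw [← hm] at hord
      interval_cases hk : m % 4
      · rw [pow_zero, orderOf_one] at hord; norm_num at hord
      · exact Or.inl rfl
      · have := orderOf_dvd_of_pow_eq_one (show (i ^ 2) ^ 2 = 1 by rw [← pow_mul]; exact hi4)
        rw [hord] at this; norm_num at this
      · exact Or.inr rfl
    have hconj : ∀ (k : ℕ) (x : Fin 10),
        φ g ((permI ^ k) x) = (permI ^ (m % 4 * k)) (φ g x) := by
      intro k x
      have e1 : g * i ^ k = i ^ (m % 4 * k) * g := by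
        rw [pow_mul, hm, conj_pow]; group
      have := congrArg (fun f : Equiv.Perm (Fin 10) => f x) (congrArg φ e1)
      simpa [map_mul, map_pow, hφI] using this
    have hI4 : ∀ a b : ℕ, a % 4 = b % 4 → permI ^ a = permI ^ b := fun a b e => by
      rw [← hφI, ← map_pow, ← map_pow, ← pow_mod_orderOf i a, ← pow_mod_orderOf i b, hio, e]
    rcases hm' with e1 | e1
    · exact ⟨true, fun k x => by rw [rot_eq, rot_eq, hconj, e1, one_mul]; rfl⟩
    · refine ⟨false, fun k x => ?_⟩
      rw [rot_eq, rot_eq, hconj, e1, hI4 (3 * (k : ℕ)) (((-k : Fin 4)) : ℕ)]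
      · rfl
      · revert k; decide
  have hg9 : φ g 9 = 0 := hLinj ((hφ g 9).symm.trans (by rw [hL9, hL0, hg1]))
  have hg0 : φ g 0 = 9 := hLinj ((hφ g 0).symm.trans (by rw [hL9, hL0, hg2]))
  have hcand : ∀ x, φ g x = cand e (φ g 1) (φ g 4) x := by
    intro x
    by_cases h9 : x = 9
    · rw [h9, hg9, cand, if_pos rfl]
    by_cases h0 : x = 0
    · rw [h0, hg0, cand, if_neg (by decide), if_pos rfl]
    rw [cand, if_neg h9, if_neg h0]
    have hx := (orbit_cases x).resolve_left h9 |>.resolve_left h0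
    conv_lhs => rw [← hx, he]
    cases inA x <;> rfl
  have hchk := checkCand_eq e (φ g 1) (φ g 4)
  simp only [checkCand, Bool.or_eq_true, List.any_eq_true, List.all_eq_true, List.mem_finRange,
    true_and, Bool.and_eq_true, bne_iff_ne, beq_iff_eq, forall_const] at hchk
  obtain ⟨g', hg'1, hφW⟩ : ∃ g' : G, g' • P = q ∧ φ g' = permW := by
    rcases hchk with ((hbad | ⟨x, y, hxy, hexy⟩) | ⟨j, hj⟩) | ⟨w, -, hw⟩
    · exfalso
      rcases hbad with ((e1 | e1) | e1) | e1
      · exact absurd ((φ g).injective (e1.trans hg0.symm)) (by decide)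
      · exact absurd ((φ g).injective (e1.trans hg9.symm)) (by decide)
      · exact absurd ((φ g).injective (e1.trans hg0.symm)) (by decide)
      · exact absurd ((φ g).injective (e1.trans hg9.symm)) (by decide)
    · rw [← hcand, ← hcand] at hexy
      exact absurd ((φ g).injective hexy) hxy
    · have hfix : ∀ n : ℕ, i ^ n • P = P := fun n => (hstab _).mpr (pow_mem hiT.1 n)
      refine ⟨g * (i ^ (j : ℕ))⁻¹, ?_, Equiv.ext fun x => ?_⟩
      · rw [mul_smul, inv_smul_eq_iff.mpr (hfix _).symm, hg1]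
      · rw [map_mul, map_inv, map_pow, hφI, Equiv.Perm.mul_apply, hcand, hj, rot_eq,
          Equiv.Perm.inv_def, Equiv.apply_symm_apply]
    · exfalso
      let lg : Fin 5 → G := ![g, u, u * u, v, v * v]
      have hlet : ∀ (c : Fin 5) (x : Fin 10), φ (lg c) x = letter (cand e (φ g 1) (φ g 4)) c x := by
        intro c x
        match c with
        | 0 => exact hcand x
        | 1 => show φ u x = _; rw [hφU]; rfl
        | 2 =>
          show φ (u * u) x = _
          rw [map_mul, hφU]
          exact (by decide : ∀ x : Fin 10, (permU * permU) x =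
            (![2, 0, 1, 5, 3, 4, 8, 6, 7, 9] : Fin 10 → Fin 10) x) x
        | 3 => show φ v x = _; rw [hφV]; rfl
        | 4 =>
          show φ (v * v) x = _
          rw [map_mul, hφV]
          exact (by decide : ∀ x : Fin 10, (permV * permV) x =
            (![6, 7, 8, 0, 1, 2, 3, 4, 5, 9] : Fin 10 → Fin 10) x) x
      let W : G := w.foldr (fun c acc => lg c * acc) 1
      have hW : ∀ x, φ W x = evalWord (cand e (φ g 1) (φ g 4)) w x := by
        intro x
        have key : ∀ (w' : List (Fin 5)) (x : Fin 10),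
            φ (w'.foldr (fun c acc => lg c * acc) 1) x = evalWord (cand e (φ g 1) (φ g 4)) w' x := by
          intro w'
          induction w' with
          | nil => intro x; simp [evalWord]
          | cons c w' ih =>
            intro x
            simp only [List.foldr_cons, evalWord]
            rw [map_mul, Equiv.Perm.mul_apply, hlet]
            congr 1
            exact ih x
        exact key w x
      simp only [kills, Bool.and_eq_true, beq_iff_eq, List.all_eq_true, List.any_eq_true,
        List.mem_finRange, true_and, bne_iff_ne, forall_const] at hw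
      obtain ⟨⟨h9, h0⟩, hk⟩ := hw
      have hWT : W ∈ T := hTmem W
        (by rw [← hL9, hφ W 9, hW 9, h9])
        (by rw [← hL0, hφ W 0, hW 0, h0])
      obtain ⟨k, hkx⟩ := hTimg W hWT
      obtain ⟨x, hx⟩ := hk k
      exact hx ((hW x).symm.trans (hkx x))
  -- generation
  have hgen : Subgroup.closure ({u, i, g'} : Set G) = ⊤ := by
    set K := Subgroup.closure ({u, i, g'} : Set G) with hK
    by_contra hne
    have huK : u ∈ K := Subgroup.subset_closure (by simp)
    have hiK : i ∈ K := Subgroup.subset_closure (by simp)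
    have hgK : g' ∈ K := Subgroup.subset_closure (by simp)
    have hPK : (P : Subgroup G) ≤ K := by
      intro a ha
      have haP : a • q ≠ P := fun e' => hqP (by
        rw [← inv_smul_smul a q, e', inv_smul_eq_iff]
        exact ((hstab _).mpr (Subgroup.le_normalizer ha)).symm)
      obtain ⟨x, hx⟩ := hLbij.2 (a • q)
      have hx9 : x ≠ 9 := fun e' => haP (by rw [← hx, e', hL9])
      rw [hLne x hx9] at hx
      have h1 := hfree _ (mul_mem (inv_mem ha) (mul_mem (pow_mem huP _) (pow_mem hvP _)))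
        (by rw [mul_smul, hx, inv_smul_smul])
      rw [inv_mul_eq_one.mp h1]
      exact mul_mem (pow_mem huK _) (pow_mem (mul_mem (mul_mem hiK huK) (inv_mem hiK)) _)
    have hNK : N ≤ K := by
      intro a ha
      have haq : a • q ≠ P := fun e' => hqP (by
        rw [← inv_smul_smul a q, e', inv_smul_eq_iff]; exact ((hstab _).mpr ha).symm)
      obtain ⟨b, hb, hbq⟩ := htrans _ haq
      have hmem : b⁻¹ * a ∈ T := hTmem _ ((hstab _).mpr (mul_mem (inv_mem (Subgroup.le_normalizer hb)) ha))
        (by rw [mul_smul, ← hbq, inv_smul_smul])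
      rw [hiT'] at hmem
      have h2 := mul_mem (hPK hb) (Subgroup.zpowers_le.mpr hiK hmem)
      rwa [mul_inv_cancel_left] at h2
    have hgN : g' ∉ N := fun hg => hqP (hg'1.symm.trans ((hstab g').mpr hg))
    have hlt : N < K := lt_of_le_of_ne hNK fun e' => hgN (e' ▸ hgK)
    obtain ⟨c, hc⟩ := Subgroup.card_dvd_of_le hlt.le
    have hgt : Nat.card N < Nat.card K :=
      lt_of_not_ge fun hh => hlt.ne (Subgroup.eq_of_le_of_card_ge hlt.le hh)
    rw [hc, hNc] at hgt
    have hi := K.card_mul_index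
    rw [h, hc, hNc] at hi
    have h6 := six_le_index h hne
    have hc2 : 2 ≤ c := by omega
    have h10 : c * K.index = 10 := by rw [mul_assoc] at hi; omega
    have := Nat.mul_le_mul hc2 h6
    omega
  have hrange : φ.range = model := by
    rw [MonoidHom.range_eq_map, ← hgen, MonoidHom.map_closure, Set.image_insert_eq, Set.image_insert_eq,
      Set.image_singleton, hφU, hφI, hφW]
    rfl
  have hinj : Function.Injective φ :=
    (Equiv.ofBijective L hLbij).symm.permCongrHom.injective.comp (toPerm_injective h)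
  exact ⟨(MonoidHom.ofInjective hinj).trans (MulEquiv.subgroupCongr hrange)⟩

end CfsgLib.ThreeSixty
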