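import Mathlib

/-!
# Normalizers of subgroups of prime order `q` in alternating groups of degree `< 2 q`
-/

set_option autoImplicit false

namespace CfsgLib.SmallOrder

open scoped Nat

section

variable {G : Type*} [Group G] [Finite G] {q : ℕ} [hq : Fact q.Prime]

/-- When the Sylow `q`-subgroups have order `q`, the elements of order `q` are their non-identity
elements, each in exactly one of them. -/
theorem card_orderOf_eq_prime (hP : ∀ P : Sylow q G, Nat.card (P : Subgroup G) = q) :
    Nat.card {g : G // orderOf g = q} = Nat.card (Sylow q G) * (q - 1) := by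
  classical
  have : Fintype (Sylow q G) := Fintype.ofFinite _
  let f : (Σ P : Sylow q G, {g : (P : Subgroup G) // g ≠ 1}) → {g : G // orderOf g = q} := fun x =>
    ⟨(x.2.1 : G), by
      have h := orderOf_eq_prime (p := q) (x := x.2.1)
        (orderOf_dvd_iff_pow_eq_one.mp ((orderOf_dvd_natCard x.2.1).trans (dvd_of_eq (hP x.1)))) x.2.2
      rwa [Subgroup.orderOf_coe]⟩
  have hz : ∀ (P : Sylow q G) (g : G), g ∈ (P : Subgroup G) → g ≠ 1 →
      (P : Subgroup G) = Subgroup.zpowers g := by
    intro P g hg hg1
    refine (Subgroup.eq_of_le_of_card_ge (Subgroup.zpowers_le.mpr hg) ?_).symm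
    rw [hP P, Nat.card_zpowers]
    have h := orderOf_eq_prime (p := q) (x := (⟨g, hg⟩ : (P : Subgroup G)))
      (orderOf_dvd_iff_pow_eq_one.mp ((orderOf_dvd_natCard _).trans (dvd_of_eq (hP P))))
      (fun h => hg1 (congrArg Subtype.val h))
    exact le_of_eq (h.symm.trans (Subgroup.orderOf_coe (⟨g, hg⟩ : (P : Subgroup G))).symm)
  have hbij : Function.Bijective f := by
    constructor
    · rintro ⟨P, ⟨g, hg⟩, hg1⟩ ⟨R, ⟨h, hh⟩, hh1⟩ he
      have he' : g = h := congrArg Subtype.val he
      subst he'
      have hne : g ≠ 1 := fun h' => hg1 (Subtype.ext h')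
      have : P = R := Sylow.ext ((hz P g hg hne).trans (hz R g hh hne).symm)
      subst this
      rfl
    · rintro ⟨g, hg⟩
      obtain ⟨P, hPg⟩ := (IsPGroup.of_card (n := 1) (p := q)
        (by rw [Nat.card_zpowers, hg, pow_one] : Nat.card (Subgroup.zpowers g) = q ^ 1)).exists_le_sylow
      refine ⟨⟨P, ⟨g, hPg (Subgroup.mem_zpowers g)⟩, fun h => ?_⟩, rfl⟩
      rw [show g = 1 from congrArg Subtype.val h, orderOf_one] at hg
      exact hq.out.ne_one hg.symm
  rw [← Nat.card_eq_of_bijective f hbij, Nat.card_sigma]
  have : ∀ P : Sylow q G, Nat.card {g : (P : Subgroup G) // g ≠ 1} = q - 1 := by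
    intro P
    have : Fintype (P : Subgroup G) := Fintype.ofFinite _
    rw [Nat.card_eq_fintype_card, Fintype.card_subtype_compl, Fintype.card_subtype_eq,
      ← Nat.card_eq_fintype_card, hP P]
  simp only [this, Finset.sum_const, Finset.card_univ, smul_eq_mul, Nat.card_eq_fintype_card]

end

variable {c q : ℕ} [hq : Fact q.Prime]

theorem orderOf_eq_iff_cycleType (hc : c < 2 * q) (g : Equiv.Perm (Fin c)) :
    orderOf g = q ↔ g.cycleType = {q} := by
  constructor
  · intro h
    obtain ⟨n, hn⟩ := Equiv.Perm.cycleType_prime_order (σ := g) (h ▸ hq.out)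
    rw [h] at hn
    have hle : g.cycleType.sum ≤ c := by
      rw [Equiv.Perm.sum_cycleType]
      exact le_trans (Finset.card_le_univ _) (le_of_eq (Fintype.card_fin c))
    rw [hn, Multiset.sum_replicate, smul_eq_mul] at hle
    rcases n with _ | n
    · simpa using hn
    · exfalso
      have : 2 * q ≤ (n + 1 + 1) * q := Nat.mul_le_mul_right q (by omega)
      omega
  · intro h
    rw [← Equiv.Perm.lcm_cycleType, h, Multiset.lcm_singleton, normalize_eq]

/-- In `A_c`, `q ≤ c < 2 q`, the normalizer of a Sylow `q`-subgroup has order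
`q (q - 1) (c - q)! / 2`. -/
theorem two_mul_card_normalizer_sylow_alternating (hqc : q ≤ c) (hc : c < 2 * q) (hq2 : q ≠ 2)
    (P : Sylow q (alternatingGroup (Fin c))) :
    Nat.card (P : Subgroup (alternatingGroup (Fin c))) = q ∧
      2 * Nat.card (Subgroup.normalizer
          ((P : Subgroup (alternatingGroup (Fin c))) : Set (alternatingGroup (Fin c)))) =
        q * (q - 1) * (c - q)! := by
  classical
  have hodd : Odd q := hq.out.odd_of_ne_two hq2
  have hq3 : 3 ≤ q := by have := hq.out.two_le; omega
  have : Nontrivial (Fin c) := Fin.nontrivial_iff_two_le.mpr (by omega)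
  have hA : 2 * Nat.card (alternatingGroup (Fin c)) = c ! := by
    have h := two_mul_card_alternatingGroup (α := Fin c)
    rw [Fintype.card_perm, Fintype.card_fin] at h
    rw [Nat.card_eq_fintype_card]; exact h
  have hfac : (c !).factorization q = 1 := by
    rw [Nat.factorization_def _ hq.out, padicValNat_factorial (b := 2) (Nat.log_lt_of_lt_pow (by omega) ?_)]
    · rw [show Finset.Ico 1 2 = {1} by rfl, Finset.sum_singleton, pow_one]
      exact Nat.div_eq_of_lt_le (by omega) (by omega)
    · calc c < 2 * q := hc
        _ ≤ q * q := Nat.mul_le_mul_right q (by omega)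
        _ = q ^ 2 := (pow_two q).symm
  have hPq : ∀ R : Sylow q (alternatingGroup (Fin c)), Nat.card (R : Subgroup (alternatingGroup (Fin c))) = q := by
    intro R
    rw [R.card_eq_multiplicity]
    have : (Nat.card (alternatingGroup (Fin c))).factorization q = 1 := by
      rw [← hA, Nat.factorization_mul two_ne_zero Nat.card_pos.ne', Finsupp.add_apply,
        Nat.factorization_eq_zero_of_not_dvd (n := 2) (p := q)] at hfac
      · simpa using hfac
      · intro h
        have := Nat.le_of_dvd two_pos h
        omega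
    rw [this, pow_one]
  refine ⟨hPq P, ?_⟩
  set N := Subgroup.normalizer
    ((P : Subgroup (alternatingGroup (Fin c))) : Set (alternatingGroup (Fin c))) with hN
  -- number of elements of order `q`
  have hcount : Nat.card {g : alternatingGroup (Fin c) // orderOf g = q} = (q - 1)! * c.choose q := by
    have h := AlternatingGroup.card_of_cycleType_singleton (α := Fin c) (n := q) (by omega)
      (by simpa using hqc)
    rw [if_pos hodd, Fintype.card_fin] at h
    rw [← h, Nat.card_eq_fintype_card, Fintype.card_subtype]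
    refine congrArg Finset.card (Finset.filter_congr fun g _ => ?_)
    rw [← Subgroup.orderOf_coe]
    exact orderOf_eq_iff_cycleType hc g.1
  have h1 := card_orderOf_eq_prime hPq
  rw [hcount, Sylow.card_eq_index_normalizer P] at h1
  have h2 := N.card_mul_index
  have h1' : (q - 1)! * c.choose q = N.index * (q - 1) := h1
  have h3 : c.choose q * (q * (q - 1)!) * (c - q)! = c ! := by
    rw [Nat.mul_factorial_pred (by omega)]
    exact Nat.choose_mul_factorial_mul_factorial hqc
  have key : (2 * Nat.card N) * (N.index * (q - 1)) = (q * (q - 1) * (c - q)!) * (N.index * (q - 1)) := by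
    calc (2 * Nat.card N) * (N.index * (q - 1)) = 2 * (Nat.card N * N.index) * (q - 1) := by ring
      _ = c ! * (q - 1) := by rw [h2, hA]
      _ = q * (q - 1) * (c - q)! * ((q - 1)! * c.choose q) := by rw [← h3]; ring
      _ = _ := by rw [h1']
  refine Nat.eq_of_mul_eq_mul_right ?_ key
  exact Nat.mul_pos (Nat.pos_of_ne_zero Subgroup.index_ne_zero_of_finite) (by omega)

/-- A finite group embedded in `A_c` (`q ≤ c < 2 q`): twice the normalizer order of a subgroup of
order `q` divides `q (q - 1) (c - q)!`. -/
theorem two_mul_card_normalizer_dvd {G : Type*} [Group G] [Finite G] (hqc : q ≤ c) (hc : c < 2 * q)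
    (hq2 : q ≠ 2) (f : G →* alternatingGroup (Fin c)) (hf : Function.Injective f) (Q : Subgroup G)
    (hQ : Nat.card Q = q) :
    2 * Nat.card (Subgroup.normalizer (Q : Set G)) ∣ q * (q - 1) * (c - q)! := by
  obtain ⟨P, hP⟩ := (IsPGroup.of_card (n := 1) (p := q) (G := (Q.map f : Subgroup _))
    (by rw [pow_one, ← Nat.card_congr (Q.equivMapOfInjective f hf).toEquiv, hQ])).exists_le_sylow
  obtain ⟨hPc, hN⟩ := two_mul_card_normalizer_sylow_alternating hqc hc hq2 P
  have hPQ : Q.map f = (P : Subgroup _) := Subgroup.eq_of_le_of_card_ge hP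
    (by rw [hPc, ← Nat.card_congr (Q.equivMapOfInjective f hf).toEquiv, hQ])
  rw [← hN]
  refine Nat.mul_dvd_mul_left 2 ?_
  rw [Nat.card_congr ((Subgroup.normalizer (Q : Set G)).equivMapOfInjective f hf).toEquiv]
  refine Subgroup.card_dvd_of_le ?_
  rw [← hPQ]
  exact Subgroup.le_normalizer_map f

end CfsgLib.SmallOrder
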