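import Cfsg.Agent.Lib.SmallOrder.Basic
import Cfsg.Agent.Lib.SmallOrder.PrimeDegree

/-!
# Excluding orders of non-abelian simple groups by Sylow arithmetic
-/

set_option autoImplicit false

namespace CfsgLib.SmallOrder

/-- `e` cannot be the index of a proper subgroup of a simple group of order `n`. -/
def badIndex (n e : ℕ) : Bool :=
  decide (2 ≤ e) && decide (e < 30) &&
    (decide (e.factorial % (2 * n) ≠ 0) ||
      (decide (5 ≤ e) && decide (1 < e.factorial / (2 * n)) && decide (e.factorial / (2 * n) < e)))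

/-- With `q` a prime exactly dividing `n`, a simple group of order `n` has no proper subgroup of
index `e < 2 q`: the normalizer of a Sylow `q`-subgroup does not fit in `A_e`. -/
def badQ (n e q : ℕ) : Bool :=
  decide (3 ≤ q) && decide (q ≤ e) && decide (e < 2 * q) && decide (e - q < 30) &&
    decide (n % q = 0) && decide (n / q % q ≠ 0) &&
    (List.range (n / q + 1)).all fun t =>
      decide (t % q ≠ 1) || decide (n / q % t ≠ 0) || decide (t ≤ 1) ||
        decide ((q * (q - 1) * (e - q).factorial) % (2 * (n / t)) ≠ 0)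

/-- `badIndex` strengthened by the prime `q` (use `q = 0` for none). -/
def badIndexQ (n q e : ℕ) : Bool := badIndex n e || badQ n e q

/-- `s` has a divisor `t > 1` with `t ≡ 1` modulo `p`. -/
def hasSylCand (p s : ℕ) : Bool :=
  (List.range (s + 1)).any fun t => decide (2 ≤ t) && decide (t % p = 1) && decide (s % t = 0)

/-- every possible index of the normalizer of a large Sylow intersection is bad. -/
def indexesBad (n q p m : ℕ) : Bool :=
  (List.range (m + 1)).all fun e =>
    decide (m % e ≠ 0) || decide (e ≤ 1) || !hasSylCand p (m / e) || badIndexQ n q e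

/-- every possible number of Sylow `p`-subgroups is contradictory, for order `n = p ^ a * m`. -/
def excludedAt (n q p a m : ℕ) : Bool :=
  (List.range (m + 1)).all fun c =>
    decide (c % p ≠ 1) || decide (m % c ≠ 0) || decide (c ≤ 1) || badIndexQ n q c ||
      (decide (a = 1) && decide (Nat.gcd (m / c) (p - 1) = 1)) ||
      (decide (2 ≤ a) && decide (c % (p * p) ≠ 1) && indexesBad n q p m)

variable {G : Type*} [Group G] [Finite G] [IsSimpleGroup G]

omit [IsSimpleGroup G] in
theorem card_inf_mul_relIndex (A B : Subgroup G) :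
    Nat.card ↥(A ⊓ B) * A.relIndex B = Nat.card B := by
  have h := (A.subgroupOf B).card_mul_index
  rw [← Nat.card_congr (Subgroup.equivMapOfInjective (A.subgroupOf B) B.subtype
    B.subtype_injective).toEquiv.symm, Subgroup.subgroupOf_map_subtype] at h
  exact h

theorem badIndex_eq_false (hG : ¬ IsMulCommutative G) {H : Subgroup G} (hH : H ≠ ⊤) :
    badIndex (Nat.card G) H.index = false := by
  by_contra h
  rw [Bool.not_eq_false] at h
  simp only [badIndex, Bool.and_eq_true, decide_eq_true_eq, Bool.or_eq_true] at h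
  obtain ⟨⟨-, -⟩, h⟩ := h
  have hd := two_mul_card_dvd_factorial hG hH
  rcases h with h | ⟨⟨h5, h1⟩, h2⟩
  · exact h (Nat.mod_eq_zero_of_dvd hd)
  · rcases index_eq_one_or_le hG hH h5 (Nat.mul_div_cancel' hd) with h' | h' <;> omega

theorem badIndexQ_eq_false (hG : ¬ IsMulCommutative G) {q : ℕ} (hq : q = 0 ∨ q.Prime)
    {H : Subgroup G} (hH : H ≠ ⊤) : badIndexQ (Nat.card G) q H.index = false := by
  simp only [badIndexQ, Bool.or_eq_false_iff]
  refine ⟨badIndex_eq_false hG hH, ?_⟩
  by_contra h
  rw [Bool.not_eq_false] at h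
  simp only [badQ, List.all_eq_true, List.mem_range, Bool.and_eq_true, Bool.or_eq_true,
    decide_eq_true_eq] at h
  obtain ⟨⟨⟨⟨⟨⟨h3, hqe⟩, he⟩, -⟩, hdvd⟩, hnd⟩, hall⟩ := h
  have hqp : q.Prime := hq.resolve_left (by omega)
  have := Fact.mk hqp
  obtain ⟨k, hk⟩ := Nat.dvd_of_mod_eq_zero hdvd
  have hkq : Nat.card G / q = k := by rw [hk, Nat.mul_div_cancel_left _ hqp.pos]
  rw [hkq] at hnd hall
  have hqk : ¬ q ∣ k := fun h' => hnd (Nat.mod_eq_zero_of_dvd h')
  have hk0 : k ≠ 0 := fun h' => hqk (h' ▸ dvd_zero q)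
  obtain ⟨Q⟩ := (inferInstance : Nonempty (Sylow q G))
  have hQ : Nat.card (Q : Subgroup G) = q := by
    rw [Q.card_eq_multiplicity, hk, Nat.factorization_mul hqp.ne_zero hk0, Finsupp.add_apply,
      hqp.factorization_self, Nat.factorization_eq_zero_of_not_dvd hqk, add_zero, pow_one]
  have hQidx : (Q : Subgroup G).index = k := by
    have h1 := (Q : Subgroup G).card_mul_index
    rw [hQ, hk] at h1
    exact Nat.eq_of_mul_eq_mul_left hqp.pos h1
  set t := Nat.card (Sylow q G) with ht
  have htk : t ∣ k := hQidx ▸ Sylow.card_dvd_index Q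
  have hqG : q ∣ Nat.card G := ⟨k, hk⟩
  have ht1 : t ≠ 1 := card_sylow_ne_one hG hqG
  have ht0 : 0 < t := Nat.card_pos
  obtain ⟨f, hf⟩ := exists_injective_alternating hG H hH
  have hd := two_mul_card_normalizer_dvd hqe he (by omega) f hf (Q : Subgroup G) hQ
  have hN : Nat.card (Subgroup.normalizer ((Q : Subgroup G) : Set G)) = Nat.card G / t := by
    have h1 := (Subgroup.normalizer ((Q : Subgroup G) : Set G)).card_mul_index
    erw [← Sylow.card_eq_index_normalizer Q] at h1
    rw [← h1, ← ht, Nat.mul_div_cancel _ ht0]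
  rw [hN] at hd
  have htmod : t % q = 1 := by
    have h' : t % q = 1 % q := card_sylow_modEq_one q G
    rw [h', Nat.mod_eq_of_lt hqp.one_lt]
  rcases hall t (Nat.lt_succ_of_le (Nat.le_of_dvd (Nat.pos_of_ne_zero hk0) htk)) with
    ((h' | h') | h') | h'
  · exact h' htmod
  · exact h' (Nat.mod_eq_zero_of_dvd htk)
  · omega
  · exact h' (Nat.mod_eq_zero_of_dvd hd)

theorem excludedAt_eq_false (hG : ¬ IsMulCommutative G) (q p a m : ℕ) [hp : Fact p.Prime] (hq : q = 0 ∨ q.Prime)
    (ha : a ≠ 0) (hn : Nat.card G = p ^ a * m) (hm : ¬ p ∣ m) :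
    excludedAt (Nat.card G) q p a m = false := by
  by_contra h
  rw [Bool.not_eq_false] at h
  obtain ⟨P⟩ := (inferInstance : Nonempty (Sylow p G))
  have hp1 : 1 < p := hp.out.one_lt
  have hpG : p ∣ Nat.card G := hn ▸ dvd_mul_of_dvd_left (dvd_pow_self p ha) m
  have hm0 : 0 < m := Nat.pos_of_ne_zero fun h0 => hm (h0 ▸ dvd_zero p)
  have hfac : (Nat.card G).factorization p = a := by
    rw [hn, Nat.factorization_mul (by positivity) hm0.ne', Finsupp.add_apply,
      Nat.Prime.factorization_pow hp.out, Finsupp.single_eq_same,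
      Nat.factorization_eq_zero_of_not_dvd hm, add_zero]
  have hPcard : Nat.card (P : Subgroup G) = p ^ a := by
    rw [P.card_eq_multiplicity, hfac]
  have hPidx : (P : Subgroup G).index = m := by
    have h1 := (P : Subgroup G).card_mul_index
    rw [hPcard, hn] at h1
    exact Nat.eq_of_mul_eq_mul_left (by positivity) h1
  set c := Nat.card (Sylow p G) with hc
  have hcm : c ∣ m := hPidx ▸ Sylow.card_dvd_index P
  have hc1 : c % p = 1 := by
    have h1 : c % p = 1 % p := card_sylow_modEq_one p G
    rw [h1, Nat.mod_eq_of_lt hp1]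
  have hc2 : c ≠ 1 := card_sylow_ne_one hG hpG
  simp only [excludedAt, List.all_eq_true, List.mem_range, Bool.or_eq_true, Bool.and_eq_true,
    decide_eq_true_eq] at h
  rcases h c (Nat.lt_succ_of_le (Nat.le_of_dvd hm0 hcm)) with
    ((((h1 | h1) | h1) | h1) | ⟨h1, h2⟩) | ⟨⟨h1, h2⟩, h3⟩
  · exact h1 hc1
  · exact h1 (Nat.mod_eq_zero_of_dvd hcm)
  · have : 0 < c := Nat.card_pos
    omega
  · have hN := normalizer_sylow_ne_top hG hpG P
    have := badIndexQ_eq_false hG hq hN
    erw [← Sylow.card_eq_index_normalizer P] at this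
    exact Bool.false_ne_true (this ▸ h1)
  · obtain ⟨k, hk⟩ := hcm
    have : m / c = k := by rw [hk, Nat.mul_div_cancel_left _ Nat.card_pos]
    rw [this] at h2
    refine not_coprime_of_card_sylow_eq hG P (by rw [hPcard, h1, pow_one]) (m := k) ?_ h2
    rw [hn, h1, pow_one, hk]; ring
  · -- two Sylow subgroups meeting in a subgroup `D` of index `p`
    have hnm : ¬ c ≡ 1 [MOD p ^ 2] := fun hmod => h2 (by
      rw [← pow_two]
      have h' : c % p ^ 2 = 1 % p ^ 2 := hmod
      rw [h', Nat.mod_eq_of_lt (Nat.one_lt_pow two_ne_zero hp1)])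
    obtain ⟨R, hRP, hR⟩ := exists_sylow_relIndex_le hnm P
    rw [show 2 - 1 = 1 by norm_num, pow_one] at hR
    set D : Subgroup G := (P : Subgroup G) ⊓ (R : Subgroup G) with hD
    have hPN := le_normalizer_inf_of_relIndex_eq P R hR
    have hRcard : Nat.card (R : Subgroup G) = p ^ a := by rw [R.card_eq_multiplicity, hfac]
    have e1 := card_inf_mul_relIndex (R : Subgroup G) (P : Subgroup G)
    have e2 := card_inf_mul_relIndex (P : Subgroup G) (R : Subgroup G)
    rw [hPcard, inf_comm, ← hD] at e1
    rw [hRcard, ← hD] at e2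
    have hDpos : 0 < Nat.card D := Nat.card_pos
    have hR' : (P : Subgroup G).relIndex (R : Subgroup G) ≤ p := by
      rw [Nat.eq_of_mul_eq_mul_left hDpos (e2.trans e1.symm)]
      exact hR
    have hRN := le_normalizer_inf_of_relIndex_eq R P hR'
    rw [inf_comm, ← hD] at hRN
    rw [← hD] at hPN
    set N := Subgroup.normalizer (D : Set G) with hN
    have hDbot : D ≠ ⊥ := by
      intro hb
      rw [hb, Subgroup.card_bot, one_mul] at e1
      rw [e1] at hR
      have h' : p ^ a ≤ p ^ 1 := by rwa [pow_one]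
      have := (Nat.pow_le_pow_iff_right hp1).mp h'
      omega
    have hDtop : D ≠ ⊤ := fun ht => sylow_ne_top hG P (top_le_iff.mp (ht ▸ inf_le_left))
    have hNtop : N ≠ ⊤ := fun ht => by
      rcases (Subgroup.normalizer_eq_top_iff.mp ht).eq_bot_or_eq_top with h' | h'
      · exact hDbot h'
      · exact hDtop h'
    -- the order of `N` is `p ^ a * s`
    have hdvd : p ^ a ∣ Nat.card N := hPcard ▸ Subgroup.card_dvd_of_le hPN
    obtain ⟨s, hs⟩ := hdvd
    have hes : N.index * s = m := by
      have h' := N.card_mul_index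
      rw [hs, hn, mul_assoc, mul_comm s] at h'
      exact Nat.eq_of_mul_eq_mul_left (by positivity) h'
    let P' : Sylow p N := P.subtype hPN
    let R' : Sylow p N := R.subtype hRN
    have hP'R' : P' ≠ R' := fun h' => hRP (Sylow.subtype_injective h').symm
    have ht1 : 2 ≤ Nat.card (Sylow p N) := by
      have : Nontrivial (Sylow p N) := ⟨⟨P', R', hP'R'⟩⟩
      exact Finite.one_lt_card
    have ht2 : Nat.card (Sylow p N) % p = 1 := by
      have h' : Nat.card (Sylow p N) % p = 1 % p := card_sylow_modEq_one p N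
      rw [h', Nat.mod_eq_of_lt hp1]
    have ht3 : Nat.card (Sylow p N) ∣ s := by
      have h' := Sylow.card_dvd_index P'
      have h'' := (P' : Subgroup N).card_mul_index
      have hP' : Nat.card (P' : Subgroup N) = p ^ a := by
        rw [← hPcard]
        exact Nat.card_congr (Subgroup.subgroupOfEquivOfLe hPN).toEquiv
      rw [hP', hs] at h''
      rwa [Nat.eq_of_mul_eq_mul_left (by positivity) h''] at h'
    have hs0 : 0 < s := Nat.pos_of_ne_zero fun h' => by simp [h'] at hs; exact Nat.card_pos.ne' hs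
    have hcand : hasSylCand p s = true := by
      simp only [hasSylCand, List.any_eq_true, List.mem_range, Bool.and_eq_true, decide_eq_true_eq]
      exact ⟨_, Nat.lt_succ_of_le (Nat.le_of_dvd hs0 ht3), ⟨ht1, ht2⟩, Nat.mod_eq_zero_of_dvd ht3⟩
    have he : N.index ≤ m := Nat.le_of_dvd hm0 ⟨s, hes.symm⟩
    simp only [indexesBad, List.all_eq_true, List.mem_range, Bool.or_eq_true, Bool.not_eq_true',
      decide_eq_true_eq] at h3
    rcases h3 N.index (Nat.lt_succ_of_le he) with ((h' | h') | h') | h'
    · exact h' (Nat.mod_eq_zero_of_dvd ⟨s, hes.symm⟩)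
    · have := two_le_index hNtop
      omega
    · rw [show m / N.index = s by
        rw [← hes, Nat.mul_div_cancel_left _ (by have := two_le_index hNtop; omega)]] at h'
      exact Bool.false_ne_true (h'.symm.trans hcand)
    · exact Bool.false_ne_true ((badIndexQ_eq_false hG hq hNtop).symm.trans h')

omit [Finite G] in
/-- A simple group with an abelian law has prime order (or is infinite). -/
theorem not_comm_of_not_prime [Finite G] (h : ¬ (Nat.card G).Prime) : ¬ IsMulCommutative G := by
  intro hG
  let _ : CommGroup G := { ‹Group G› with mul_comm := fun a b => hG.is_comm.comm a b }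
  exact h (IsSimpleGroup.prime_card)

theorem false_of_excludedAt (hG : ¬ IsMulCommutative G) (q p a m : ℕ) (hq : q = 0 ∨ q.Prime)
    (hp : p.Prime) (ha : a ≠ 0)
    (hm : ¬ p ∣ m) (hn : Nat.card G = p ^ a * m) (h : excludedAt (p ^ a * m) q p a m = true) :
    False := by
  have := Fact.mk hp
  rw [← hn] at h
  exact Bool.false_ne_true ((excludedAt_eq_false hG q p a m hq ha hn hm).symm.trans h)

end CfsgLib.SmallOrder
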