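import Cfsg.Agent.Lib.SmallOrder.Basic

/-!
# The smallest prime in a non-abelian simple group; intersections of Sylow subgroups
-/

set_option autoImplicit false

namespace CfsgLib.SmallOrder

variable {G : Type*} [Group G] [Finite G] [IsSimpleGroup G]

/-- The Sylow subgroup for the smallest prime divisor of a non-abelian simple group is not
cyclic. -/
theorem not_isCyclic_minFac (hG : ¬ IsMulCommutative G) {p : ℕ} [Fact p.Prime]
    (hp : (Nat.card G).minFac = p) (P : Sylow p G) : ¬ IsCyclic (P : Subgroup G) := by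
  intro hc
  exact not_normalizer_le_centralizer hG (hp ▸ Nat.minFac_dvd _) P
    (hc.normalizer_le_centralizer hp)

/-- An element of prime order `q` normalizing, not centralizing, an abelian subgroup of order
`p ^ 2` has `q ∣ p ^ 2 - 1` or `q ∣ p (p - 1)`. -/
theorem dvd_of_acts_on_card_sq {H : Type*} [Group H] [Finite H] {p q : ℕ} [hp : Fact p.Prime]
    [Fact q.Prime] (P : Subgroup H) (hP : Nat.card P = p ^ 2) (x : H) (hx : orderOf x = q)
    (hN : x ∈ Subgroup.normalizer (P : Set H)) (hC : x ∉ Subgroup.centralizer (P : Set H)) :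
    q ∣ p ^ 2 - 1 ∨ q ∣ p ^ 2 - p := by
  let K : Subgroup H := Subgroup.zpowers x
  have hK : IsPGroup q K := IsPGroup.of_card (n := 1) (by rw [Nat.card_zpowers, hx, pow_one])
  have hKN : ∀ k : K, (k : H) ∈ Subgroup.normalizer (P : Set H) := fun k =>
    Subgroup.zpowers_le.mpr hN k.2
  let act : MulAction K P :=
    { smul := fun k a => ⟨(k : H) * a * (k : H)⁻¹,
        (Subgroup.mem_normalizer_iff.mp (hKN k) a).mp a.2⟩
      one_smul := fun a => Subtype.ext (show (1 : H) * a * (1 : H)⁻¹ = a by simp)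
      mul_smul := fun k l a => Subtype.ext (show ((k : H) * l) * a * ((k : H) * l)⁻¹ =
        (k : H) * ((l : H) * a * (l : H)⁻¹) * (k : H)⁻¹ by group) }
  have hmod := hK.card_modEq_card_fixedPoints P
  let F : Subgroup H := P ⊓ Subgroup.centralizer ({x} : Set H)
  have hF : Nat.card (MulAction.fixedPoints K P) = Nat.card F := by
    refine Nat.card_congr
      { toFun := fun a => ⟨(a.1 : H), a.1.2, ?_⟩
        invFun := fun a => ⟨⟨a.1, a.2.1⟩, ?_⟩
        left_inv := fun a => rfl
        right_inv := fun a => rfl }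
    · apply Subgroup.mem_centralizer_singleton_iff.mpr
      have h : x * (a.1 : H) * x⁻¹ = a.1 :=
        congrArg Subtype.val (a.2 ⟨x, Subgroup.mem_zpowers x⟩)
      exact (mul_inv_eq_iff_eq_mul.mp h).symm
    · intro k
      apply Subtype.ext
      show (k : H) * a.1 * (k : H)⁻¹ = a.1
      obtain ⟨n, hn⟩ := k.2
      have hcomm : Commute a.1 x := Subgroup.mem_centralizer_singleton_iff.mp a.2.2
      rw [← hn]
      exact mul_inv_eq_iff_eq_mul.mpr (hcomm.zpow_right n).symm.eq
  have hFP : F ≠ P := by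
    intro h
    apply hC
    intro a ha
    exact Subgroup.mem_centralizer_singleton_iff.mp ((h ▸ ha : a ∈ F)).2
  rw [hF, hP] at hmod
  have hdvd : Nat.card F ∣ p ^ 2 := hP ▸ Subgroup.card_dvd_of_le inf_le_left
  obtain ⟨j, hj, hjc⟩ := (Nat.dvd_prime_pow hp.out).mp hdvd
  rw [hjc] at hmod
  have hle : p ^ j ≤ p ^ 2 := Nat.pow_le_pow_right hp.out.pos hj
  have hd := (Nat.modEq_iff_dvd' hle).mp hmod.symm
  interval_cases j
  · left; simpa using hd
  · right; simpa using hd
  · exact absurd (Subgroup.eq_of_le_of_card_ge inf_le_left (le_of_eq (hP.trans hjc.symm))) hFP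

/-- Two Sylow `p`-subgroups meeting in index `p`: a proper subgroup of order `p ^ a * s` with
several Sylow `p`-subgroups. -/
theorem exists_subgroup_of_not_modEq_sq (hG : ¬ IsMulCommutative G) {p a : ℕ} [Fact p.Prime]
    (ha : 2 ≤ a) (P : Sylow p G) (hP : Nat.card (P : Subgroup G) = p ^ a)
    (h : ¬ Nat.card (Sylow p G) ≡ 1 [MOD p ^ 2]) :
    ∃ (N : Subgroup G) (s : ℕ), N ≠ ⊤ ∧ Nat.card N = p ^ a * s ∧
      2 ≤ Nat.card (Sylow p N) ∧ Nat.card (Sylow p N) ∣ s := by
  have hp1 : 1 < p := (Fact.out : p.Prime).one_lt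
  obtain ⟨R, hRP, hR⟩ := exists_sylow_relIndex_le h P
  rw [show 2 - 1 = 1 by norm_num, pow_one] at hR
  have hPN := le_normalizer_inf_of_relIndex_eq P R hR
  have hRcard : Nat.card (R : Subgroup G) = p ^ a :=
    (Nat.card_congr (R.equiv P).toEquiv).trans hP
  set D : Subgroup G := (P : Subgroup G) ⊓ (R : Subgroup G) with hD
  have hcm : ∀ A B : Subgroup G, Nat.card ↥(A ⊓ B) * A.relIndex B = Nat.card B := fun A B => by
    have h := (A.subgroupOf B).card_mul_index
    rw [← Nat.card_congr (Subgroup.equivMapOfInjective (A.subgroupOf B) B.subtype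
      B.subtype_injective).toEquiv.symm, Subgroup.subgroupOf_map_subtype] at h
    exact h
  have e1 := hcm (R : Subgroup G) (P : Subgroup G)
  have e2 := hcm (P : Subgroup G) (R : Subgroup G)
  rw [hP, inf_comm, ← hD] at e1
  rw [hRcard, ← hD] at e2
  have hR' : (P : Subgroup G).relIndex (R : Subgroup G) ≤ p := by
    rw [Nat.eq_of_mul_eq_mul_left (Nat.card_pos (α := D)) (e2.trans e1.symm)]
    exact hR
  have hRN := le_normalizer_inf_of_relIndex_eq R P hR'
  rw [inf_comm, ← hD] at hRN
  have hDbot : D ≠ ⊥ := by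
    intro hb
    rw [hb, Subgroup.card_bot, one_mul] at e1
    rw [e1] at hR
    have h' : p ^ a ≤ p ^ 1 := by rwa [pow_one]
    have := (Nat.pow_le_pow_iff_right hp1).mp h'
    omega
  have hDtop : D ≠ ⊤ := fun ht => sylow_ne_top hG P (top_le_iff.mp (ht ▸ inf_le_left))
  have hNtop : Subgroup.normalizer (D : Set G) ≠ ⊤ := fun ht => by
    rcases (Subgroup.normalizer_eq_top_iff.mp ht).eq_bot_or_eq_top with h' | h'
    · exact hDbot h'
    · exact hDtop h'
  obtain ⟨s, hs⟩ := hP ▸ Subgroup.card_dvd_of_le hPN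
  refine ⟨Subgroup.normalizer (D : Set G), s, hNtop, hs, ?_, ?_⟩
  · have : Nontrivial (Sylow p ↥(Subgroup.normalizer (D : Set G))) :=
      ⟨⟨P.subtype hPN, R.subtype hRN, fun h' => hRP (Sylow.subtype_injective h').symm⟩⟩
    exact Finite.one_lt_card
  · have h' := Sylow.card_dvd_index (P.subtype hPN)
    have h'' := (P.subtype hPN : Subgroup ↥(Subgroup.normalizer (D : Set G))).card_mul_index
    erw [Nat.card_congr (Subgroup.subgroupOfEquivOfLe hPN).toEquiv] at h''
    rw [hP, hs] at h''
    rwa [Nat.eq_of_mul_eq_mul_left (by positivity) h''] at h'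

end CfsgLib.SmallOrder
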