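import Mathlib

/-!
# Small simple groups: actions on cosets and Sylow counting

For a finite simple group `G`: faithful action on the cosets of a proper subgroup, the embedding
in an alternating group, Sylow number bounds and exclusion of indices.
-/

set_option autoImplicit false

namespace CfsgLib.SmallOrder

open scoped Pointwise

variable {G : Type*} [Group G]

section Cosets

variable [IsSimpleGroup G]

/-- A simple group acts faithfully on the cosets of a proper subgroup. -/
theorem toPermHom_injective {H : Subgroup G} (hH : H ≠ ⊤) :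
    Function.Injective (MulAction.toPermHom G (G ⧸ H)) := by
  rw [← MonoidHom.ker_eq_bot_iff, ← Subgroup.normalCore_eq_ker]
  rcases (Subgroup.normalCore_normal H).eq_bot_or_eq_top with h | h
  · exact h
  · exact absurd (top_le_iff.mp (h ▸ Subgroup.normalCore_le H)) hH

/-- A monoid hom out of a non-abelian simple group into `ℤˣ` (or any abelian group) is trivial. -/
theorem map_eq_one_of_comm {A : Type*} [CommGroup A] (hG : ¬ IsMulCommutative G) (f : G →* A)
    (g : G) : f g = 1 := by
  rcases f.normal_ker.eq_bot_or_eq_top with h | h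
  · refine absurd ⟨⟨fun a b => ?_⟩⟩ hG
    exact (MonoidHom.ker_eq_bot_iff f).mp h (by rw [map_mul, map_mul, mul_comm])
  · exact (h ▸ Subgroup.mem_top g : g ∈ f.ker)

variable [Finite G]

/-- A non-abelian simple group with a proper subgroup `H` embeds in the alternating group on
`H.index` points. -/
theorem exists_injective_alternating (hG : ¬ IsMulCommutative G) (H : Subgroup G) (hH : H ≠ ⊤) :
    ∃ f : G →* ↥(alternatingGroup (Fin H.index)), Function.Injective f := by
  let e : G ⧸ H ≃ Fin H.index := Finite.equivFinOfCardEq (Subgroup.index_eq_card H).symm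
  let f : G →* Equiv.Perm (Fin H.index) :=
    e.permCongrHom.toMonoidHom.comp (MulAction.toPermHom G (G ⧸ H))
  have hf : Function.Injective f :=
    e.permCongrHom.injective.comp (toPermHom_injective hH)
  refine ⟨f.codRestrict _ (fun g => ?_), fun a b h => hf (congrArg Subtype.val h)⟩
  exact Equiv.Perm.mem_alternatingGroup.mpr (map_eq_one_of_comm hG (Equiv.Perm.sign.comp f) g)

theorem two_le_index {H : Subgroup G} (hH : H ≠ ⊤) : 2 ≤ H.index := by
  have h0 : H.index ≠ 0 := Subgroup.index_ne_zero_of_finite
  have h1 : H.index ≠ 1 := fun h => hH (Subgroup.index_eq_one.mp h)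
  omega

theorem card_alternating_fin {n : ℕ} (hn : 2 ≤ n) :
    2 * Nat.card ↥(alternatingGroup (Fin n)) = n.factorial := by
  have : Nontrivial (Fin n) := Fin.nontrivial_iff_two_le.mpr hn
  have h := two_mul_card_alternatingGroup (α := Fin n)
  rw [Fintype.card_perm, Fintype.card_fin] at h
  rw [Nat.card_eq_fintype_card]
  exact h

/-- The order of a non-abelian simple group divides half the factorial of every proper index. -/
theorem two_mul_card_dvd_factorial (hG : ¬ IsMulCommutative G) {H : Subgroup G} (hH : H ≠ ⊤) :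
    2 * Nat.card G ∣ H.index.factorial := by
  obtain ⟨f, hf⟩ := exists_injective_alternating hG H hH
  rw [← card_alternating_fin (two_le_index hH)]
  exact Nat.mul_dvd_mul_left 2 (Subgroup.card_dvd_of_injective f hf)

/-- If `G` sits in `A_n` (`5 ≤ n`) with index `k > 1` then `n ≤ k`. -/
theorem index_eq_one_or_le (hG : ¬ IsMulCommutative G) {H : Subgroup G} (hH : H ≠ ⊤)
    (h5 : 5 ≤ H.index) {k : ℕ} (hk : 2 * Nat.card G * k = H.index.factorial) :
    k = 1 ∨ H.index ≤ k := by
  obtain ⟨f, hf⟩ := exists_injective_alternating hG H hH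
  generalize hn : H.index = n at f hf h5 hk ⊢
  have hs : IsSimpleGroup ↥(alternatingGroup (Fin n)) :=
    alternatingGroup.isSimpleGroup (by simpa using h5)
  have hn2 : 2 ≤ n := by omega
  have hna : ¬ IsMulCommutative ↥(alternatingGroup (Fin n)) := fun h =>
    hG ⟨⟨fun a b => hf (by rw [map_mul, map_mul, h.is_comm.comm])⟩⟩
  have hcard : Nat.card f.range = Nat.card G :=
    (Nat.card_congr (MonoidHom.ofInjective hf).toEquiv).symm
  have hidx : f.range.index = k := by
    have h1 := f.range.card_mul_index
    rw [hcard] at h1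
    have h2 := card_alternating_fin hn2
    have : 0 < 2 * Nat.card G := Nat.mul_pos two_pos Nat.card_pos
    apply Nat.eq_of_mul_eq_mul_left this
    rw [hk, ← h2, ← h1, mul_assoc]
  by_cases ht : f.range = ⊤
  · left; rw [← hidx, ht, Subgroup.index_top]
  · right
    have h3 := two_mul_card_dvd_factorial hna ht
    rw [hidx, card_alternating_fin hn2] at h3
    by_contra hlt
    push_neg at hlt
    have h4 : n.factorial ≤ k.factorial := Nat.le_of_dvd (Nat.factorial_pos k) h3
    have h5' : k.factorial < n.factorial := by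
      refine (Nat.factorial_lt ?_).mpr hlt
      rw [← hidx]
      exact Nat.pos_of_ne_zero Subgroup.index_ne_zero_of_finite
    omega

end Cosets

section Sylow

variable [Finite G] [IsSimpleGroup G] {p : ℕ} [Fact p.Prime]

theorem sylow_ne_top (hG : ¬ IsMulCommutative G) (P : Sylow p G) : (P : Subgroup G) ≠ ⊤ := by
  intro h
  have hp : IsPGroup p G := fun g => by
    obtain ⟨k, hk⟩ := P.2 ⟨g, h ▸ Subgroup.mem_top g⟩
    exact ⟨k, congrArg Subtype.val hk⟩
  have := hp.isNilpotent
  exact hG ⟨⟨(IsSimpleGroup.comm_iff_isSolvable (G := G)).mpr inferInstance⟩⟩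

theorem normalizer_sylow_ne_top (hG : ¬ IsMulCommutative G) (hp : p ∣ Nat.card G)
    (P : Sylow p G) : Subgroup.normalizer ((P : Subgroup G) : Set G) ≠ ⊤ := by
  intro h
  rcases (Subgroup.normalizer_eq_top_iff.mp h).eq_bot_or_eq_top with h1 | h1
  · exact P.ne_bot_of_dvd_card hp h1
  · exact sylow_ne_top hG P h1

theorem card_sylow_ne_one (hG : ¬ IsMulCommutative G) (hp : p ∣ Nat.card G) :
    Nat.card (Sylow p G) ≠ 1 := by
  obtain ⟨P⟩ := (inferInstance : Nonempty (Sylow p G))
  rw [Sylow.card_eq_index_normalizer P, Ne, Subgroup.index_eq_one]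
  exact normalizer_sylow_ne_top hG hp P

theorem two_mul_card_dvd_factorial_sylow (hG : ¬ IsMulCommutative G) (hp : p ∣ Nat.card G) :
    2 * Nat.card G ∣ (Nat.card (Sylow p G)).factorial := by
  obtain ⟨P⟩ := (inferInstance : Nonempty (Sylow p G))
  rw [Sylow.card_eq_index_normalizer P]
  exact two_mul_card_dvd_factorial hG (normalizer_sylow_ne_top hG hp P)

/-- Burnside: in a non-abelian simple group no Sylow subgroup is central in its normalizer. -/
theorem not_normalizer_le_centralizer (hG : ¬ IsMulCommutative G) (hp : p ∣ Nat.card G)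
    (P : Sylow p G) :
    ¬ Subgroup.normalizer ((P : Subgroup G) : Set G) ≤
        Subgroup.centralizer ((P : Subgroup G) : Set G) := by
  intro hP
  have hc := MonoidHom.ker_transferSylow_isComplement' P hP
  rcases (MonoidHom.transferSylow P hP).normal_ker.eq_bot_or_eq_top with h | h
  · rw [h] at hc
    exact sylow_ne_top hG P (Subgroup.isComplement'_bot_left.mp hc)
  · rw [h] at hc
    exact P.ne_bot_of_dvd_card hp (Subgroup.isComplement'_top_left.mp hc)

end Sylow

section NormalizerCentralizer

variable [Finite G]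

/-- If the order of `N_G(P)`, divided by a cyclic `P` of prime order, is prime to `p - 1`, then
`P` is central in its normalizer. -/
theorem normalizer_le_centralizer_of_coprime {p : ℕ} [Fact p.Prime] (P : Subgroup G)
    (hP : Nat.card P = p) {m : ℕ}
    (hm : Nat.card (Subgroup.normalizer (P : Set G)) = p * m)
    (hco : Nat.Coprime m (p - 1)) :
    Subgroup.normalizer (P : Set G) ≤ Subgroup.centralizer (P : Set G) := by
  set N := Subgroup.normalizer (P : Set G)
  have hcyc : IsCyclic P := isCyclic_of_prime_card hP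
  set C := (Subgroup.centralizer (P : Set G)).subgroupOf N
  have hker : P.normalizerMonoidHom.ker = C := Subgroup.normalizerMonoidHom_ker P
  have h1 : C.index ∣ p - 1 := by
    rw [← hker, Subgroup.index_ker]
    refine (Subgroup.card_subgroup_dvd_card _).trans ?_
    rw [IsCyclic.card_mulAut, hP, Nat.totient_prime Fact.out]
  have hPle : P.subgroupOf N ≤ C := by
    intro x hx
    rw [Subgroup.mem_subgroupOf] at hx ⊢
    intro y hy
    exact congrArg Subtype.val (IsMulCommutative.is_comm.comm (⟨y, hy⟩ : P) ⟨x, hx⟩)
  have h2 : C.index ∣ m := by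
    refine (Subgroup.index_dvd_of_le hPle).trans ?_
    have h3 := (P.subgroupOf N).card_mul_index
    rw [Nat.card_congr (Subgroup.subgroupOfEquivOfLe Subgroup.le_normalizer).toEquiv, hP, hm] at h3
    exact dvd_of_eq (Nat.eq_of_mul_eq_mul_left (Fact.out : p.Prime).pos h3)
  have h4 : C.index = 1 := Nat.eq_one_of_dvd_coprimes hco h2 h1
  intro x hx
  have : (⟨x, hx⟩ : N) ∈ C := by rw [Subgroup.index_eq_one.mp h4]; trivial
  exact Subgroup.mem_subgroupOf.mp this

variable [IsSimpleGroup G]

/-- Burnside exclusion: a Sylow `p`-subgroup of order `p` needs `N/C` non-trivial. -/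
theorem not_coprime_of_card_sylow_eq {p : ℕ} [Fact p.Prime] (hG : ¬ IsMulCommutative G)
    (P : Sylow p G) (hP : Nat.card (P : Subgroup G) = p) {m : ℕ}
    (hm : Nat.card G = Nat.card (Sylow p G) * (p * m)) : ¬ Nat.Coprime m (p - 1) := by
  intro hco
  have hp : p ∣ Nat.card G := ⟨Nat.card (Sylow p G) * m, by rw [hm]; ring⟩
  refine not_normalizer_le_centralizer hG hp P
    (normalizer_le_centralizer_of_coprime (P : Subgroup G) hP ?_ hco)
  have h1 := (Subgroup.normalizer ((P : Subgroup G) : Set G)).card_mul_index
  erw [← Sylow.card_eq_index_normalizer P] at h1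
  rw [hm, mul_comm] at h1
  exact Nat.eq_of_mul_eq_mul_left Nat.card_pos h1

end NormalizerCentralizer

section Intersection

variable [Finite G] {p : ℕ} [Fact p.Prime]

/-- If `n_p` is not `1` modulo `p ^ k`, two Sylow `p`-subgroups meet in index at most
`p ^ (k - 1)`. -/
theorem exists_sylow_relIndex_le {k : ℕ} (h : ¬ Nat.card (Sylow p G) ≡ 1 [MOD p ^ k])
    (P : Sylow p G) :
    ∃ R : Sylow p G, R ≠ P ∧ (R : Subgroup G).relIndex (P : Subgroup G) ≤ p ^ (k - 1) := by
  classical
  by_contra hcon
  push_neg at hcon
  have : Fintype (Sylow p G) := Fintype.ofFinite _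
  set Ω := MulAction.orbitRel.Quotient (P : Subgroup G) (Sylow p G)
  have : Fintype Ω := Fintype.ofFinite _
  let o : Ω → ℕ := fun q => Nat.card q.orbit
  have hsum : Nat.card (Sylow p G) = ∑ q : Ω, o q := by
    rw [Nat.card_congr (MulAction.selfEquivSigmaOrbits' (P : Subgroup G) (Sylow p G)), Nat.card_sigma]
  -- the orbit of `P` is a singleton; every other orbit has size divisible by `p ^ k`
  have key : ∀ R : Sylow p G, R ≠ P → p ^ k ∣ Nat.card (MulAction.orbit (P : Subgroup G) R) := by
    intro R hR
    have h1 := hcon R hR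
    have hst : MulAction.stabilizer (P : Subgroup G) R =
        ((R : Subgroup G) ⊓ (P : Subgroup G)).subgroupOf (P : Subgroup G) := by
      ext ⟨x, hx⟩
      rw [MulAction.mem_stabilizer_iff, Subgroup.mem_subgroupOf]
      constructor
      · intro hfix
        have hxN : x ∈ Subgroup.normalizer ((R : Subgroup G) : Set G) :=
          Sylow.smul_eq_iff_mem_normalizer.mp hfix
        have hmem : x ∈ Subgroup.normalizer ((R : Subgroup G) : Set G) ⊓ (P : Subgroup G) :=
          ⟨hxN, hx⟩
        rw [inf_comm] at hmem
        have h' := (IsPGroup.inf_normalizer_sylow P.2 R).le hmem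
        exact ⟨h'.2, hx⟩
      · intro hmem
        exact Sylow.smul_eq_iff_mem_normalizer.mpr (Subgroup.le_normalizer hmem.1)
    have h2 : Nat.card (MulAction.orbit (P : Subgroup G) R) =
        (R : Subgroup G).relIndex (P : Subgroup G) := by
      rw [Nat.card_coe_set_eq, ← MulAction.index_stabilizer, hst, Subgroup.inf_subgroupOf_right]
      rfl
    obtain ⟨j, hj⟩ := (P.2.index ((R : Subgroup G).subgroupOf (P : Subgroup G)))
    have hj' : (R : Subgroup G).relIndex (P : Subgroup G) = p ^ j := hj
    rw [h2, hj']
    apply pow_dvd_pow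
    rw [hj'] at h1
    have := (Nat.pow_lt_pow_iff_right (Fact.out : p.Prime).one_lt).mp h1
    omega
  apply h
  rw [hsum, ← Finset.add_sum_erase _ _ (Finset.mem_univ (Quotient.mk'' P : Ω))]
  have hone : o (Quotient.mk'' P) = 1 := by
    show Nat.card (MulAction.orbitRel.Quotient.orbit (Quotient.mk'' P : Ω)) = 1
    rw [MulAction.orbitRel.Quotient.orbit_mk, Nat.card_coe_set_eq, ← MulAction.index_stabilizer,
      Subgroup.index_eq_one,
      eq_top_iff]
    exact fun x _ => Sylow.smul_eq_iff_mem_normalizer.mpr (Subgroup.le_normalizer x.2)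
  rw [hone]
  refine (Nat.modEq_iff_dvd' (Nat.le_add_right 1 _)).mpr ?_ |>.symm
  rw [Nat.add_sub_cancel_left]
  refine Finset.dvd_sum fun q hq => ?_
  induction q using Quotient.inductionOn' with
  | h R =>
    show p ^ k ∣ Nat.card (MulAction.orbitRel.Quotient.orbit (Quotient.mk'' R : Ω))
    rw [MulAction.orbitRel.Quotient.orbit_mk]
    exact key R fun h => (Finset.mem_erase.mp hq).1 (h ▸ rfl)

/-- The normalizer of an intersection of index `≤ p` in two Sylow subgroups contains both. -/
theorem le_normalizer_inf_of_relIndex_eq (P R : Sylow p G)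
    (h : (R : Subgroup G).relIndex (P : Subgroup G) ≤ p) :
    (P : Subgroup G) ≤
      Subgroup.normalizer (((P : Subgroup G) ⊓ (R : Subgroup G) : Subgroup G) : Set G) := by
  have hle : (P : Subgroup G) ⊓ R ≤ P := inf_le_left
  have hd : ((P : Subgroup G) ⊓ R).subgroupOf (P : Subgroup G) = (R : Subgroup G).subgroupOf P :=
    Subgroup.inf_subgroupOf_left _ _
  have hnorm : (((P : Subgroup G) ⊓ R).subgroupOf (P : Subgroup G)).Normal := by
    by_cases htop : ((P : Subgroup G) ⊓ R).subgroupOf (P : Subgroup G) = ⊤
    · rw [htop]; infer_instance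
    apply Subgroup.normal_of_index_eq_minFac_card
    have hidx : (((P : Subgroup G) ⊓ R).subgroupOf (P : Subgroup G)).index ≤ p := by
      rw [hd]; exact h
    obtain ⟨j, hj⟩ := P.2.index (((P : Subgroup G) ⊓ R).subgroupOf (P : Subgroup G))
    have hj0 : j ≠ 0 := by
      rintro rfl
      exact htop (Subgroup.index_eq_one.mp (by simpa using hj))
    obtain ⟨a, ha⟩ := P.2.exists_card_eq
    have ha0 : a ≠ 0 := by
      rintro rfl
      rw [pow_zero] at ha
      have := Subgroup.index_dvd_card (((P : Subgroup G) ⊓ R).subgroupOf (P : Subgroup G))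
      rw [ha, Nat.dvd_one] at this
      exact htop (Subgroup.index_eq_one.mp this)
    rw [ha, hj, Nat.Prime.pow_minFac Fact.out ha0]
    rw [hj] at hidx
    have : j ≤ 1 := (Nat.pow_le_pow_iff_right (Fact.out : p.Prime).one_lt).mp (by rwa [pow_one])
    rw [show j = 1 by omega, pow_one]
  exact (Subgroup.normal_subgroupOf_iff_le_normalizer hle).mp hnorm

end Intersection

end CfsgLib.SmallOrder
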