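import Cfsg.Agent.Lib.SmallOrder.OneSixEight

/-!
A simple group of order 168 is determined by its action on the eight Sylow 7-subgroups.
-/

set_option autoImplicit false
set_option linter.style.haveILetI false

namespace CfsgLib.OneSixEight

open CfsgLib.SmallOrder

abbrev Pt : Type := Option (ZMod 7)

/-- `x ↦ x + 1`. -/
def permT : Equiv.Perm Pt where
  toFun := Option.map (· + 1)
  invFun := Option.map (· + 6)
  left_inv := by intro x; revert x; decide
  right_inv := by intro x; revert x; decide

/-- `x ↦ 2 x`. -/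
def permH : Equiv.Perm Pt where
  toFun := Option.map (2 * ·)
  invFun := Option.map (4 * ·)
  left_inv := by intro x; revert x; decide
  right_inv := by intro x; revert x; decide

/-- `x ↦ -1 / x` as a map. -/
def invNeg : Pt → Pt
  | none => some 0
  | some x => if x = 0 then none else some (6 * x ^ 5)

/-- `x ↦ -1 / x`. -/
def permW : Equiv.Perm Pt where
  toFun := invNeg
  invFun := invNeg
  left_inv := by intro x; revert x; decide
  right_inv := by intro x; revert x; decide

/-- The model. -/
def model : Subgroup (Equiv.Perm Pt) := Subgroup.closure {permT, permH, permW}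

theorem forced : ∀ c : ZMod 7, c ≠ 0 → c ≠ 1 → c ≠ 2 → c ≠ 4 → c = 6 ∨ 2 * c = 6 ∨ 4 * c = 6 := by
  decide

variable {G : Type*} [Group G] [Finite G] [IsSimpleGroup G]

theorem nonempty_equiv_model (h : Nat.card G = 168) : Nonempty (G ≃* model) := by
  classical
  haveI : Fact (Nat.Prime 3) := ⟨by norm_num⟩
  obtain ⟨P⟩ := (inferInstance : Nonempty (Sylow 7 G))
  set N := Subgroup.normalizer ((P : Subgroup G) : Set G) with hN
  have hNc : Nat.card N = 21 := card_normalizer_seven h P
  have hstab : ∀ g : G, g • P = P ↔ g ∈ N := fun g => Sylow.smul_eq_iff_mem_normalizer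
  have hno6 : ∀ g : G, orderOf g ≠ 6 := by
    intro g e
    rcases orderOf_cases h g with h1 | h1 | h1 <;> rw [e] at h1 <;> norm_num at h1
  -- the translation
  have hPc := card_sylow_prime h (Or.inr rfl : (7 : ℕ) = 3 ∨ (7 : ℕ) = 7) P
  obtain ⟨t0, ht0⟩ := exists_prime_orderOf_dvd_card' (G := (P : Subgroup G)) 7 (by rw [hPc])
  set t : G := (t0 : G)
  have ht : orderOf t = 7 := by rw [Subgroup.orderOf_coe]; exact ht0
  have hPt : (P : Subgroup G) = Subgroup.zpowers t := (Subgroup.eq_of_le_of_card_ge
    (Subgroup.zpowers_le.mpr t0.2) (by rw [Nat.card_zpowers, ht, hPc])).symm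
  have htN : t ∈ N := Subgroup.le_normalizer t0.2
  have tpow : ∀ a b : ℕ, (a : ZMod 7) = b → t ^ a = t ^ b := fun a b e => by
    rw [pow_eq_pow_iff_modEq, ht]
    exact (ZMod.natCast_eq_natCast_iff _ _ _).mp e
  have tfix : ∀ (n : ℕ) (Q : Sylow 7 G), t ^ n • Q = Q → t ^ n = 1 ∨ Q = P := by
    intro n Q hQ
    by_cases h1 : t ^ n = 1
    · exact Or.inl h1
    right
    have hp : IsPGroup 7 (Subgroup.zpowers (t ^ n)) :=
      P.2.to_le (Subgroup.zpowers_le.mpr (pow_mem t0.2 n))
    have hle : Subgroup.zpowers (t ^ n) ≤ (Q : Subgroup G) := by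
      have := hp.inf_normalizer_sylow Q
      rw [inf_eq_left.mpr (Subgroup.zpowers_le.mpr (Sylow.smul_eq_iff_mem_normalizer.mp hQ))] at this
      exact this.le.trans inf_le_right
    have ho : orderOf (t ^ n) = 7 := by
      have hd : orderOf (t ^ n) ∣ 7 := ht ▸ orderOf_pow_dvd n
      rcases (Nat.dvd_prime (by norm_num)).mp hd with e | e
      · exact absurd (orderOf_eq_one_iff.mp e) h1
      · exact e
    refine Sylow.ext ?_
    rw [← Subgroup.eq_of_le_of_card_ge hle
      (by rw [Nat.card_zpowers, ho, card_sylow_prime h (Or.inr rfl) Q])]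
    exact Subgroup.eq_of_le_of_card_ge (Subgroup.zpowers_le.mpr (pow_mem t0.2 n))
      (by rw [Nat.card_zpowers, ho, hPc])
  -- the torus
  obtain ⟨h0, hh0, hh2⟩ : ∃ u : G, (orderOf u = 3 ∧ u ∈ N) ∧ u * t * u⁻¹ = t ^ 2 := by
    obtain ⟨u0, hu0⟩ := exists_prime_orderOf_dvd_card' (G := N) 3 (by rw [hNc]; norm_num)
    set u : G := (u0 : G)
    have hu : orderOf u = 3 := by rw [Subgroup.orderOf_coe]; exact hu0
    have hm : u * t * u⁻¹ ∈ Subgroup.zpowers t :=
      hPt ▸ (Subgroup.mem_normalizer_iff.mp u0.2 t).mp t0.2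
    rw [← mem_powers_iff_mem_zpowers] at hm
    obtain ⟨k, hk⟩ := hm
    simp only at hk
    have key : ∀ a : ℕ, u * t ^ a * u⁻¹ = t ^ (k * a) := fun a => by rw [← conj_pow, ← hk, pow_mul]
    have h3 : (k : ZMod 7) ^ 3 = 1 := by
      have e : t ^ (k * (k * (k * 1))) = t ^ 1 := by
        rw [← key, ← key, ← key]
        have hu3 : u ^ 3 = 1 := hu ▸ pow_orderOf_eq_one u
        rw [pow_succ, pow_two] at hu3
        calc u * (u * (u * t ^ 1 * u⁻¹) * u⁻¹) * u⁻¹
            = (u * u * u) * t ^ 1 * (u * u * u)⁻¹ := by group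
          _ = t ^ 1 := by rw [hu3]; group
      rw [pow_eq_pow_iff_modEq, ht, ← ZMod.natCast_eq_natCast_iff] at e
      push_cast at e
      rw [← e]; ring
    have hk1 : (k : ZMod 7) ≠ 1 := by
      intro e
      have h1 : t ^ k = t := by
        have := tpow k 1 (by rw [e]; norm_num)
        rwa [pow_one] at this
      rw [h1] at hk
      have hc : u ∈ Subgroup.centralizer ({t} : Set G) :=
        Subgroup.mem_centralizer_singleton_iff.mpr (eq_mul_inv_iff_mul_eq.mp hk).symm
      rw [centralizer_of_prime h (Or.inr rfl) t ht] at hc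
      have := orderOf_dvd_natCard (⟨u, hc⟩ : Subgroup.zpowers t)
      rw [Subgroup.orderOf_mk, Nat.card_zpowers, ht, hu] at this
      norm_num at this
    have hk24 : (k : ZMod 7) = 2 ∨ (k : ZMod 7) = 4 := by
      generalize (k : ZMod 7) = z at h3 hk1 ⊢
      revert h3 hk1
      revert z
      decide
    rcases hk24 with e | e
    · exact ⟨u, ⟨hu, u0.2⟩, hk.symm.trans (tpow k 2 (by rw [e]; norm_num))⟩
    · refine ⟨u⁻¹, ⟨by rw [orderOf_inv, hu], inv_mem u0.2⟩, ?_⟩
      have h2 := key 2
      rw [tpow (k * 2) 1 (by push_cast; rw [e]; decide), pow_one] at h2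
      calc u⁻¹ * t * u⁻¹⁻¹ = u⁻¹ * (u * t ^ 2 * u⁻¹) * u⁻¹⁻¹ := by rw [h2]
        _ = t ^ 2 := by group
  obtain ⟨q, hqP, hqh⟩ : ∃ q : Sylow 7 G, q ≠ P ∧ h0 • q = q := by
    have hp : IsPGroup 3 (Subgroup.zpowers h0) :=
      IsPGroup.of_card (n := 1) (by rw [Nat.card_zpowers, hh0.1, pow_one])
    have hmod := hp.card_modEq_card_fixedPoints (Sylow 7 G)
    rw [card_sylow_seven h] at hmod
    have hP : P ∈ MulAction.fixedPoints (Subgroup.zpowers h0) (Sylow 7 G) := fun z => by
      rw [Subgroup.smul_def]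
      exact (hstab _).mpr (Subgroup.zpowers_le.mpr hh0.2 z.2)
    have h1 : 1 < Nat.card (MulAction.fixedPoints (Subgroup.zpowers h0) (Sylow 7 G)) := by
      by_contra hle
      have : 0 < Nat.card (MulAction.fixedPoints (Subgroup.zpowers h0) (Sylow 7 G)) := by
        haveI : Nonempty (MulAction.fixedPoints (Subgroup.zpowers h0) (Sylow 7 G)) := ⟨⟨P, hP⟩⟩
        exact Nat.card_pos
      rw [show Nat.card (MulAction.fixedPoints (Subgroup.zpowers h0) (Sylow 7 G)) = 1 by omega] at hmod
      exact absurd hmod (by decide)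
    haveI := Finite.one_lt_card_iff_nontrivial.mp h1
    obtain ⟨⟨q, hq⟩, hne⟩ := exists_ne (⟨P, hP⟩ : MulAction.fixedPoints (Subgroup.zpowers h0) (Sylow 7 G))
    exact ⟨q, fun e => hne (Subtype.ext e), hq ⟨h0, Subgroup.mem_zpowers h0⟩⟩
  let L : Pt → Sylow 7 G := fun o => o.elim P fun i => t ^ i.val • q
  have hLinj : Function.Injective L := by
    have hne : ∀ i : ZMod 7, t ^ i.val • q ≠ P := fun i e => by
      refine hqP ?_
      rw [← inv_smul_smul (t ^ i.val) q, e, inv_smul_eq_iff]
      exact ((hstab _).mpr (pow_mem htN _)).symm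
    rintro (_ | a) (_ | b) e
    · rfl
    · exact absurd e.symm (hne b)
    · exact absurd e (hne a)
    · congr 1
      change t ^ a.val • q = t ^ b.val • q at e
      by_contra hab
      have h1 : t ^ (a - b).val • q = q := by
        have he : t ^ a.val = t ^ b.val * t ^ (a - b).val := by
          rw [← pow_add]
          exact tpow _ _ (by push_cast; rw [ZMod.natCast_zmod_val, ZMod.natCast_zmod_val, ZMod.natCast_zmod_val]; ring)
        rwa [he, mul_smul, smul_left_cancel_iff] at e
      rcases tfix _ _ h1 with h2 | h2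
      · rw [← pow_zero t, pow_eq_pow_iff_modEq, ht, ← ZMod.natCast_eq_natCast_iff] at h2
        rw [ZMod.natCast_zmod_val, Nat.cast_zero] at h2
        exact hab (sub_eq_zero.mp h2)
      · exact hqP h2
  have hLbij : Function.Bijective L := (Nat.bijective_iff_injective_and_card L).mpr
    ⟨hLinj, by rw [card_sylow_seven h, Finite.card_option, Nat.card_zmod]⟩
  set e := Equiv.ofBijective L hLbij with he
  let φ : G →* Equiv.Perm Pt :=
    e.symm.permCongrHom.toMonoidHom.comp (MulAction.toPermHom G (Sylow 7 G))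
  have hφ : ∀ (g : G) (x : Pt), g • L x = L (φ g x) := fun g x =>
    (e.apply_symm_apply (g • L x)).symm
  have hφeq : ∀ (g : G) (f : Equiv.Perm Pt), (∀ x, g • L x = L (f x)) → φ g = f := fun g f hf =>
    Equiv.ext fun x => hLinj ((hφ g x).symm.trans (hf x))
  have hφT : φ t = permT := hφeq _ _ fun x => by
    rcases x with _ | i
    · exact (hstab t).mpr htN
    · show t • t ^ i.val • q = t ^ (i + 1).val • q
      rw [← mul_smul, ← pow_succ']
      congr 1
      exact tpow _ _ (by push_cast; rw [ZMod.natCast_zmod_val, ZMod.natCast_zmod_val])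
  have hφH : φ h0 = permH := hφeq _ _ fun x => by
    rcases x with _ | i
    · exact (hstab h0).mpr hh0.2
    · show h0 • t ^ i.val • q = t ^ (2 * i).val • q
      rw [← mul_smul, show h0 * t ^ i.val = (h0 * t * h0⁻¹) ^ i.val * h0 by rw [conj_pow]; group,
        hh2, mul_smul, hqh, ← pow_mul]
      congr 1
      exact tpow _ _ (by push_cast; rw [ZMod.natCast_zmod_val, ZMod.natCast_zmod_val])
  -- the stabilizer of two points
  have h2pt : ∀ g : G, g • P = P → g • q = q → g ∈ Subgroup.zpowers h0 := by
    intro g hgP hgq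
    set T := N ⊓ MulAction.stabilizer G q with hT
    have hle : Subgroup.zpowers h0 ≤ T :=
      le_inf (Subgroup.zpowers_le.mpr hh0.2) (Subgroup.zpowers_le.mpr hqh)
    have hlt : T < N := lt_of_le_of_ne inf_le_left fun e => by
      have : t • q = q := (e.ge htN).2
      rcases tfix 1 q (by rwa [pow_one]) with h1 | h1
      · rw [pow_one] at h1
        rw [h1, orderOf_one] at ht
        norm_num at ht
      · exact hqP h1
    have hd := Subgroup.card_dvd_of_le hlt.le
    rw [hNc] at hd
    have h3 : 3 ∣ Nat.card T := by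
      rw [← hh0.1, ← Nat.card_zpowers]; exact Subgroup.card_dvd_of_le hle
    have hlt' : Nat.card T < 21 := hNc ▸ lt_of_not_ge fun hh => hlt.ne (Subgroup.eq_of_le_of_card_ge hlt.le hh)
    have : Nat.card T = 3 := by
      obtain ⟨c, hc⟩ := h3
      rw [hc] at hd hlt' ⊢
      have : c < 7 := by omega
      interval_cases c <;> first | rfl | norm_num at hd
    rw [Subgroup.eq_of_le_of_card_ge hle (by rw [this, Nat.card_zpowers, hh0.1])]
    exact ⟨(hstab g).mp hgP, hgq⟩
  -- properties of an element interchanging the two points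
  have hswap : ∀ g : G, g • P = q → g • q = P → g * g = 1 ∧ (∀ x, φ g x ≠ x) ∧
      ∀ x, φ g (permH x) = permH (permH (φ g x)) := by
    intro g h1 h2
    have hgg := h2pt (g * g) (by rw [mul_smul, h1, h2]) (by rw [mul_smul, h2, h1])
    have hgn : g ∉ Subgroup.zpowers h0 := fun hg => hqP
      (h1.symm.trans ((hstab g).mpr (Subgroup.zpowers_le.mpr hh0.2 hg)))
    have h3 : (g * g) ^ 3 = 1 := by
      obtain ⟨i, hi⟩ := hgg
      simp only at hi
      rw [← hi, ← zpow_natCast, ← zpow_mul, mul_comm, zpow_mul, zpow_natCast, ← hh0.1,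
        pow_orderOf_eq_one, one_zpow]
    have hsq : g * g = 1 := by
      rcases orderOf_cases h g with e | e | e
      · refine absurd ?_ hgn
        have : g = (g * g) ^ 2 := by
          rw [← pow_two, ← pow_mul, show 2 * 2 = 3 + 1 by rfl, pow_succ,
            show g ^ 3 = 1 from e ▸ pow_orderOf_eq_one g, one_mul]
        rw [this]; exact pow_mem hgg 2
      · refine absurd ?_ hgn
        have : g = (g * g) ^ 4 := by
          rw [← pow_two, ← pow_mul, show 2 * 4 = 7 + 1 by rfl, pow_succ,
            show g ^ 7 = 1 from e ▸ pow_orderOf_eq_one g, one_mul]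
        rw [this]; exact pow_mem hgg 4
      · have h4 : (g * g) ^ 4 = 1 := by
          rw [← pow_two, ← pow_mul]; exact orderOf_dvd_iff_pow_eq_one.mp e
        rw [pow_succ, h3, one_mul] at h4
        exact h4
    have hg2 : orderOf g = 2 := orderOf_eq_prime (by rw [pow_two]; exact hsq)
      fun e1 => hgn (e1 ▸ one_mem _)
    refine ⟨hsq, fun x hx => ?_, ?_⟩
    · have hfix : g • L x = L x := by rw [hφ, hx]
      have hg : g ∈ Subgroup.normalizer ((L x : Subgroup G) : Set G) :=
        Sylow.smul_eq_iff_mem_normalizer.mp hfix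
      have := orderOf_dvd_natCard (⟨g, hg⟩ : Subgroup.normalizer ((L x : Subgroup G) : Set G))
      rw [Subgroup.orderOf_mk, hg2, card_normalizer_seven h] at this
      norm_num at this
    · have hgi : g⁻¹ = g := inv_eq_of_mul_eq_one_right hsq
      have hc : g * h0 * g⁻¹ ∈ Subgroup.zpowers h0 := by
        refine h2pt _ ?_ ?_
        · rw [hgi, mul_smul, mul_smul, h1, hqh, h2]
        · rw [hgi, mul_smul, mul_smul, h2, (hstab h0).mpr hh0.2, h1]
      rw [← mem_powers_iff_mem_zpowers] at hc
      obtain ⟨k, hk⟩ := hc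
      simp only at hk
      have hk2 : g * h0 * g⁻¹ = h0 * h0 := by
        rw [← hk, ← pow_mod_orderOf, hh0.1]
        have : k % 3 < 3 := Nat.mod_lt _ (by norm_num)
        rw [← pow_mod_orderOf, hh0.1] at hk
        interval_cases hkk : k % 3
        · exfalso
          rw [pow_zero] at hk
          have : h0 = 1 := by
            have := congrArg (fun z => g⁻¹ * z * g) hk
            simpa [mul_assoc] using this.symm
          rw [this, orderOf_one] at hh0
          norm_num at hh0
        · exfalso
          rw [pow_one] at hk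
          have hcm : Commute g h0 := (eq_mul_inv_iff_mul_eq.mp hk).symm
          refine hno6 (g * h0) ?_
          rw [hcm.orderOf_mul_eq_mul_orderOf_of_coprime (by rw [hg2, hh0.1]; norm_num), hg2, hh0.1]
        · rw [pow_two]
      intro x
      have := congrArg (fun f : Equiv.Perm Pt => f x)
        (congrArg φ (mul_inv_eq_iff_eq_mul.mp hk2))
      simpa [map_mul, hφH] using this
  -- the involution
  obtain ⟨g, hg1, hg2, hg3⟩ : ∃ g : G, g • P = q ∧ g • q = P ∧ φ g (some 1) = some 6 := by
    obtain ⟨b, hb⟩ := MulAction.exists_smul_eq G q P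
    obtain ⟨g, hg1, hg2⟩ : ∃ g : G, g • P = q ∧ g • q = P := by
      obtain ⟨x, hx⟩ := hLbij.2 (b • P)
      rcases x with _ | i
      · have hbP : b • P = P := hx.symm
        exact absurd (smul_left_cancel b (hb.trans hbP.symm)) hqP
      · refine ⟨(t ^ i.val)⁻¹ * b, ?_, ?_⟩
        · rw [mul_smul, ← hx]; exact inv_smul_smul _ _
        · rw [mul_smul, hb, inv_smul_eq_iff]; exact ((hstab _).mpr (pow_mem htN _)).symm
    obtain ⟨hgg, hfix, hcomm⟩ := hswap g hg1 hg2
    have hn : φ g none = some 0 := hLinj ((hφ g none).symm.trans (by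
      show g • P = t ^ (0 : ZMod 7).val • q
      rw [ZMod.val_zero, pow_zero, one_smul]; exact hg1))
    have h0' : φ g (some 0) = none := hLinj ((hφ g (some 0)).symm.trans (by
      show g • t ^ (0 : ZMod 7).val • q = P
      rw [ZMod.val_zero, pow_zero, one_smul]; exact hg2))
    obtain ⟨c, hc⟩ : ∃ c, φ g (some 1) = some c := by
      cases hh : φ g (some 1) with
      | none => exact absurd ((φ g).injective (hh.trans h0'.symm)) (by decide)
      | some c => exact ⟨c, rfl⟩
    have hc0 : c ≠ 0 := fun e => absurd ((φ g).injective (hc.trans (e ▸ hn.symm))) (by decide)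
    have hc2 : φ g (some 2) = some (4 * c) := by
      have := hcomm (some 1)
      rw [hc] at this
      refine this.trans ?_
      show some (2 * (2 * c)) = some (4 * c)
      rw [← mul_assoc]; rfl
    have hc4 : φ g (some 4) = some (2 * c) := by
      have := hcomm (some 2)
      rw [hc2] at this
      refine this.trans ?_
      show some (2 * (2 * (4 * c))) = some (2 * c)
      rw [← mul_assoc, ← mul_assoc]; rfl
    have hc1 : c ≠ 1 := fun e => hfix _ (by rw [hc, e])
    have hc2' : c ≠ 2 := fun e => hfix _ (by rw [hc4, e]; rfl)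
    have hc4' : c ≠ 4 := fun e => hfix _ (by rw [hc2, e]; rfl)
    have hmul : ∀ j : ℕ, (h0 ^ j * g) • P = q ∧ (h0 ^ j * g) • q = P := by
      intro j
      have hq' : h0 ^ j • q = q := by
        induction j with
        | zero => rw [pow_zero, one_smul]
        | succ j ih => rw [pow_succ, mul_smul, hqh, ih]
      exact ⟨by rw [mul_smul, hg1, hq'], by rw [mul_smul, hg2, (hstab _).mpr (pow_mem hh0.2 j)]⟩
    rcases forced c hc0 hc1 hc2' hc4' with e | e | e
    · exact ⟨g, hg1, hg2, e ▸ hc⟩
    · refine ⟨h0 ^ 1 * g, (hmul 1).1, (hmul 1).2, ?_⟩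
      rw [pow_one, map_mul, hφH, Equiv.Perm.mul_apply, hc]
      exact congrArg some e
    · refine ⟨h0 ^ 2 * g, (hmul 2).1, (hmul 2).2, ?_⟩
      rw [map_mul, map_pow, hφH, pow_two, Equiv.Perm.mul_apply, Equiv.Perm.mul_apply, hc]
      refine congrArg some (Eq.trans ?_ e)
      show 2 * (2 * c) = 4 * c
      rw [← mul_assoc]; rfl
  have hφW : φ g = permW := by
    obtain ⟨hgg, hfix, hcomm⟩ := hswap g hg1 hg2
    have hinv : ∀ x y, φ g x = y → φ g y = x := fun x y hxy => by
      rw [← hxy, ← Equiv.Perm.mul_apply, ← map_mul, hgg, map_one]; rfl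
    have hn : φ g none = some 0 := hLinj ((hφ g none).symm.trans (by
      show g • P = t ^ (0 : ZMod 7).val • q
      rw [ZMod.val_zero, pow_zero, one_smul]; exact hg1))
    have h2 : φ g (some 2) = some 3 := by
      have := hcomm (some 1); rw [hg3] at this; exact this
    have h4 : φ g (some 4) = some 5 := by
      have := hcomm (some 2); rw [h2] at this; exact this
    refine Equiv.ext fun x => ?_
    have hall : ∀ y : Pt, y = none ∨ y = some 0 ∨ y = some 1 ∨ y = some 2 ∨ y = some 3 ∨ y = some 4 ∨
        y = some 5 ∨ y = some 6 := by decide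
    rcases hall x with rfl | rfl | rfl | rfl | rfl | rfl | rfl | rfl
    · exact hn
    · exact hinv _ _ hn
    · exact hg3
    · exact h2
    · exact hinv _ _ h2
    · exact h4
    · exact hinv _ _ h4
    · exact hinv _ _ hg3
  -- generation
  have hgen : Subgroup.closure ({t, h0, g} : Set G) = ⊤ := by
    set K := Subgroup.closure ({t, h0, g} : Set G) with hK
    by_contra hne
    have htK : t ∈ K := Subgroup.subset_closure (by simp)
    have hhK : h0 ∈ K := Subgroup.subset_closure (by simp)
    have hgK : g ∈ K := Subgroup.subset_closure (by simp)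
    have h21 : 21 ∣ Nat.card (K ⊓ N : Subgroup G) := by
      rw [show (21 : ℕ) = 3 * 7 by rfl]
      refine (Nat.Coprime.mul_dvd_of_dvd_of_dvd (by norm_num) ?_ ?_)
      · rw [← hh0.1, ← Nat.card_zpowers]
        exact Subgroup.card_dvd_of_le (Subgroup.zpowers_le.mpr ⟨hhK, hh0.2⟩)
      · rw [← ht, ← Nat.card_zpowers]
        exact Subgroup.card_dvd_of_le (Subgroup.zpowers_le.mpr ⟨htK, htN⟩)
    have hNK : N ≤ K := (Subgroup.eq_of_le_of_card_ge (inf_le_right : K ⊓ N ≤ N)
      (by rw [hNc]; exact Nat.le_of_dvd Nat.card_pos h21)).ge.trans inf_le_left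
    have hgN : g ∉ N := fun hg => hqP (hg1.symm.trans ((hstab g).mpr hg))
    have hlt : N < K := lt_of_le_of_ne hNK fun e => hgN (e ▸ hgK)
    obtain ⟨c, hc⟩ := Subgroup.card_dvd_of_le hlt.le
    rw [hNc] at hc
    have hgt : 21 < Nat.card K := hNc ▸ lt_of_not_ge fun hh => hlt.ne (Subgroup.eq_of_le_of_card_ge hlt.le hh)
    have hi := K.card_mul_index
    rw [h, hc] at hi
    have h8 : c * K.index = 8 := by
      rw [mul_assoc] at hi
      omega
    have hd := two_mul_card_dvd_factorial (not_comm h) hne
    have hc2 : 2 ≤ c := by omega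
    rw [h] at hd
    have hi4 : K.index ≤ 4 := by
      have := Nat.mul_le_mul_right K.index hc2
      omega
    interval_cases hk : K.index <;> norm_num at hd
  have hrange : φ.range = model := by
    rw [MonoidHom.range_eq_map, ← hgen, MonoidHom.map_closure, Set.image_insert_eq, Set.image_insert_eq,
      Set.image_singleton, hφT, hφH, hφW]
    rfl
  have hinj : Function.Injective φ := by
    rw [← MonoidHom.ker_eq_bot_iff]
    refine (φ.normal_ker.eq_bot_or_eq_top).resolve_right fun e => ?_
    have : φ g none = none := by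
      rw [MonoidHom.mem_ker.mp (e ▸ Subgroup.mem_top g)]; rfl
    rw [hφW] at this
    exact absurd this (by decide)
  exact ⟨(MonoidHom.ofInjective hinj).trans (MulEquiv.subgroupCongr hrange)⟩

end CfsgLib.OneSixEight
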