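import Cfsg.Agent.Lib.SmallOrder.PSLElevenData
import Cfsg.Agent.Lib.AutPSL.Basic
import Cfsg.Agent.Lib.SL2.PSL
import Cfsg.Agent.Lib.Classical.Transvection
import Cfsg.Agent.S0804
import Cfsg.Agent.S0675
import Cfsg.Agent.Lib.SL2.MaxClass
import Cfsg.Agent.Lib.SL2.Large

/-!
The subgroups of `PSL(2, 11)` isomorphic to `A₅`.
-/

set_option autoImplicit false
set_option maxRecDepth 100000
set_option linter.unusedSectionVars false
set_option linter.style.haveILetI false

namespace CfsgLib.PSLEleven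

open Matrix
open scoped MatrixGroups Pointwise

lemma red_dec {k : ℕ} (hk : k < 14641) : Red (dec k) := by
  simp only [Red, dec]; omega

lemma dec_cod {m : M4} (h : Red m) : dec (cod m) = m := by
  obtain ⟨a, b, c, d⟩ := m
  simp only [Red] at h
  simp only [dec, cod, Prod.mk.injEq]
  omega

lemma cod_lt {m : M4} (h : Red m) : cod m < 14641 := by
  obtain ⟨a, b, c, d⟩ := m
  simp only [Red] at h
  simp only [cod]
  omega

lemma red_neg (m : M4) : Red (neg m) := by simp only [Red, neg]; omega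

lemma red_mul (m n : M4) : Red (mul m n) := by simp only [Red, mul]; omega

lemma red_cnj (g x : M4) : Red (cnj g x) := red_mul _ _

section Field

variable (F : Type*) [Field F]

/-- The matrix of the entries. -/
def mat (m : M4) : Matrix (Fin 2) (Fin 2) F :=
  !![(m.1 : F), (m.2.1 : F); (m.2.2.1 : F), (m.2.2.2 : F)]

/-- The special linear matrix with the given entries. -/
def sl (m : M4) (h : (mat F m).det = 1) : SL(2, F) := ⟨mat F m, h⟩

/-- The element of `PSL(2, F)` with the given entries. -/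
noncomputable def el (m : M4) : PSL(2, F) := by
  classical exact if h : (mat F m).det = 1 then AutPSL.mkP (sl F m h) else 1

variable {F} [CharP F 11]

lemma cast_mod (x : ℕ) : ((x % 11 : ℕ) : F) = (x : F) := by
  conv_rhs => rw [← Nat.mod_add_div x 11]
  rw [Nat.cast_add, Nat.cast_mul, CharP.cast_eq_zero F 11, zero_mul, add_zero]

lemma cast_neg {x : ℕ} (hx : x ≤ 11) : ((11 - x : ℕ) : F) = -(x : F) := by
  rw [Nat.cast_sub hx, CharP.cast_eq_zero, zero_sub]

lemma cast_inj {x y : ℕ} (hx : x < 11) (hy : y < 11) (h : (x : F) = (y : F)) : x = y := by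
  have := (CharP.natCast_eq_natCast F 11).1 h
  rw [Nat.ModEq, Nat.mod_eq_of_lt hx, Nat.mod_eq_of_lt hy] at this
  exact this

lemma mat_mul (m n : M4) : mat F (mul m n) = mat F m * mat F n := by
  simp [mat, mul, cast_mod, Matrix.mul_fin_two]

lemma det_mat {m : M4} (hr : Red m) (hd : dok m = true) : (mat F m).det = 1 := by
  have h := congrArg (fun x : ℕ => (x : F)) (Nat.eq_of_beq_eq_true hd)
  simp only [cast_mod, Nat.cast_add, Nat.cast_mul, cast_neg hr.2.1.le, Nat.cast_one] at h
  rw [mat, Matrix.det_fin_two_of, ← h]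
  ring

lemma el_mk {m : M4} (h : (mat F m).det = 1) : el F m = AutPSL.mkP (sl F m h) := by
  rw [el, dif_pos h]

lemma el_mul {m n : M4} (hm : (mat F m).det = 1) (hn : (mat F n).det = 1) :
    el F (mul m n) = el F m * el F n ∧ (mat F (mul m n)).det = 1 := by
  have h : (mat F (mul m n)).det = 1 := by rw [mat_mul, Matrix.det_mul, hm, hn, one_mul]
  refine ⟨?_, h⟩
  rw [el_mk h, el_mk hm, el_mk hn, ← map_mul]
  exact congrArg _ (Subtype.ext (mat_mul m n))

lemma mat_neg {m : M4} (hr : Red m) : mat F (neg m) = -mat F m := by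
  simp [mat, neg, cast_mod, cast_neg hr.1.le, cast_neg hr.2.1.le, cast_neg hr.2.2.1.le,
    cast_neg hr.2.2.2.le]

lemma el_ncod {m : M4} (hr : Red m) (hm : (mat F m).det = 1) :
    el F (dec (ncod m)) = el F m ∧ (mat F (dec (ncod m))).det = 1 := by
  have hn : (mat F (neg m)).det = 1 := by
    rw [mat_neg hr, Matrix.det_neg, hm]; simp
  rcases min_choice (cod m) (cod (neg m)) with e | e <;> rw [ncod, e]
  · rw [dec_cod hr]; exact ⟨rfl, hm⟩
  · rw [dec_cod (red_neg m)]
    refine ⟨?_, hn⟩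
    rw [el_mk hn, el_mk hm]
    refine (QuotientGroup.eq.2 ?_)
    rw [Matrix.SpecialLinearGroup.mem_center_iff]
    refine ⟨-1, by simp, ?_⟩
    have e2 : sl F (neg m) hn = -sl F m hm := Subtype.ext (mat_neg hr)
    rw [e2, inv_neg, neg_mul, inv_mul_cancel]
    simp [← Matrix.diagonal_one, Matrix.diagonal_neg]

lemma ncod_neg {m : M4} (hr : Red m) : ncod (neg m) = ncod m := by
  have : neg (neg m) = m := by
    obtain ⟨a, b, c, d⟩ := m
    simp only [Red] at hr
    simp only [neg, Prod.mk.injEq]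
    omega
  rw [ncod, ncod, this, min_comm]

lemma ncod_inj {x y : M4} (hx : Red x) (hy : Red y) (hxd : (mat F x).det = 1)
    (hyd : (mat F y).det = 1) (h : el F x = el F y) : ncod x = ncod y := by
  rw [el_mk hxd, el_mk hyd, QuotientGroup.mk'_apply, QuotientGroup.mk'_apply, QuotientGroup.eq,
    Matrix.SpecialLinearGroup.mem_center_iff] at h
  obtain ⟨r, hr2, e⟩ := h
  rw [Fintype.card_fin] at hr2
  have e' : mat F y = r • mat F x := by
    have hs : ∀ m h, ((sl F m h : SL(2, F)) : Matrix (Fin 2) (Fin 2) F) = mat F m := fun _ _ => rfl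
    have h2 := congrArg (fun M => mat F x * M) e
    simp only [Matrix.SpecialLinearGroup.coe_mul, Matrix.SpecialLinearGroup.coe_inv, ← mul_assoc,
      Matrix.mul_adjugate, hs, hxd, one_smul, one_mul] at h2
    rw [← h2, Matrix.scalar_apply, ← Matrix.smul_one_eq_diagonal, Matrix.mul_smul, mul_one]
  have inj : ∀ {u v : M4}, Red u → Red v → mat F u = mat F v → u = v := by
    rintro ⟨a, b, c, d⟩ ⟨a', b', c', d'⟩ ⟨h1, h2, h3, h4⟩ ⟨k1, k2, k3, k4⟩ he
    have i1 := congrFun (congrFun he 0) 0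
    have i2 := congrFun (congrFun he 0) 1
    have i3 := congrFun (congrFun he 1) 0
    have i4 := congrFun (congrFun he 1) 1
    simp [mat] at i1 i2 i3 i4
    exact Prod.ext (cast_inj h1 k1 i1) (Prod.ext (cast_inj h2 k2 i2)
      (Prod.ext (cast_inj h3 k3 i3) (cast_inj h4 k4 i4)))
  rcases sq_eq_one_iff.1 hr2 with e1 | e1
  · rw [inj hx hy (by rw [e', e1, one_smul])]
  · rw [← ncod_neg hy, inj hx (red_neg y) (by rw [mat_neg hy, e', e1, neg_one_smul, neg_neg])]

lemma det_one : (mat F (dec one)).det = 1 :=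
  det_mat (red_dec (by decide)) (by decide +kernel)

lemma el_one : el F (dec one) = 1 := by
  rw [el_mk det_one, ← map_one AutPSL.mkP]
  refine congrArg _ (Subtype.ext ?_)
  show mat F (dec one) = 1
  rw [show dec one = (1, 0, 0, 1) from by decide +kernel, mat]
  simp [Matrix.one_fin_two]

lemma el_eq_one {m : M4} (hr : Red m) (hm : (mat F m).det = 1) :
    el F m = 1 ↔ ncod m = one := by
  constructor
  · intro h
    rw [ncod_inj hr (red_dec (by decide)) hm det_one (h.trans el_one.symm)]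
    decide +kernel
  · intro h
    rw [← (el_ncod hr hm).1, h, el_one]

variable (F) in
/-- The subset of a list. -/
def elems (L : List ℕ) : Set (PSL(2, F)) := {x | ∃ k ∈ L, el F (dec k) = x}

variable [Fintype F]

lemma ncod_mem {L : List ℕ} {m : M4} (hr : Red m) (hm : (mat F m).det = 1)
    (h : L.contains (ncod m) = true) : el F m ∈ elems F L :=
  ⟨_, List.contains_iff_mem.1 h, (el_ncod hr hm).1⟩

/-- The subgroup of a closed list. -/
noncomputable def sub (L : List ℕ) (h : chkGroup L = true) : Subgroup (PSL(2, F)) :=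
  have hc : (L.contains one = true) ∧ ∀ x ∈ L, ((mat F (dec x)).det = 1 ∧ ∀ y ∈ L,
      L.contains (ncod (mul (dec x) (dec y))) = true) := by
    simp only [chkGroup, Bool.and_eq_true, List.all_eq_true, decide_eq_true_eq] at h
    exact ⟨h.1, fun x hx => ⟨det_mat (red_dec (h.2 x hx).1.2) (h.2 x hx).1.1, (h.2 x hx).2⟩⟩
  have hmul : ∀ a ∈ elems F L, ∀ b ∈ elems F L, a * b ∈ elems F L := by
    rintro _ ⟨x, hx, rfl⟩ _ ⟨y, hy, rfl⟩
    obtain ⟨e, hd⟩ := el_mul (hc.2 x hx).1 (hc.2 y hy).1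
    exact e ▸ ncod_mem (red_mul _ _) hd ((hc.2 x hx).2 y hy)
  have hone : (1 : PSL(2, F)) ∈ elems F L := by
    refine ⟨one, List.contains_iff_mem.1 hc.1, ?_⟩
    exact (el_eq_one (red_dec (by decide)) (det_mat (red_dec (by decide)) (by decide +kernel))).2
      (by decide +kernel)
  { carrier := elems F L
    one_mem' := hone
    mul_mem' := fun {a b} ha hb => hmul a ha b hb
    inv_mem' := fun {a} ha => by
      have hp : ∀ n, a ^ n ∈ elems F L := fun n => by
        induction n with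
        | zero => rw [pow_zero]; exact hone
        | succ n ih => rw [pow_succ]; exact hmul _ ih _ ha
      have hpos := orderOf_pos a
      rw [show a⁻¹ = a ^ (orderOf a - 1) from inv_eq_of_mul_eq_one_left (by
        rw [← pow_succ, Nat.sub_add_cancel hpos, pow_orderOf_eq_one])]
      exact hp _ }

lemma card_sub_le (L : List ℕ) (h : chkGroup L = true) :
    Nat.card (sub (F := F) L h) ≤ L.length := by
  classical
  show Nat.card (elems F L) ≤ _
  rw [Nat.card_coe_set_eq]
  calc (elems F L).ncard ≤ ((L.map fun k => el F (dec k)).toFinset : Set (PSL(2, F))).ncard := by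
        refine Set.ncard_le_ncard ?_ (Finset.finite_toSet _)
        rintro x ⟨k, hk, rfl⟩
        simpa using ⟨k, hk, rfl⟩
    _ ≤ _ := by
        rw [Set.ncard_coe_finset]
        exact (List.toFinset_card_le _).trans_eq (List.length_map _)

/-- The two subgroups. -/
noncomputable def H1 : Subgroup (PSL(2, F)) := sub L1 chkGroup₁

/-- The two subgroups. -/
noncomputable def H2 : Subgroup (PSL(2, F)) := sub L2 chkGroup₂

lemma natCast_surj (hF : Fintype.card F = 11) (x : F) : ∃ k : ℕ, k < 11 ∧ (k : F) = x := by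
  haveI : Fact (Nat.Prime 11) := ⟨by norm_num⟩
  have hb : Function.Bijective (ZMod.castHom (dvd_refl 11) F) :=
    (Fintype.bijective_iff_injective_and_card _).2
      ⟨RingHom.injective _, by rw [ZMod.card, hF]⟩
  obtain ⟨z, rfl⟩ := hb.2 x
  refine ⟨z.val, ZMod.val_lt z, ?_⟩
  rw [ZMod.castHom_apply, ZMod.cast_eq_val]

lemma exists_code (hF : Fintype.card F = 11) (x : PSL(2, F)) :
    ∃ k < 14641, dok (dec k) = true ∧ el F (dec k) = x := by
  obtain ⟨s, rfl⟩ := AutPSL.mkP_surjective x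
  obtain ⟨a, ha, ea⟩ := natCast_surj hF ((s : Matrix (Fin 2) (Fin 2) F) 0 0)
  obtain ⟨b, hb, eb⟩ := natCast_surj hF ((s : Matrix (Fin 2) (Fin 2) F) 0 1)
  obtain ⟨c, hc, ec⟩ := natCast_surj hF ((s : Matrix (Fin 2) (Fin 2) F) 1 0)
  obtain ⟨d, hd, ed⟩ := natCast_surj hF ((s : Matrix (Fin 2) (Fin 2) F) 1 1)
  have hr : Red (a, b, c, d) := ⟨ha, hb, hc, hd⟩
  refine ⟨cod (a, b, c, d), cod_lt hr, ?_, ?_⟩
  · rw [dec_cod hr]
    have hdet := s.det_coe
    rw [Matrix.det_fin_two, ← ea, ← eb, ← ec, ← ed] at hdet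
    have : (((a * d + (11 - b) * c) % 11 : ℕ) : F) = ((1 : ℕ) : F) := by
      rw [cast_mod, Nat.cast_add, Nat.cast_mul, Nat.cast_mul, cast_neg hb.le, Nat.cast_one,
        ← hdet]
      ring
    show Nat.beq ((a * d + (11 - b) * c) % 11) 1 = true
    rw [cast_inj (Nat.mod_lt _ (by norm_num)) (by norm_num) this]
    rfl
  · rw [dec_cod hr]
    have e : mat F (a, b, c, d) = (s : Matrix (Fin 2) (Fin 2) F) := by
      rw [mat, ea, eb, ec, ed]
      exact (Matrix.eta_fin_two _).symm
    rw [el_mk (by rw [e]; exact s.det_coe)]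
    exact congrArg _ (Subtype.ext e)

lemma el_inv {g : M4} (hr : Red g) (hg : (mat F g).det = 1) :
    el F (inv g) = (el F g)⁻¹ ∧ (mat F (inv g)).det = 1 := by
  have e : mat F (inv g) = (mat F g).adjugate := by
    rw [Matrix.adjugate_fin_two]
    simp [mat, inv, cast_mod, cast_neg hr.2.1.le, cast_neg hr.2.2.1.le]
  have hd : (mat F (inv g)).det = 1 := by rw [e, Matrix.det_adjugate, hg, one_pow]
  refine ⟨eq_inv_of_mul_eq_one_left ?_, hd⟩
  rw [el_mk hd, el_mk hg, ← map_mul, ← map_one AutPSL.mkP]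
  refine congrArg _ (Subtype.ext ?_)
  show mat F (inv g) * mat F g = 1
  rw [e, Matrix.adjugate_mul, hg, one_smul]

lemma el_cnj {g x : M4} (hg : Red g) (hgd : (mat F g).det = 1) (hxd : (mat F x).det = 1) :
    el F (cnj g x) = el F g * el F x * (el F g)⁻¹ ∧ (mat F (cnj g x)).det = 1 := by
  obtain ⟨e1, d1⟩ := el_inv hg hgd
  obtain ⟨e2, d2⟩ := el_mul hgd hxd
  obtain ⟨e3, d3⟩ := el_mul d2 d1
  exact ⟨by rw [cnj, e3, e2, e1], d3⟩

lemma el_eq_of_ncod {x y : M4} (hx : Red x) (hy : Red y) (hxd : (mat F x).det = 1)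
    (hyd : (mat F y).det = 1) (h : ncod x = ncod y) : el F x = el F y := by
  rw [← (el_ncod hx hxd).1, ← (el_ncod hy hyd).1, h]

lemma invS_spec : Red invS ∧ (mat F invS).det = 1 ∧ Red genB ∧ (mat F genB).det = 1 := by
  have h := chkGens
  simp only [Bool.and_eq_true] at h
  exact ⟨red_dec (by decide), det_mat (red_dec (by decide)) h.1.2, red_dec (by decide),
    det_mat (red_dec (by decide)) h.2⟩

lemma pairIn_mem {L : List ℕ} {g b : M4} (hg : Red g) (hgd : (mat F g).det = 1)
    (hbd : (mat F b).det = 1) (h : pairIn L g b = true) :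
    el F g * el F invS * (el F g)⁻¹ ∈ elems F L ∧ el F g * el F b * (el F g)⁻¹ ∈ elems F L := by
  obtain ⟨-, hsd, -, -⟩ := invS_spec (F := F)
  simp only [pairIn, Bool.and_eq_true] at h
  obtain ⟨e1, d1⟩ := el_cnj hg hgd hsd
  obtain ⟨e2, d2⟩ := el_cnj hg hgd hbd
  exact ⟨e1 ▸ ncod_mem (red_cnj _ _) d1 h.1, e2 ▸ ncod_mem (red_cnj _ _) d2 h.2⟩

/-- Every pair of generators is conjugate into one of the two subgroups. -/
theorem pair_conj (hF : Fintype.card F = 11) {a b : PSL(2, F)} (ha : a * a = 1) (ha1 : a ≠ 1)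
    (hb : b ^ 3 = 1) (hb1 : b ≠ 1) (hab : (a * b) ^ 5 = 1) :
    ∃ g : PSL(2, F), (g * a * g⁻¹ ∈ H1 ∧ g * b * g⁻¹ ∈ H1) ∨
      (g * a * g⁻¹ ∈ H2 ∧ g * b * g⁻¹ ∈ H2) := by
  have hsel := chkSel
  simp only [List.all_eq_true, Bool.and_eq_true, decide_eq_true_eq, List.mem_append] at hsel
  obtain ⟨hSr, hSd, -, -⟩ := invS_spec (F := F)
  obtain ⟨ka, hka, hkad, rfl⟩ := exists_code hF a
  have har := red_dec hka
  have had := det_mat (F := F) har hkad
  have h1 := chkInvol
  simp only [List.all_eq_true, List.mem_range, Bool.or_eq_true, Bool.not_eq_true',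
    Bool.and_eq_false_iff, List.any_eq_true] at h1
  have hcond : ∃ g ∈ sel, Nat.beq (ncod (cnj (dec g) (dec ka))) (ncod invS) = true := by
    refine (h1 ka hka).resolve_left ?_
    rintro ((e | e) | e)
    · rw [hkad] at e; exact Bool.noConfusion e
    · obtain ⟨e2, d2⟩ := el_mul had had
      rw [(el_eq_one (red_mul _ _) d2).1 (e2.trans ha), Nat.beq_refl] at e
      exact Bool.noConfusion e
    · exact ha1 ((el_eq_one har had).2 (Nat.eq_of_beq_eq_true (by simpa using e)))
  obtain ⟨g, hg, hgS⟩ := hcond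
  have hgr := red_dec (hsel g (Or.inl hg)).2
  have hgd := det_mat (F := F) hgr (hsel g (Or.inl hg)).1
  obtain ⟨eg, dg⟩ := el_cnj hgr hgd had
  have eS : el F (dec g) * el F (dec ka) * (el F (dec g))⁻¹ = el F invS :=
    eg.symm.trans (el_eq_of_ncod (red_cnj _ _) hSr dg hSd (Nat.eq_of_beq_eq_true hgS))
  obtain ⟨kb, hkb, hkbd, eb⟩ := exists_code hF (el F (dec g) * b * (el F (dec g))⁻¹)
  have hbr := red_dec hkb
  have hbd := det_mat (F := F) hbr hkbd
  have h2 := chkPairs
  simp only [List.all_eq_true, List.mem_range, Bool.or_eq_true, Bool.not_eq_true',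
    Bool.and_eq_false_iff, List.any_eq_true] at h2
  have hcond2 : ∃ c ∈ certs, pairIn L1 (dec c) (dec kb) = true ∨ pairIn L2 (dec c) (dec kb) = true := by
    refine (h2 kb hkb).resolve_left ?_
    rintro (((e | e) | e) | e)
    · rw [hkbd] at e; exact Bool.noConfusion e
    · obtain ⟨e2, d2⟩ := el_mul hbd hbd
      obtain ⟨e3, d3⟩ := el_mul d2 hbd
      rw [(el_eq_one (red_mul _ _) d3).1 (by
        rw [e3, e2, eb, ← pow_two, ← pow_succ, conj_pow, hb]; group), Nat.beq_refl] at e
      exact Bool.noConfusion e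
    · have e' := (el_eq_one hbr hbd).2 (Nat.eq_of_beq_eq_true (by simpa using e))
      rw [eb, conj_eq_one_iff] at e'
      exact hb1 e'
    · obtain ⟨e2, d2⟩ := el_mul hSd hbd
      obtain ⟨e3, d3⟩ := el_mul d2 d2
      obtain ⟨e4, d4⟩ := el_mul d3 d3
      obtain ⟨e5, d5⟩ := el_mul d4 d2
      rw [(el_eq_one (red_mul _ _) d5).1 (by
        rw [e5, e4, e3, e2, eb, ← eS]
        set u := el F (dec g)
        rw [show u * el F (dec ka) * u⁻¹ * (u * b * u⁻¹) = u * (el F (dec ka) * b) * u⁻¹ by group,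
          ← pow_two, ← pow_two, ← pow_mul, ← pow_succ, conj_pow, hab]
        group), Nat.beq_refl] at e
      exact Bool.noConfusion e
  obtain ⟨c, hc, hcase⟩ := hcond2
  have hcr := red_dec (hsel c (Or.inr hc)).2
  have hcd := det_mat (F := F) hcr (hsel c (Or.inr hc)).1
  refine ⟨el F (dec c) * el F (dec g), hcase.imp (fun h => ?_) fun h => ?_⟩
  all_goals
    obtain ⟨p1, p2⟩ := pairIn_mem hcr hcd hbd h
    rw [eb] at p2
    rw [← eS] at p1
    simp only [_root_.mul_inv_rev, mul_assoc] at p1 p2 ⊢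
    exact ⟨p1, p2⟩

/-- The two subgroups are not conjugate. -/
theorem not_conj (hF : Fintype.card F = 11) (g : PSL(2, F)) :
    ¬ (∀ x ∈ (H1 : Subgroup (PSL(2, F))), g * x * g⁻¹ ∈ (H2 : Subgroup (PSL(2, F)))) := by
  intro h
  obtain ⟨hSr, hSd, hBr, hBd⟩ := invS_spec (F := F)
  have hgen := chkGens
  simp only [Bool.and_eq_true] at hgen
  obtain ⟨k, hk, hkd, rfl⟩ := exists_code hF g
  have hkr := red_dec hk
  have hd := det_mat (F := F) hkr hkd
  have h1 := chkNonConj
  simp only [List.all_eq_true, List.mem_range, Bool.or_eq_true, Bool.not_eq_true'] at h1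
  have h2 := (h1 k hk).resolve_left (by rw [hkd]; exact Bool.noConfusion)
  simp only [pairIn, Bool.and_eq_false_iff] at h2
  have key : ∀ x : M4, Red x → (mat F x).det = 1 → L1.contains (ncod x) = true →
      L2.contains (ncod (cnj (dec k) x)) = true := by
    intro x hxr hxd hx
    obtain ⟨e, d⟩ := el_cnj hkr hd hxd
    obtain ⟨y, hy, ey⟩ := h _ (ncod_mem hxr hxd hx : el F x ∈ elems F L1)
    have hchk := chkGroup₂
    simp only [chkGroup, Bool.and_eq_true, List.all_eq_true, decide_eq_true_eq] at hchk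
    have hyr := red_dec (hchk.2 y hy).1.2
    have hyd := det_mat (F := F) hyr (hchk.2 y hy).1.1
    have hcan : ncod (cnj (dec k) x) = ncod (dec y) := by
      refine ncod_inj (F := F) (red_cnj _ _) hyr d hyd ?_
      rw [e, ey]
    have hc2 := canon_L2
    simp only [List.all_eq_true] at hc2
    rw [hcan, List.contains_iff_mem, Nat.eq_of_beq_eq_true (hc2 y hy)]
    exact hy
  rcases h2 with e | e
  · rw [key _ hSr hSd hgen.1.1.1] at e; exact Bool.noConfusion e
  · rw [key _ hBr hBd hgen.1.1.2] at e; exact Bool.noConfusion e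

lemma nat_card_eq (hF : Fintype.card F = 11) : Nat.card (PSL(2, F)) = 660 := by
  have h := SL2.card_PSL (F := F)
  rw [Nat.card_eq_fintype_card (α := F), hF] at h
  norm_num at h
  omega

/-- Two such generators generate `A₅`. -/
theorem closure_eq_top {u v : alternatingGroup (Fin 5)} (hu : u * u = 1) (hu1 : u ≠ 1)
    (hv : v ^ 3 = 1) (hv1 : v ≠ 1) (huv : (u * v) ^ 5 = 1) (huv1 : u * v ≠ 1) :
    Subgroup.closure {u, v} = ⊤ := by
  set M := Subgroup.closure ({u, v} : Set (alternatingGroup (Fin 5)))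
  have hcard : Nat.card (alternatingGroup (Fin 5)) = 60 := SL2.card_alternating_five
  have hu' : u ∈ M := Subgroup.subset_closure (Or.inl rfl)
  have hv' : v ∈ M := Subgroup.subset_closure (Or.inr rfl)
  haveI : Fact (Nat.Prime 2) := ⟨Nat.prime_two⟩
  haveI : Fact (Nat.Prime 3) := ⟨Nat.prime_three⟩
  haveI : Fact (Nat.Prime 5) := ⟨Nat.prime_five⟩
  have h2 : 2 ∣ Nat.card M :=
    orderOf_eq_prime (x := u) (p := 2) (by rw [pow_two, hu]) hu1 ▸ Subgroup.orderOf_dvd_natCard _ hu'
  have h3 : 3 ∣ Nat.card M :=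
    orderOf_eq_prime hv hv1 ▸ Subgroup.orderOf_dvd_natCard _ hv'
  have h5 : 5 ∣ Nat.card M :=
    (orderOf_eq_prime huv huv1).symm.dvd.trans (Subgroup.orderOf_dvd_natCard _ (mul_mem hu' hv'))
  have hm : M.index * Nat.card M = 60 := by rw [mul_comm, Subgroup.card_mul_index, hcard]
  obtain ⟨k, hk⟩ : 30 ∣ Nat.card M := by omega
  have hi : M.index = 1 ∨ M.index = 2 := by
    rw [hk] at hm
    have hdvd : M.index ∣ 2 := ⟨k, by nlinarith⟩
    exact (Nat.dvd_prime Nat.prime_two).1 hdvd
  rcases hi with hi | hi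
  · exact Subgroup.index_eq_one.1 hi
  · haveI := Subgroup.normal_of_index_eq_two hi
    rcases Subgroup.Normal.eq_bot_or_eq_top (H := M) inferInstance with h | h
    · rw [h, Subgroup.card_bot] at h2; omega
    · exact h

lemma conj_smul_le {G : Type*} [Group G] (g : G) (L H : Subgroup G) :
    MulAut.conj g • L ≤ H ↔ ∀ x ∈ L, g * x * g⁻¹ ∈ H := by
  constructor
  · exact fun h x hx => h (Subgroup.smul_mem_pointwise_smul x _ _ hx)
  · rintro h y hy
    rw [Subgroup.mem_pointwise_smul_iff_inv_smul_mem] at hy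
    have := h _ hy
    simpa [MulAut.smul_def, mul_assoc] using this

lemma card_conj_smul {G : Type*} [Group G] (g : G) (L : Subgroup G) :
    Nat.card ↥(MulAut.conj g • L) = Nat.card L :=
  (Nat.card_congr (Subgroup.equivSMul (MulAut.conj g) L).toEquiv).symm

lemma eq_of_le_card {G : Type*} [Group G] [Finite G] {A B : Subgroup G} (h : A ≤ B)
    (hA : Nat.card A = 60) (hB : Nat.card B ≤ 60) : A = B :=
  Subgroup.eq_of_le_of_card_ge h (hA.symm ▸ hB)

lemma card_H_le : Nat.card (H1 : Subgroup (PSL(2, F))) ≤ 60 ∧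
    Nat.card (H2 : Subgroup (PSL(2, F))) ≤ 60 :=
  ⟨(card_sub_le L1 _).trans_eq len_L.1, (card_sub_le L2 _).trans_eq len_L.2⟩

/-- Every subgroup isomorphic to `A₅` is conjugate to one of the two. -/
theorem conj_cases (hF : Fintype.card F = 11) {L : Subgroup (PSL(2, F))}
    (e : L ≃* alternatingGroup (Fin 5)) :
    ∃ g : PSL(2, F), MulAut.conj g • L = H1 ∨ MulAut.conj g • L = H2 := by
  obtain ⟨u, v, hu, hu1, hv, hv1, huv, huv1⟩ := SL2.five_pair
  set f : alternatingGroup (Fin 5) →* PSL(2, F) := L.subtype.comp e.symm.toMonoidHom with hf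
  have hinj : Function.Injective f := L.subtype_injective.comp e.symm.injective
  have hne : ∀ x, x ≠ 1 → f x ≠ 1 := fun x hx h => hx (hinj (h.trans (map_one f).symm))
  have hL : L = Subgroup.closure {f u, f v} := by
    rw [← Set.image_pair, ← MonoidHom.map_closure,
      closure_eq_top hu hu1 hv hv1 huv huv1, ← MonoidHom.range_eq_map, hf, MonoidHom.range_comp,
      MonoidHom.range_eq_top_of_surjective _ e.symm.surjective, ← MonoidHom.range_eq_map,
      Subgroup.range_subtype]
  obtain ⟨g, hg⟩ := pair_conj hF (a := f u) (b := f v) (by rw [← map_mul, hu, map_one]) (hne u hu1)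
    (by rw [← map_pow, hv, map_one]) (hne v hv1) (by rw [← map_mul, ← map_pow, huv, map_one])
  have hc : Nat.card ↥(MulAut.conj g • L) = 60 := by
    rw [card_conj_smul, Nat.card_congr e.toEquiv, SL2.card_alternating_five]
  have key : ∀ H : Subgroup (PSL(2, F)), g * f u * g⁻¹ ∈ H → g * f v * g⁻¹ ∈ H →
      MulAut.conj g • L ≤ H := fun H hu' hv' => by
    rw [conj_smul_le]
    intro x hx
    have hle : L ≤ H.comap (MulAut.conj g).toMonoidHom := by
      rw [hL, Subgroup.closure_le]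
      rintro y (rfl | rfl)
      exacts [hu', hv']
    exact hle hx
  exact ⟨g, hg.imp (fun h => eq_of_le_card (key _ h.1 h.2) hc card_H_le.1)
    fun h => eq_of_le_card (key _ h.1 h.2) hc card_H_le.2⟩

lemma map_swap {L L' : List ℕ} (hL : chkGroup L = true) (hL' : chkGroup L' = true) (p q : ℕ)
    (hpq : (p : F) ≠ 0 ∧ (q : F) ≠ 0) {k k' : ℕ} (hk : (p : F) = k * q) (hk' : (q : F) = k' * p)
    (hall : ∀ x ∈ L, L'.contains (ncod ((dec x).1, k * (dec x).2.1 % 11, k' * (dec x).2.2.1 % 11,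
      (dec x).2.2.2)) = true) :
    ∃ φ : MulAut (PSL(2, F)), (sub (F := F) L hL).map φ.toMonoidHom ≤ sub L' hL' := by
  let g : GL (Fin 2) F := Matrix.GeneralLinearGroup.mkOfDetNeZero !![(p : F), 0; 0, (q : F)]
    (by rw [Matrix.det_fin_two_of]; simpa using hpq)
  refine ⟨AutPSL.delta g, ?_⟩
  rintro _ ⟨_, ⟨x, hx, rfl⟩, rfl⟩
  have hchk := hL
  simp only [chkGroup, Bool.and_eq_true, List.all_eq_true, decide_eq_true_eq] at hchk
  have hxr := red_dec (hchk.2 x hx).1.2
  have hxd := det_mat (F := F) hxr (hchk.2 x hx).1.1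
  set m' : M4 := ((dec x).1, k * (dec x).2.1 % 11, k' * (dec x).2.2.1 % 11, (dec x).2.2.2) with hm'
  have hr' : Red m' := ⟨hxr.1, Nat.mod_lt _ (by norm_num), Nat.mod_lt _ (by norm_num), hxr.2.2.2⟩
  have e : mat F m' = (g : Matrix (Fin 2) (Fin 2) F) * mat F (dec x) *
      ((g⁻¹ : GL (Fin 2) F) : Matrix (Fin 2) (Fin 2) F) := by
    rw [Units.eq_mul_inv_iff_mul_eq]
    show mat F m' * !![(p : F), 0; 0, (q : F)] = !![(p : F), 0; 0, (q : F)] * mat F (dec x)
    ext i j
    fin_cases i <;> fin_cases j <;> simp [mat, hm', cast_mod]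
    · ring
    · rw [hk]; ring
    · rw [hk']; ring
    · ring
  have hd' : (mat F m').det = 1 := by
    rw [e]; exact (Matrix.det_units_conj g _).trans hxd
  have e2 : (AutPSL.delta g).toMonoidHom (el F (dec x)) = el F m' := by
    rw [el_mk hxd, el_mk hd']
    exact congrArg AutPSL.mkP (Subtype.ext e.symm)
  rw [e2]
  exact ncod_mem hr' hd' (hall x hx)

/-- Both subgroups are isomorphic to `A₅`. -/
theorem iso (hF : Fintype.card F = 11) :
    Nonempty ((H1 : Subgroup (PSL(2, F))) ≃* alternatingGroup (Fin 5)) ∧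
      Nonempty ((H2 : Subgroup (PSL(2, F))) ≃* alternatingGroup (Fin 5)) := by
  obtain ⟨L, ⟨e⟩⟩ := (Cfsg.Agent.S0804.result hF).2 (by norm_num)
  obtain ⟨g, hg⟩ := conj_cases hF e
  have hs := chkSwap
  simp only [Bool.and_eq_true, List.all_eq_true] at hs
  have h0 : ∀ k : ℕ, 0 < k → k < 11 → (k : F) ≠ 0 := fun k h1 h2 h => by
    have := cast_inj (F := F) h2 (by norm_num) (h.trans Nat.cast_zero.symm)
    omega
  have hcast : ((6 : ℕ) : F) * ((2 : ℕ) : F) = ((1 : ℕ) : F) := by
    rw [← Nat.cast_mul, ← cast_mod (F := F) (6 * 2)]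
  have key : ∀ {A B : Subgroup (PSL(2, F))} (φ : MulAut (PSL(2, F))),
      A.map φ.toMonoidHom ≤ B → Nonempty (A ≃* alternatingGroup (Fin 5)) → Nat.card B ≤ 60 →
      Nonempty (B ≃* alternatingGroup (Fin 5)) := fun {A B} φ hle ⟨ea⟩ hB => by
    have h := eq_of_le_card hle (by
      rw [Subgroup.card_map_of_injective φ.injective, Nat.card_congr ea.toEquiv,
        SL2.card_alternating_five]) hB
    exact ⟨((MulEquiv.subgroupMap φ A).trans (MulEquiv.subgroupCongr h)).symm.trans ea⟩
  have hiso : ∀ {H : Subgroup (PSL(2, F))}, MulAut.conj g • L = H →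
      Nonempty (H ≃* alternatingGroup (Fin 5)) := fun {H} h => by
    subst h
    exact ⟨(Subgroup.equivSMul (MulAut.conj g) L).symm.trans e⟩
  rcases hg with h | h
  · obtain ⟨φ, hφ⟩ := map_swap (F := F) chkGroup₁ chkGroup₂ 2 1 ⟨h0 2 (by norm_num) (by norm_num), h0 1 (by norm_num) (by norm_num)⟩
      (k := 2) (k' := 6) (by norm_num) hcast.symm hs.1
    exact ⟨hiso h, key φ hφ (hiso h) card_H_le.2⟩
  · obtain ⟨φ, hφ⟩ := map_swap (F := F) chkGroup₂ chkGroup₁ 1 2 ⟨h0 1 (by norm_num) (by norm_num), h0 2 (by norm_num) (by norm_num)⟩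
      (k := 6) (k' := 2) hcast.symm (by norm_num) hs.2
    exact ⟨key φ hφ (hiso h) card_H_le.1, hiso h⟩

lemma simple_PSL (hF : Fintype.card F = 11) : IsSimpleGroup (PSL(2, F)) := by
  refine Classical.isSimpleGroup_PSL (Or.inr ⟨((2 : ℕ) : F), fun h => ?_, fun h => ?_⟩)
  · have := cast_inj (F := F) (x := 2) (y := 0) (by norm_num) (by norm_num) (h.trans Nat.cast_zero.symm)
    omega
  · have := cast_inj (F := F) (x := 4) (y := 1) (by norm_num) (by norm_num) (by
      rw [Nat.cast_one, ← h, ← Nat.cast_pow]; norm_num)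
    omega

/-- The index is 11. -/
theorem index_eq (hF : Fintype.card F = 11) {H : Subgroup (PSL(2, F))}
    (e : H ≃* alternatingGroup (Fin 5)) : H.index = 11 := by
  have h := H.card_mul_index
  rw [Nat.card_congr e.toEquiv, SL2.card_alternating_five, nat_card_eq hF] at h
  omega

/-- There are eleven conjugates. -/
theorem card_orbit (hF : Fintype.card F = 11) {H : Subgroup (PSL(2, F))}
    (e : H ≃* alternatingGroup (Fin 5)) :
    Nat.card (Set.range fun g : PSL(2, F) => MulAut.conj g • H) = 11 := by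
  letI := MulAction.compHom (Subgroup (PSL(2, F))) (MulAut.conj (G := PSL(2, F)))
  show Nat.card (MulAction.orbit (PSL(2, F)) H) = 11
  rw [Nat.card_coe_set_eq, ← MulAction.index_stabilizer]
  have hidx := index_eq hF e
  have hle : H ≤ MulAction.stabilizer (PSL(2, F)) H := fun h hh => by
    show MulAut.conj h • H = H
    refine eq_of_le_card ((conj_smul_le h H H).2 fun x hx => mul_mem (mul_mem hh hx) (inv_mem hh))
      ?_ ?_
    · rw [card_conj_smul, Nat.card_congr e.toEquiv, SL2.card_alternating_five]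
    · rw [Nat.card_congr e.toEquiv, SL2.card_alternating_five]
  have hdvd := Subgroup.index_dvd_of_le hle
  rw [hidx] at hdvd
  rcases (Nat.dvd_prime (by norm_num)).1 hdvd with h | h
  · exfalso
    rw [Subgroup.index_eq_one] at h
    haveI := simple_PSL hF
    have hn : H.Normal := ⟨fun x hx g => by
      have hg : g ∈ MulAction.stabilizer (PSL(2, F)) H := by rw [h]; trivial
      exact (conj_smul_le g H H).1 (le_of_eq hg) x hx⟩
    rcases hn.eq_bot_or_eq_top with h' | h'
    · rw [h', Subgroup.index_bot, nat_card_eq hF] at hidx; omega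
    · rw [h', Subgroup.index_top] at hidx; omega
  · exact h

/-- There are 22 subgroups, in two classes. -/
theorem count (hF : Fintype.card F = 11) :
    Nat.card {H : Subgroup (PSL(2, F)) // Nonempty (H ≃* alternatingGroup (Fin 5))} = 22 ∧
    ∃ H K : Subgroup (PSL(2, F)), Nonempty (H ≃* alternatingGroup (Fin 5)) ∧
      Nonempty (K ≃* alternatingGroup (Fin 5)) ∧ (∀ g : PSL(2, F), MulAut.conj g • H ≠ K) ∧
      ∀ L : Subgroup (PSL(2, F)), Nonempty (L ≃* alternatingGroup (Fin 5)) →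
        ∃ g : PSL(2, F), MulAut.conj g • L = H ∨ MulAut.conj g • L = K := by
  obtain ⟨⟨e1⟩, ⟨e2⟩⟩ := iso (F := F) hF
  have hne : ∀ g : PSL(2, F), MulAut.conj g • (H1 : Subgroup (PSL(2, F))) ≠ H2 := fun g h =>
    not_conj hF g ((conj_smul_le g _ _).1 h.le)
  refine ⟨?_, H1, H2, ⟨e1⟩, ⟨e2⟩, hne, fun L ⟨e⟩ => conj_cases hF e⟩
  set O1 := Set.range fun g : PSL(2, F) => MulAut.conj g • (H1 : Subgroup (PSL(2, F)))
  set O2 := Set.range fun g : PSL(2, F) => MulAut.conj g • (H2 : Subgroup (PSL(2, F)))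
  have hset : {H : Subgroup (PSL(2, F)) | Nonempty (H ≃* alternatingGroup (Fin 5))} = O1 ∪ O2 := by
    ext L
    constructor
    · rintro ⟨e⟩
      obtain ⟨g, h | h⟩ := conj_cases hF e
      · exact Or.inl ⟨g⁻¹, by simp only [← h, map_inv, inv_smul_smul]⟩
      · exact Or.inr ⟨g⁻¹, by simp only [← h, map_inv, inv_smul_smul]⟩
    · rintro (⟨g, rfl⟩ | ⟨g, rfl⟩)
      · exact ⟨(Subgroup.equivSMul (MulAut.conj g) _).symm.trans e1⟩
      · exact ⟨(Subgroup.equivSMul (MulAut.conj g) _).symm.trans e2⟩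
  have hdis : Disjoint O1 O2 := by
    rw [Set.disjoint_left]
    rintro _ ⟨g, rfl⟩ ⟨g', h⟩
    refine hne (g'⁻¹ * g) ?_
    simp only at h
    rw [map_mul, mul_smul, ← h, map_inv]
    exact inv_smul_smul _ _
  show Nat.card ↥{H : Subgroup (PSL(2, F)) | Nonempty (H ≃* alternatingGroup (Fin 5))} = 22
  rw [hset, Nat.card_coe_set_eq, Set.ncard_union_eq hdis, ← Nat.card_coe_set_eq,
    ← Nat.card_coe_set_eq, card_orbit hF e1, card_orbit hF e2]

/-- The action of degree 11 is 2-transitive. -/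
theorem two_transitive (hF : Fintype.card F = 11) :
    ∃ H : Subgroup (PSL(2, F)), H.index = 11 ∧ Nonempty (H ≃* alternatingGroup (Fin 5)) ∧
      MulAction.IsMultiplyPretransitive (PSL(2, F)) (PSL(2, F) ⧸ H) 2 := by
  classical
  obtain ⟨⟨e⟩, -⟩ := iso (F := F) hF
  haveI := simple_PSL hF
  have hidx := index_eq hF e
  refine ⟨H1, hidx, ⟨e⟩, ?_⟩
  set π := MulAction.toPermHom (PSL(2, F)) (PSL(2, F) ⧸ (H1 : Subgroup (PSL(2, F))))
  have hcard : Fintype.card (PSL(2, F) ⧸ (H1 : Subgroup (PSL(2, F)))) = 11 := by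
    rw [← hidx, Subgroup.index, Nat.card_eq_fintype_card]
  have hinj : Function.Injective π := by
    rw [← MonoidHom.ker_eq_bot_iff]
    refine (Subgroup.Normal.eq_bot_or_eq_top inferInstance).resolve_right fun h => ?_
    obtain ⟨g, hg⟩ : ∃ g : PSL(2, F), g ∉ (H1 : Subgroup (PSL(2, F))) := by
      by_contra hc
      push Not at hc
      rw [(Subgroup.eq_top_iff' _).2 hc, Subgroup.index_top] at hidx
      omega
    have h1 : π g = 1 := MonoidHom.mem_ker.1 (h ▸ Subgroup.mem_top g)
    have h2 := Equiv.ext_iff.1 h1 ((1 : PSL(2, F)) : PSL(2, F) ⧸ _)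
    rw [MulAction.toPermHom_apply, MulAction.toPerm_apply, Equiv.Perm.one_apply,
      MulAction.Quotient.smul_coe, smul_eq_mul, mul_one, QuotientGroup.eq, mul_one] at h2
    exact hg (inv_mem_iff.1 h2)
  haveI : MulAction.IsPretransitive π.range (PSL(2, F) ⧸ (H1 : Subgroup (PSL(2, F)))) :=
    ⟨fun x y => (MulAction.exists_smul_eq (PSL(2, F)) x y).imp' (fun g => ⟨π g, g, rfl⟩)
      fun g hg => hg⟩
  rcases Cfsg.Agent.S0675.result (by rw [hcard]; norm_num) π.range with h | h
  · exfalso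
    haveI := h
    haveI : Group.IsSolvable (PSL(2, F)) :=
      Group.isSolvable_of_isSolvable_injective (f := π.rangeRestrict) fun a b hab =>
        hinj (congrArg Subtype.val hab)
    have hcomm := IsSimpleGroup.comm_iff_isSolvable.2 (inferInstance : Group.IsSolvable (PSL(2, F)))
    have hn : (H1 : Subgroup (PSL(2, F))).Normal :=
      ⟨fun x hx g => by rwa [hcomm g x, mul_inv_cancel_right]⟩
    rcases hn.eq_bot_or_eq_top with h' | h'
    · rw [h', Subgroup.index_bot, nat_card_eq hF] at hidx; omega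
    · rw [h', Subgroup.index_top] at hidx; omega
  · rw [MulAction.is_two_pretransitive_iff] at h ⊢
    intro a b c d hab hcd
    obtain ⟨⟨_, g, rfl⟩, h1, h2⟩ := h hab hcd
    exact ⟨g, h1, h2⟩

end Field

end CfsgLib.PSLEleven
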