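import Cfsg.Agent.Lib.SmallOrder.Basic
import Cfsg.Agent.Lib.Coprime.SchurZassenhaus
import Cfsg.Agent.Lib.SmallOrder.PrimeDegree

/-!
The local structure of a simple group of order 168.
-/

set_option autoImplicit false
set_option linter.style.haveILetI false

namespace CfsgLib.OneSixEight

open CfsgLib.SmallOrder

variable {G : Type*} [Group G] [Finite G] [IsSimpleGroup G]

instance : Fact (Nat.Prime 7) := ⟨by norm_num⟩

theorem not_comm (h : Nat.card G = 168) : ¬ IsMulCommutative G := by
  intro hc
  letI : CommGroup G := { (inferInstance : Group G) with mul_comm := hc.is_comm.comm }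
  have := IsSimpleGroup.prime_card (α := G)
  rw [h] at this
  norm_num at this

theorem card_sylow_prime {p : ℕ} [hp : Fact p.Prime] (h : Nat.card G = 168)
    (hp37 : p = 3 ∨ p = 7) (P : Sylow p G) : Nat.card (P : Subgroup G) = p := by
  have h1 : (168 : ℕ).factorization p = 1 := by
    obtain ⟨m, hm, hm'⟩ : ∃ m, 168 = p * m ∧ ¬ p ∣ m := by
      rcases hp37 with rfl | rfl
      · exact ⟨56, rfl, by norm_num⟩
      · exact ⟨24, rfl, by norm_num⟩
    have hm0 : m ≠ 0 := fun e => by rw [e] at hm; omega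
    rw [hm, Nat.factorization_mul hp.out.ne_zero hm0, Finsupp.add_apply, hp.out.factorization_self,
      Nat.factorization_eq_zero_of_not_dvd hm', add_zero]
  rw [P.card_eq_multiplicity, h, h1, pow_one]

theorem card_sylow_seven (h : Nat.card G = 168) : Nat.card (Sylow 7 G) = 8 := by
  obtain ⟨P⟩ := (inferInstance : Nonempty (Sylow 7 G))
  have hd : Nat.card (Sylow 7 G) ∣ 24 := by
    have h1 := P.card_dvd_index
    have h2 := (P : Subgroup G).card_mul_index
    rw [card_sylow_prime h (Or.inr rfl) P, h] at h2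
    rwa [show (P : Subgroup G).index = 24 by omega] at h1
  have hm : Nat.card (Sylow 7 G) % 7 = 1 := card_sylow_modEq_one 7 G
  have hne := card_sylow_ne_one (p := 7) (not_comm h) (by rw [h]; norm_num)
  have hle := Nat.le_of_dvd (by norm_num) hd
  interval_cases hk : Nat.card (Sylow 7 G) <;> simp_all (config := {decide := true})

theorem card_normalizer_seven (h : Nat.card G = 168) (P : Sylow 7 G) :
    Nat.card (Subgroup.normalizer ((P : Subgroup G) : Set G)) = 21 := by
  have h1 := (Subgroup.normalizer ((P : Subgroup G) : Set G)).card_mul_index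
  have h2 := Sylow.card_eq_index_normalizer P
  rw [card_sylow_seven h] at h2
  have h3 : (Subgroup.normalizer ((P : Subgroup G) : Set G)).index = 8 := h2.symm
  rw [h3, h] at h1
  omega

theorem card_sylow_three (h : Nat.card G = 168) : Nat.card (Sylow 3 G) = 28 := by
  classical
  obtain ⟨P⟩ := (inferInstance : Nonempty (Sylow 3 G))
  have hd : Nat.card (Sylow 3 G) ∣ 56 := by
    have h1 := P.card_dvd_index
    have h2 := (P : Subgroup G).card_mul_index
    rw [card_sylow_prime h (Or.inl rfl) P, h] at h2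
    rwa [show (P : Subgroup G).index = 56 by omega] at h1
  have hm : Nat.card (Sylow 3 G) % 3 = 1 := card_sylow_modEq_one 3 G
  have hne := card_sylow_ne_one (p := 3) (not_comm h) (by rw [h]; norm_num)
  have h4 : Nat.card (Sylow 3 G) ≠ 4 := fun e => by
    have := two_mul_card_dvd_factorial_sylow (p := 3) (not_comm h) (by rw [h]; norm_num)
    rw [h, e] at this
    norm_num at this
  have h7 : Nat.card (Sylow 3 G) ≠ 7 := by
    intro e
    obtain ⟨Q⟩ := (inferInstance : Nonempty (Sylow 7 G))
    set N := Subgroup.normalizer ((Q : Subgroup G) : Set G) with hN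
    have hNc : Nat.card N = 21 := card_normalizer_seven h Q
    have hN3 : ∀ S : Sylow 3 N, Nat.card (S : Subgroup N) = 3 := fun S => by
      rw [S.card_eq_multiplicity, hNc, show (21 : ℕ) = 3 * 7 from rfl,
        Nat.factorization_mul (by norm_num) (by norm_num), Finsupp.add_apply,
        Nat.prime_three.factorization_self,
        Nat.factorization_eq_zero_of_not_dvd (by norm_num : ¬ 3 ∣ 7), add_zero, pow_one]
    have hnN : Nat.card (Sylow 3 N) ≠ 1 := by
      intro e1
      obtain ⟨S⟩ := (inferInstance : Nonempty (Sylow 3 N))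
      haveI : Subsingleton (Sylow 3 N) := (Nat.card_eq_one_iff_unique.mp e1).1
      haveI := Sylow.normal_of_subsingleton S
      refine not_coprime_of_card_sylow_eq (not_comm h) Q (card_sylow_prime h (Or.inr rfl) Q) (m := 3)
        (by rw [h, card_sylow_seven h]) ?_ |>.elim
      exfalso
      refine not_normalizer_le_centralizer (not_comm h) (by rw [h]; norm_num) Q fun x hx => ?_
      set Q' := (Q : Subgroup G).subgroupOf N
      haveI : Q'.Normal := Subgroup.normal_in_normalizer
      have hQ'c : Nat.card Q' = 7 := by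
        rw [Nat.card_congr (Subgroup.subgroupOfEquivOfLe Subgroup.le_normalizer).toEquiv,
          card_sylow_prime h (Or.inr rfl) Q]
      have hdis : Q' ⊓ (S : Subgroup N) = ⊥ := Subgroup.eq_bot_of_card_eq _
        (Nat.eq_one_of_dvd_coprimes (by rw [hQ'c, hN3]; norm_num : Nat.Coprime (Nat.card Q')
          (Nat.card (S : Subgroup N))) (Subgroup.card_dvd_of_le inf_le_left)
          (Subgroup.card_dvd_of_le inf_le_right))
      have htop : Q' ⊔ (S : Subgroup N) = ⊤ := by
        refine Subgroup.eq_top_of_card_eq _ (Nat.dvd_antisymm (Subgroup.card_subgroup_dvd_card _) ?_)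
        rw [hNc, show (21 : ℕ) = 7 * 3 from rfl]
        exact Nat.Coprime.mul_dvd_of_dvd_of_dvd (by norm_num)
          (hQ'c.symm.dvd.trans (Subgroup.card_dvd_of_le le_sup_left))
          ((hN3 S).symm.dvd.trans (Subgroup.card_dvd_of_le le_sup_right))
      have hcen : Q' ⊔ (S : Subgroup N) ≤ Subgroup.centralizer (Q' : Set N) := by
        refine sup_le ?_ ?_
        · intro a ha b hb
          haveI : IsCyclic Q' := isCyclic_of_prime_card hQ'c
          letI := IsCyclic.commGroup (α := Q')
          exact congrArg Subtype.val (mul_comm (⟨b, hb⟩ : Q') ⟨a, ha⟩)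
        · intro a ha b hb
          exact Subgroup.commute_of_normal_of_disjoint Q' (S : Subgroup N) inferInstance inferInstance
            (disjoint_iff.mpr hdis) b a hb ha
      intro y hy
      exact congrArg Subtype.val
        ((hcen (htop ▸ Subgroup.mem_top (⟨x, hx⟩ : N))) ⟨y, Subgroup.le_normalizer hy⟩ hy)
    have hd7 : Nat.card (Sylow 3 N) ∣ 7 := by
      obtain ⟨S⟩ := (inferInstance : Nonempty (Sylow 3 N))
      have h1 := S.card_dvd_index
      have h2 := (S : Subgroup N).card_mul_index
      rw [hN3, hNc] at h2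
      rwa [show (S : Subgroup N).index = 7 by omega] at h1
    have hN7 : Nat.card (Sylow 3 N) = 7 := ((Nat.dvd_prime (by norm_num)).mp hd7).resolve_left hnN
    have hcountN := card_orderOf_eq_prime hN3
    have hcountG := card_orderOf_eq_prime (G := G) (q := 3) (card_sylow_prime h (Or.inl rfl))
    rw [hN7] at hcountN
    rw [e] at hcountG
    let f : {g : N // orderOf g = 3} → {g : G // orderOf g = 3} :=
      fun g => ⟨g.1.1, by rw [Subgroup.orderOf_coe]; exact g.2⟩
    have hfi : Function.Injective f := fun a b hab =>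
      Subtype.ext (Subtype.ext (congrArg Subtype.val hab :))
    have hfs := (Nat.bijective_iff_injective_and_card f).mpr ⟨hfi, hcountN.trans hcountG.symm⟩
    set M := Subgroup.closure {g : G | orderOf g = 3}
    have hMN : M ≤ N := by
      rw [Subgroup.closure_le]
      intro g hg
      obtain ⟨a, ha⟩ := hfs.2 ⟨g, hg⟩
      have : a.1.1 = g := congrArg Subtype.val ha
      rw [← this]
      exact a.1.2
    haveI : M.Normal := ⟨fun x hx g => by
      have hle : M ≤ M.comap (MulAut.conj g).toMonoidHom := by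
        rw [Subgroup.closure_le]
        intro y hy
        exact Subgroup.subset_closure (show orderOf (MulAut.conj g y) = 3 by
          rw [MulEquiv.orderOf_eq]; exact hy)
      exact hle hx⟩
    obtain ⟨g, hg⟩ := exists_prime_orderOf_dvd_card' (G := G) 3 (by rw [h]; norm_num)
    rcases Subgroup.Normal.eq_bot_or_eq_top (inferInstance : M.Normal) with e2 | e2
    · have : g ∈ M := Subgroup.subset_closure hg
      rw [e2, Subgroup.mem_bot] at this
      rw [this, orderOf_one] at hg
      omega
    · rw [e2] at hMN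
      have := Subgroup.card_le_of_le hMN
      rw [Subgroup.card_top, h, hNc] at this
      omega
  have hle := Nat.le_of_dvd (by norm_num) hd
  interval_cases hk : Nat.card (Sylow 3 G) <;> simp_all (config := {decide := true})

theorem card_normalizer_three (h : Nat.card G = 168) (P : Sylow 3 G) :
    Nat.card (Subgroup.normalizer ((P : Subgroup G) : Set G)) = 6 := by
  have h1 := (Subgroup.normalizer ((P : Subgroup G) : Set G)).card_mul_index
  have h2 := Sylow.card_eq_index_normalizer P
  rw [card_sylow_three h] at h2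
  have h3 : (Subgroup.normalizer ((P : Subgroup G) : Set G)).index = 28 := h2.symm
  rw [h3, h] at h1
  omega

theorem centralizer_of_prime {p : ℕ} [hp : Fact p.Prime] (h : Nat.card G = 168)
    (hp37 : p = 3 ∨ p = 7) (x : G) (hx : orderOf x = p) :
    Subgroup.centralizer ({x} : Set G) = Subgroup.zpowers x := by
  obtain ⟨P, hP⟩ := (IsPGroup.of_card (p := p) (n := 1) (G := Subgroup.zpowers x)
    (by rw [Nat.card_zpowers, hx, pow_one])).exists_le_sylow
  have hPc := card_sylow_prime h hp37 P
  have hPe : Subgroup.zpowers x = (P : Subgroup G) :=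
    Subgroup.eq_of_le_of_card_ge hP (by rw [hPc, Nat.card_zpowers, hx])
  have hCN : Subgroup.centralizer ({x} : Set G) ≤ Subgroup.normalizer ((P : Subgroup G) : Set G) := by
    rw [← hPe]
    refine le_trans ?_ (Subgroup.centralizer_le_normalizer _)
    rw [Subgroup.zpowers_eq_closure, Subgroup.centralizer_closure]
  have hle : Subgroup.zpowers x ≤ Subgroup.centralizer ({x} : Set G) :=
    Subgroup.zpowers_le.mpr (Subgroup.mem_centralizer_singleton_iff.mpr rfl)
  have hne : Subgroup.centralizer ({x} : Set G) ≠ Subgroup.normalizer ((P : Subgroup G) : Set G) := by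
    intro e
    refine not_normalizer_le_centralizer (not_comm h) ?_ P ?_
    · rw [← hx]; exact orderOf_dvd_natCard x
    · rw [← e, ← hPe, Subgroup.zpowers_eq_closure, Subgroup.centralizer_closure]
  refine (Subgroup.eq_of_le_of_card_ge hle ?_).symm
  rw [Nat.card_zpowers, hx]
  have hd1 : p ∣ Nat.card (Subgroup.centralizer ({x} : Set G)) := by
    rw [← hx, ← Nat.card_zpowers]; exact Subgroup.card_dvd_of_le hle
  have hd2 := Subgroup.card_dvd_of_le hCN
  have hlt : Nat.card (Subgroup.centralizer ({x} : Set G)) <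
      Nat.card (Subgroup.normalizer ((P : Subgroup G) : Set G)) :=
    lt_of_not_ge fun hh => hne (Subgroup.eq_of_le_of_card_ge hCN hh)
  rcases hp37 with rfl | rfl
  · rw [card_normalizer_three h P] at hd2 hlt
    interval_cases hk : Nat.card (Subgroup.centralizer ({x} : Set G)) <;>
      simp_all (config := {decide := true})
  · rw [card_normalizer_seven h P] at hd2 hlt
    interval_cases hk : Nat.card (Subgroup.centralizer ({x} : Set G)) <;>
      simp_all (config := {decide := true})

theorem orderOf_of_prime_dvd {p : ℕ} [hp : Fact p.Prime] (h : Nat.card G = 168)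
    (hp37 : p = 3 ∨ p = 7) (g : G) (hg : p ∣ orderOf g) : orderOf g = p := by
  obtain ⟨m, hm⟩ := hg
  have hpos : 0 < orderOf g := orderOf_pos g
  have hx : orderOf (g ^ m) = p := by
    rw [orderOf_pow_of_dvd (fun e => by rw [hm, e, mul_zero] at hpos; omega) ⟨p, by rw [hm, mul_comm]⟩,
      hm, Nat.mul_div_cancel _ (Nat.pos_of_ne_zero fun e => by rw [hm, e, mul_zero] at hpos; omega)]
  have hgC : g ∈ Subgroup.centralizer ({g ^ m} : Set G) :=
    Subgroup.mem_centralizer_singleton_iff.mpr ((Commute.refl g).pow_right m).eq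
  rw [centralizer_of_prime h hp37 _ hx] at hgC
  have hd : orderOf g ∣ p := by
    have h1 := orderOf_dvd_natCard (⟨g, hgC⟩ : Subgroup.zpowers (g ^ m))
    rwa [Subgroup.orderOf_mk, Nat.card_zpowers, hx] at h1
  exact Nat.dvd_antisymm hd ⟨m, hm⟩

theorem orderOf_cases (h : Nat.card G = 168) (g : G) :
    orderOf g = 3 ∨ orderOf g = 7 ∨ orderOf g ∣ 8 := by
  by_cases h3 : 3 ∣ orderOf g
  · exact Or.inl (orderOf_of_prime_dvd h (Or.inl rfl) g h3)
  by_cases h7 : 7 ∣ orderOf g
  · exact Or.inr (Or.inl (orderOf_of_prime_dvd h (Or.inr rfl) g h7))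
  refine Or.inr (Or.inr ?_)
  have hd : orderOf g ∣ 8 * 21 := by rw [show 8 * 21 = Nat.card G by rw [h]]; exact orderOf_dvd_natCard g
  exact (Nat.Coprime.mul_right ((Nat.prime_three.coprime_iff_not_dvd.mpr h3).symm)
    (((Fact.out : Nat.Prime 7).coprime_iff_not_dvd.mpr h7).symm)).dvd_of_dvd_mul_right hd

theorem card_sylow_two_group (h : Nat.card G = 168) (T : Sylow 2 G) :
    Nat.card (T : Subgroup G) = 8 := by
  rw [T.card_eq_multiplicity, h, show (168 : ℕ) = 2 ^ 3 * 21 from rfl,
    Nat.factorization_mul (by norm_num) (by norm_num), Finsupp.add_apply, Nat.factorization_pow,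
    Finsupp.smul_apply, Nat.prime_two.factorization_self,
    Nat.factorization_eq_zero_of_not_dvd (by norm_num : ¬ 2 ∣ 21), smul_eq_mul, mul_one, add_zero]
  norm_num

theorem card_two_elements (h : Nat.card G = 168) :
    Nat.card {g : G // orderOf g ∣ 8 ∧ g ≠ 1} = 63 := by
  classical
  haveI := Fintype.ofFinite G
  have h3 := card_orderOf_eq_prime (G := G) (q := 3) (card_sylow_prime h (Or.inl rfl))
  have h7 := card_orderOf_eq_prime (G := G) (q := 7) (card_sylow_prime h (Or.inr rfl))
  rw [card_sylow_three h, Nat.card_eq_fintype_card, Fintype.card_subtype] at h3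
  rw [card_sylow_seven h, Nat.card_eq_fintype_card, Fintype.card_subtype] at h7
  rw [Nat.card_eq_fintype_card, Fintype.card_subtype]
  have hu : (Finset.univ : Finset G) = insert 1 ((Finset.univ.filter fun g => orderOf g = 3) ∪
      (Finset.univ.filter fun g => orderOf g = 7) ∪
      (Finset.univ.filter fun g => orderOf g ∣ 8 ∧ g ≠ 1)) := by
    ext g
    by_cases hg : g = 1
    · simp [hg]
    simpa [hg, or_assoc] using orderOf_cases h g
  have hc : (Finset.univ : Finset G).card = 168 := by
    rw [Finset.card_univ, ← Nat.card_eq_fintype_card, h]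
  rw [hu, Finset.card_insert_of_notMem (by simp), Finset.card_union_of_disjoint,
    Finset.card_union_of_disjoint, h3, h7] at hc
  · omega
  · exact Finset.disjoint_filter.mpr fun g _ a b => by omega
  · rw [Finset.disjoint_left]
    intro g hg hg'
    simp only [Finset.mem_union, Finset.mem_filter] at hg hg'
    rcases hg with ⟨-, e⟩ | ⟨-, e⟩ <;> rw [e] at hg' <;> norm_num at hg'

theorem card_sylow_two (h : Nat.card G = 168) : Nat.card (Sylow 2 G) = 21 := by
  classical
  haveI := Fintype.ofFinite G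
  obtain ⟨P⟩ := (inferInstance : Nonempty (Sylow 2 G))
  have hd : Nat.card (Sylow 2 G) ∣ 21 := by
    have h1 := P.card_dvd_index
    have h2 := (P : Subgroup G).card_mul_index
    rw [card_sylow_two_group h P, h] at h2
    rwa [show (P : Subgroup G).index = 21 by omega] at h1
  have hne := card_sylow_ne_one (p := 2) (not_comm h) (by rw [h]; norm_num)
  have hle : 63 ≤ Nat.card (Sylow 2 G) * 7 := by
    rw [← card_two_elements h]
    have hfib : ∀ T : Sylow 2 G, Nat.card {g : (T : Subgroup G) // g ≠ 1} = 7 := fun T => by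
      rw [Nat.card_eq_fintype_card, Fintype.card_subtype_compl, Fintype.card_subtype_eq,
        ← Nat.card_eq_fintype_card, card_sylow_two_group h T]
    refine le_trans (Nat.card_le_card_of_surjective
      (fun x : Σ T : Sylow 2 G, {g : (T : Subgroup G) // g ≠ 1} =>
        (⟨(x.2.1 : G), ?_, fun e => x.2.2 (Subtype.ext e)⟩ : {g : G // orderOf g ∣ 8 ∧ g ≠ 1})) ?_) ?_
    · rw [Subgroup.orderOf_coe, ← card_sylow_two_group h x.1]
      exact orderOf_dvd_natCard _
    · rintro ⟨g, hg, hg1⟩
      obtain ⟨k, -, hk⟩ := (Nat.dvd_prime_pow Nat.prime_two).mp (show orderOf g ∣ 2 ^ 3 from hg)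
      obtain ⟨T, hT⟩ := (IsPGroup.of_card (p := 2) (n := k) (G := Subgroup.zpowers g)
        (by rw [Nat.card_zpowers, hk])).exists_le_sylow
      exact ⟨⟨T, ⟨⟨g, hT (Subgroup.mem_zpowers g)⟩, fun e => hg1 (congrArg Subtype.val e)⟩⟩, rfl⟩
    · rw [Nat.card_sigma, Finset.sum_congr rfl fun T _ => hfib T, Finset.sum_const, smul_eq_mul,
        Finset.card_univ, Nat.card_eq_fintype_card]
  have hle2 := Nat.le_of_dvd (by norm_num) hd
  interval_cases hk : Nat.card (Sylow 2 G) <;> simp_all (config := {decide := true})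

theorem normalizer_sylow_two (h : Nat.card G = 168) (T : Sylow 2 G) :
    Subgroup.normalizer ((T : Subgroup G) : Set G) = T := by
  refine (Subgroup.eq_of_le_of_card_ge Subgroup.le_normalizer ?_).symm
  have h1 := (Subgroup.normalizer ((T : Subgroup G) : Set G)).card_mul_index
  have h2 := Sylow.card_eq_index_normalizer T
  rw [card_sylow_two h] at h2
  have h3 : (Subgroup.normalizer ((T : Subgroup G) : Set G)).index = 21 := h2.symm
  rw [h3, h] at h1
  rw [card_sylow_two_group h T]
  omega

theorem not_comm_sylow_two (h : Nat.card G = 168) (T : Sylow 2 G) :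
    ¬ ∀ a ∈ (T : Subgroup G), ∀ b ∈ (T : Subgroup G), a * b = b * a := by
  intro hc
  refine not_normalizer_le_centralizer (not_comm h) (by rw [h]; norm_num) T ?_
  rw [normalizer_sylow_two h T]
  exact fun a ha b hb => hc b hb a ha

/-- The centre of a Sylow 2-subgroup has one involution, and its centralizer is the subgroup. -/
theorem exists_central (h : Nat.card G = 168) (T : Sylow 2 G) :
    ∃ z ∈ (T : Subgroup G), orderOf z = 2 ∧
      Subgroup.centralizer ({z} : Set G) = (T : Subgroup G) ∧
      ∀ w ∈ (T : Subgroup G), w ≠ 1 → (∀ t ∈ (T : Subgroup G), t * w = w * t) → w = z := by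
  have hT := card_sylow_two_group h T
  have hcent : ∀ w : G, w ∈ (T : Subgroup G) → w ≠ 1 → (∀ t ∈ (T : Subgroup G), t * w = w * t) →
      Subgroup.centralizer ({w} : Set G) = (T : Subgroup G) := by
    intro w hw hw1 hwc
    refine (T.3 ?_ fun t ht => Subgroup.mem_centralizer_singleton_iff.mpr (hwc t ht))
    rw [IsPGroup.iff_orderOf]
    rintro ⟨g, hg⟩
    rw [Subgroup.orderOf_mk]
    rcases orderOf_cases h g with e | e | e
    all_goals try exact (Nat.dvd_prime_pow Nat.prime_two).mp (show orderOf g ∣ 2 ^ 3 from e) |>.imp fun k hk => hk.2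
    all_goals
      exfalso
      haveI : Fact (Nat.Prime (orderOf g)) := ⟨by rw [e]; norm_num⟩
      have h1 : w ∈ Subgroup.centralizer ({g} : Set G) := Subgroup.mem_centralizer_singleton_iff.mpr
        (Subgroup.mem_centralizer_singleton_iff.mp hg).symm
      rw [centralizer_of_prime (p := orderOf g) h (by omega) g rfl] at h1
      have h2 : orderOf w ∣ orderOf g := by
        have h4 := orderOf_dvd_natCard (⟨w, h1⟩ : Subgroup.zpowers g)
        rwa [Subgroup.orderOf_mk, Nat.card_zpowers] at h4
      have h3 : orderOf w ∣ 8 := by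
        rw [← hT, ← Subgroup.orderOf_mk _ hw]; exact orderOf_dvd_natCard _
      exact hw1 (orderOf_eq_one_iff.mp (Nat.eq_one_of_dvd_coprimes
        (by rw [e]; norm_num : Nat.Coprime (orderOf g) 8) h2 h3))
  obtain ⟨a, ha, ha2⟩ : ∃ a : Subgroup.center (T : Subgroup G), a ≠ 1 ∧ a ^ 2 = 1 := by
    haveI : Nontrivial (T : Subgroup G) := (Finite.one_lt_card_iff_nontrivial).mp (by rw [hT]; norm_num)
    haveI := T.2.center_nontrivial
    obtain ⟨a, ha⟩ := exists_prime_orderOf_dvd_card' (G := Subgroup.center (T : Subgroup G)) 2 (by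
      obtain ⟨k, hk, hk'⟩ := (T.2.to_subgroup (Subgroup.center (T : Subgroup G))).nontrivial_iff_card.mp
        inferInstance
      rw [hk']
      exact dvd_pow_self 2 hk.ne')
    exact ⟨a, fun e => by rw [e, orderOf_one] at ha; omega, (congrArg (fun k => a ^ k) ha).symm.trans (pow_orderOf_eq_one a)⟩
  have hcard : Nat.card (Subgroup.center (T : Subgroup G)) ≤ 2 := by
    have hd := Subgroup.card_subgroup_dvd_card (Subgroup.center (T : Subgroup G))
    rw [hT] at hd
    by_contra hgt
    refine not_comm_sylow_two h T fun x hx y hy => ?_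
    have hidx := (Subgroup.center (T : Subgroup G)).card_mul_index
    rw [hT] at hidx
    have hcyc : IsCyclic ((T : Subgroup G) ⧸ Subgroup.center (T : Subgroup G)) := by
      have hle8 := Nat.le_of_dvd (by norm_num) hd
      rcases (show (Subgroup.center (T : Subgroup G)).index = 1 ∨
          (Subgroup.center (T : Subgroup G)).index = 2 by
        interval_cases hk : Nat.card (Subgroup.center (T : Subgroup G)) <;>
          first
          | omega
          | simp_all (config := {decide := true})) with e | e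
      · haveI : Subsingleton ((T : Subgroup G) ⧸ Subgroup.center (T : Subgroup G)) := by
          rw [← Finite.card_le_one_iff_subsingleton]; exact e.le
        infer_instance
      · exact isCyclic_of_prime_card (p := 2) e
    have hcm := MonoidHom.isMulCommutative_of_isCyclic_of_ker_le_center
      (QuotientGroup.mk' (Subgroup.center (T : Subgroup G))) (by rw [QuotientGroup.ker_mk'])
    exact congrArg Subtype.val (hcm.is_comm.comm (⟨x, hx⟩ : (T : Subgroup G)) ⟨y, hy⟩)
  have ha1 : (a.1.1 : G) ≠ 1 := fun e => ha (Subtype.ext (Subtype.ext e))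
  have hac : ∀ t ∈ (T : Subgroup G), t * a.1.1 = a.1.1 * t := fun t ht =>
    congrArg Subtype.val (Subgroup.mem_center_iff.mp a.2 ⟨t, ht⟩)
  refine ⟨a.1.1, a.1.2, orderOf_eq_prime (congrArg (fun x : Subgroup.center (T : Subgroup G) => x.1.1) ha2)
    ha1, hcent _ a.1.2 ha1 hac, fun w hw hw1 hwc => ?_⟩
  by_contra hne
  let w' : Subgroup.center (T : Subgroup G) :=
    ⟨⟨w, hw⟩, Subgroup.mem_center_iff.mpr fun t => Subtype.ext (hwc t t.2)⟩
  classical
  haveI := Fintype.ofFinite (Subgroup.center (T : Subgroup G))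
  have h3 : ({1, a, w'} : Finset (Subgroup.center (T : Subgroup G))).card = 3 := by
    rw [Finset.card_insert_of_notMem, Finset.card_pair]
    · intro e; exact hne (congrArg (fun x : Subgroup.center (T : Subgroup G) => x.1.1) e).symm
    · simp only [Finset.mem_insert, Finset.mem_singleton, not_or]
      exact ⟨Ne.symm ha, fun e => hw1 (congrArg (fun x : Subgroup.center (T : Subgroup G) => x.1.1) e).symm⟩
  have := Finset.card_le_univ ({1, a, w'} : Finset (Subgroup.center (T : Subgroup G)))
  rw [h3, ← Nat.card_eq_fintype_card] at this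
  omega

/-- The central involution of a Sylow 2-subgroup. -/
noncomputable def zOf (h : Nat.card G = 168) (T : Sylow 2 G) : G := (exists_central h T).choose

theorem zOf_spec (h : Nat.card G = 168) (T : Sylow 2 G) :
    zOf h T ∈ (T : Subgroup G) ∧ orderOf (zOf h T) = 2 ∧
      Subgroup.centralizer ({zOf h T} : Set G) = (T : Subgroup G) ∧
      ∀ w ∈ (T : Subgroup G), w ≠ 1 → (∀ t ∈ (T : Subgroup G), t * w = w * t) → w = zOf h T :=
  (exists_central h T).choose_spec

theorem zOf_injective (h : Nat.card G = 168) : Function.Injective (zOf (G := G) h) := fun S T e =>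
  Sylow.ext ((zOf_spec h S).2.2.1.symm.trans (e ▸ (zOf_spec h T).2.2.1))

theorem exists_four (h : Nat.card G = 168) (T : Sylow 2 G) :
    ∃ r ∈ (T : Subgroup G), orderOf r = 4 ∧ r ^ 2 = zOf h T := by
  have hT := card_sylow_two_group h T
  obtain ⟨r, hr, hr2⟩ : ∃ r ∈ (T : Subgroup G), r ^ 2 ≠ 1 := by
    by_contra! hc
    refine not_comm_sylow_two h T fun a ha b hb => ?_
    have h1 := hc _ (mul_mem ha hb)
    have hai : a⁻¹ = a := inv_eq_of_mul_eq_one_right (by rw [← pow_two]; exact hc a ha)
    have hbi : b⁻¹ = b := inv_eq_of_mul_eq_one_right (by rw [← pow_two]; exact hc b hb)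
    have h2 : (a * b)⁻¹ = a * b := inv_eq_of_mul_eq_one_right (by rw [← pow_two]; exact h1)
    rw [← h2, _root_.mul_inv_rev, hai, hbi]
  have hd : orderOf r ∣ 2 ^ 3 := by
    rw [show (2 : ℕ) ^ 3 = Nat.card (T : Subgroup G) by rw [hT]; norm_num, ← Subgroup.orderOf_mk _ hr]
    exact orderOf_dvd_natCard _
  obtain ⟨k, hk3, hk⟩ := (Nat.dvd_prime_pow Nat.prime_two).mp hd
  have hk2 : 2 ≤ k := by
    by_contra hlt
    apply hr2
    apply orderOf_dvd_iff_pow_eq_one.mp
    rw [hk]
    interval_cases k <;> norm_num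
  have hk' : k ≠ 3 := by
    intro e
    refine not_comm_sylow_two h T fun a ha b hb => ?_
    have hz : Subgroup.zpowers r = (T : Subgroup G) := Subgroup.eq_of_le_of_card_ge
      (Subgroup.zpowers_le.mpr hr) (by rw [hT, Nat.card_zpowers, hk, e]; norm_num)
    rw [← hz, Subgroup.mem_zpowers_iff] at ha hb
    obtain ⟨i, rfl⟩ := ha
    obtain ⟨j, rfl⟩ := hb
    rw [← zpow_add, add_comm, zpow_add]
  have hr4 : orderOf r = 4 := by rw [hk, show k = 2 by omega]; norm_num
  refine ⟨r, hr, hr4, (zOf_spec h T).2.2.2 _ (pow_mem hr 2) hr2 fun t ht => ?_⟩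
  set R := (Subgroup.zpowers r).subgroupOf (T : Subgroup G)
  have hRc : Nat.card R = 4 := by
    rw [Nat.card_congr (Subgroup.subgroupOfEquivOfLe (Subgroup.zpowers_le.mpr hr)).toEquiv,
      Nat.card_zpowers, hr4]
  haveI : R.Normal := Subgroup.normal_of_index_eq_two (by
    have := R.card_mul_index
    rw [hRc, hT] at this
    omega)
  have hmem : t * r * t⁻¹ ∈ Subgroup.zpowers r :=
    (inferInstance : R.Normal).conj_mem ⟨r, hr⟩ (Subgroup.mem_zpowers r) ⟨t, ht⟩
  obtain ⟨i, hi⟩ := Subgroup.mem_zpowers_iff.mp hmem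
  have hi2 : t * r ^ 2 * t⁻¹ = r ^ (2 * i) := by
    rw [mul_comm, zpow_mul, hi, zpow_two, ← pow_two, conj_pow]
  rcases Int.emod_two_eq_zero_or_one i with e | e
  · exfalso
    apply hr2
    have h4 : r ^ (2 * i) = 1 := by
      rw [← orderOf_dvd_iff_zpow_eq_one, hr4]; omega
    rw [h4, mul_inv_eq_one, mul_eq_left] at hi2
    exact hi2
  · have h4 : r ^ (2 * i) = r ^ 2 := by
      rw [← zpow_natCast, eq_comm, ← mul_inv_eq_one, ← zpow_neg, ← zpow_add,
        ← orderOf_dvd_iff_zpow_eq_one, hr4]
      push_cast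
      omega
    rw [h4, mul_inv_eq_iff_eq_mul] at hi2
    exact hi2

/-- The 63 non-trivial 2-elements are 21 involutions and 42 elements of order four. -/
theorem two_element_split (h : Nat.card G = 168) :
    Nat.card {g : G // orderOf g = 2} = 21 ∧ Nat.card {g : G // orderOf g = 4} = 42 ∧
      (∀ g : G, orderOf g ≠ 8) ∧ (∀ g : G, orderOf g = 2 → ∃ T : Sylow 2 G, zOf h T = g) := by
  classical
  haveI := Fintype.ofFinite G
  let f : Sylow 2 G → {g : G // orderOf g = 2} := fun T => ⟨zOf h T, (zOf_spec h T).2.1⟩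
  have hf : Function.Injective f := fun S T e => zOf_injective h (congrArg Subtype.val e)
  choose r hr hr4 hr2 using exists_four (G := G) h
  let g4 : Sylow 2 G × Fin 2 → {g : G // orderOf g = 4} := fun x =>
    ⟨if x.2 = 0 then r x.1 else (r x.1)⁻¹, by split_ifs <;> simp [hr4]⟩
  have hg4 : Function.Injective g4 := by
    rintro ⟨S, i⟩ ⟨T, j⟩ e
    have e1 : (if i = 0 then r S else (r S)⁻¹) = (if j = 0 then r T else (r T)⁻¹) :=
      congrArg Subtype.val e
    have hzi : ∀ U : Sylow 2 G, (zOf h U)⁻¹ = zOf h U := fun U => inv_eq_of_mul_eq_one_right (by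
      rw [← pow_two, ← (zOf_spec h U).2.1, pow_orderOf_eq_one])
    have e2 : zOf h S = zOf h T := by
      have := congrArg (· ^ 2) e1
      simp only [ite_pow, inv_pow, hr2, hzi, ite_self] at this
      exact this
    obtain rfl := zOf_injective h e2
    have hne : r S ≠ (r S)⁻¹ := fun e3 => by
      have : orderOf (r S) ∣ 2 := orderOf_dvd_of_pow_eq_one (by
        rw [pow_two]; nth_rewrite 2 [e3]; rw [mul_inv_cancel])
      rw [hr4] at this
      norm_num at this
    fin_cases i <;> fin_cases j <;> simp_all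
  have hle2 := Nat.card_le_card_of_injective f hf
  have hle4 := Nat.card_le_card_of_injective g4 hg4
  rw [card_sylow_two h] at hle2
  rw [Nat.card_prod, card_sylow_two h, Nat.card_fin] at hle4
  have htot := card_two_elements (G := G) h
  simp only [Nat.card_eq_fintype_card, Fintype.card_subtype] at hle2 hle4 htot ⊢
  have hsplit : (Finset.univ.filter fun g : G => orderOf g ∣ 8 ∧ g ≠ 1) =
      (Finset.univ.filter fun g : G => orderOf g = 2) ∪ (Finset.univ.filter fun g : G => orderOf g = 4) ∪
        (Finset.univ.filter fun g : G => orderOf g = 8) := by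
    ext g
    simp only [Finset.mem_filter, Finset.mem_univ, true_and, Finset.mem_union]
    constructor
    · rintro ⟨hd, h1⟩
      obtain ⟨k, hk, hk'⟩ := (Nat.dvd_prime_pow Nat.prime_two).mp (show orderOf g ∣ 2 ^ 3 from hd)
      interval_cases k
      · exact absurd (orderOf_eq_one_iff.mp hk') h1
      all_goals simp [hk']
    · intro hg
      refine ⟨?_, fun e => ?_⟩
      · rcases hg with (e | e) | e <;> rw [e] <;> norm_num
      · rw [e, orderOf_one] at hg; omega
  rw [hsplit, Finset.card_union_of_disjoint, Finset.card_union_of_disjoint] at htot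
  · have h8 : (Finset.univ.filter fun g : G => orderOf g = 8).card = 0 := by omega
    refine ⟨by omega, by omega, fun g hg => ?_, fun g hg => ?_⟩
    · exact Finset.notMem_empty g (Finset.card_eq_zero.mp h8 ▸ Finset.mem_filter.mpr
        ⟨Finset.mem_univ _, hg⟩)
    · have hb := (Nat.bijective_iff_injective_and_card f).mpr ⟨hf, by
        rw [card_sylow_two h, Nat.card_eq_fintype_card, Fintype.card_subtype]; omega⟩
      obtain ⟨T, hT⟩ := hb.2 ⟨g, hg⟩
      exact ⟨T, congrArg Subtype.val hT⟩
  · exact Finset.disjoint_filter.mpr fun g _ a b => by omega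
  · rw [Finset.disjoint_left]
    intro g hg hg'
    simp only [Finset.mem_union, Finset.mem_filter] at hg hg'
    rcases hg with ⟨-, e⟩ | ⟨-, e⟩ <;> omega

theorem isConj_involutions (h : Nat.card G = 168) {s t : G} (hs : orderOf s = 2)
    (ht : orderOf t = 2) : IsConj s t := by
  obtain ⟨S, rfl⟩ := (two_element_split h).2.2.2 s hs
  obtain ⟨T, rfl⟩ := (two_element_split h).2.2.2 t ht
  obtain ⟨g, rfl⟩ := MulAction.exists_smul_eq G S T
  refine isConj_iff.mpr ⟨g, (zOf_spec h (g • S)).2.2.2 _ ?_ ?_ fun x hx => ?_⟩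
  · exact Subgroup.smul_mem_pointwise_smul _ (MulAut.conj g) _ (zOf_spec h S).1
  · intro e
    rw [← MulAut.conj_apply, MulEquiv.map_eq_one_iff] at e
    rw [e, orderOf_one] at hs
    omega
  · obtain ⟨y, hy, rfl⟩ := hx
    have hyc : y * zOf h S = zOf h S * y := by
      have := (zOf_spec h S).2.2.1.symm.le hy
      exact Subgroup.mem_centralizer_singleton_iff.mp this
    show g * y * g⁻¹ * (g * zOf h S * g⁻¹) = g * zOf h S * g⁻¹ * (g * y * g⁻¹)
    calc g * y * g⁻¹ * (g * zOf h S * g⁻¹) = g * (y * zOf h S) * g⁻¹ := by group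
      _ = g * (zOf h S * y) * g⁻¹ := by rw [hyc]
      _ = g * zOf h S * g⁻¹ * (g * y * g⁻¹) := by group

theorem sq_of_four (h : Nat.card G = 168) (T : Sylow 2 G) {y : G} (hy : y ∈ (T : Subgroup G))
    (hy4 : orderOf y = 4) : y ^ 2 = zOf h T := by
  classical
  have hy2 : y ^ 2 ≠ 1 := fun e => by
    have := orderOf_dvd_of_pow_eq_one e
    rw [hy4] at this
    norm_num at this
  obtain ⟨U, hU⟩ := (two_element_split h).2.2.2 (y ^ 2) (by rw [orderOf_pow, hy4]; rfl)
  refine (zOf_spec h T).2.2.2 _ (pow_mem hy 2) hy2 fun t ht => ?_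
  have hT := card_sylow_two_group h T
  set R := (Subgroup.zpowers y).subgroupOf (T : Subgroup G)
  have hRc : Nat.card R = 4 := by
    rw [Nat.card_congr (Subgroup.subgroupOfEquivOfLe (Subgroup.zpowers_le.mpr hy)).toEquiv,
      Nat.card_zpowers, hy4]
  haveI : R.Normal := Subgroup.normal_of_index_eq_two (by
    have := R.card_mul_index
    rw [hRc, hT] at this
    omega)
  have hmem : t * y * t⁻¹ ∈ Subgroup.zpowers y :=
    (inferInstance : R.Normal).conj_mem ⟨y, hy⟩ (Subgroup.mem_zpowers y) ⟨t, ht⟩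
  rw [← mem_powers_iff_mem_zpowers] at hmem
  obtain ⟨i, hi⟩ := hmem
  have hi' : y ^ i = t * y * t⁻¹ := hi
  have ho : orderOf (t * y * t⁻¹) = 4 := by rw [← MulAut.conj_apply, MulEquiv.orderOf_eq, hy4]
  rw [← hi', orderOf_pow, hy4] at ho
  have hodd : i % 2 = 1 := by
    by_contra hne
    have h2 : 2 ∣ Nat.gcd 4 i := Nat.dvd_gcd (by norm_num) (Nat.dvd_of_mod_eq_zero (by omega))
    have hg : Nat.gcd 4 i = 1 := by
      have hd : Nat.gcd 4 i ∣ 4 := Nat.gcd_dvd_left _ _
      have hle := Nat.le_of_dvd (by norm_num) hd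
      interval_cases hk : Nat.gcd 4 i <;> simp_all (config := {decide := true})
    rw [hg] at h2
    norm_num at h2
  have h4 : y ^ (i * 2) = y ^ 2 := by
    rw [← pow_mod_orderOf y (i * 2), hy4, show i * 2 % 4 = 2 by omega]
  rw [pow_mul, hi', conj_pow] at h4
  exact mul_inv_eq_iff_eq_mul.mp h4

theorem four_eq_or_inv (h : Nat.card G = 168) (T : Sylow 2 G) {r y : G}
    (hr : r ∈ (T : Subgroup G)) (hr4 : orderOf r = 4) (hy : y ∈ (T : Subgroup G))
    (hy4 : orderOf y = 4) : y = r ∨ y = r⁻¹ := by
  classical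
  haveI := Fintype.ofFinite G
  by_contra! hne
  have h3 : ∀ U : Sylow 2 G, ∃ s : Finset G, 2 ≤ s.card ∧ (U = T → 3 ≤ s.card) ∧
      ∀ g ∈ s, g ∈ (U : Subgroup G) ∧ orderOf g = 4 := by
    intro U
    by_cases hU : U = T
    · subst hU
      have hri : r ≠ r⁻¹ := fun e => by
        have : orderOf r ∣ 2 := orderOf_dvd_of_pow_eq_one (by
          rw [pow_two]; nth_rewrite 2 [e]; rw [mul_inv_cancel])
        rw [hr4] at this
        norm_num at this
      have hc : ({y, r, r⁻¹} : Finset G).card = 3 := by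
        rw [Finset.card_insert_of_notMem (by simp [hne.1, hne.2]), Finset.card_pair hri]
      refine ⟨{y, r, r⁻¹}, by omega, fun _ => by omega, ?_⟩
      simp [hr, hr4, hy, hy4]
    · obtain ⟨q, hq, hq4, -⟩ := exists_four h U
      have hqi : q ≠ q⁻¹ := fun e => by
        have : orderOf q ∣ 2 := orderOf_dvd_of_pow_eq_one (by
          rw [pow_two]; nth_rewrite 2 [e]; rw [mul_inv_cancel])
        rw [hq4] at this
        norm_num at this
      refine ⟨{q, q⁻¹}, by rw [Finset.card_pair hqi], fun e => absurd e hU, ?_⟩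
      simp [hq, hq4]
  choose s hs2 hsT hs using h3
  haveI := Fintype.ofFinite (Sylow 2 G)
  have hdis : ∀ U ∈ (Finset.univ : Finset (Sylow 2 G)), ∀ W ∈ (Finset.univ : Finset (Sylow 2 G)),
      U ≠ W → Disjoint (s U) (s W) := by
    intro U _ W _ hUW
    rw [Finset.disjoint_left]
    intro g hgU hgW
    exact hUW (zOf_injective h ((sq_of_four h U (hs U g hgU).1 (hs U g hgU).2).symm.trans
      (sq_of_four h W (hs W g hgW).1 (hs W g hgW).2)))
  have hle := Finset.card_le_card (show Finset.univ.biUnion s ⊆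
      Finset.univ.filter fun g : G => orderOf g = 4 from fun g hg => by
    obtain ⟨U, -, hU⟩ := Finset.mem_biUnion.mp hg
    exact Finset.mem_filter.mpr ⟨Finset.mem_univ _, (hs U g hU).2⟩)
  rw [Finset.card_biUnion hdis] at hle
  have hlt : ∑ _U : Sylow 2 G, 2 < ∑ U : Sylow 2 G, (s U).card :=
    Finset.sum_lt_sum (fun U _ => hs2 U) ⟨T, Finset.mem_univ _, hsT T rfl⟩
  have h42 := (two_element_split (G := G) h).2.1
  rw [Nat.card_eq_fintype_card, Fintype.card_subtype] at h42
  have h21 := card_sylow_two (G := G) h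
  rw [Nat.card_eq_fintype_card] at h21
  rw [Finset.sum_const, Finset.card_univ, h21, smul_eq_mul] at hlt
  omega

theorem inv_conj_of_four (h : Nat.card G = 168) (T : Sylow 2 G) {r : G} (hr : r ∈ (T : Subgroup G))
    (hr4 : orderOf r = 4) : IsConj r r⁻¹ := by
  classical
  obtain ⟨t, ht, hne⟩ : ∃ t ∈ (T : Subgroup G), t * r * t⁻¹ ≠ r := by
    by_contra! hc
    have hrz := (zOf_spec h T).2.2.2 r hr (fun e => by rw [e, orderOf_one] at hr4; omega)
      (fun t ht => mul_inv_eq_iff_eq_mul.mp (hc t ht))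
    rw [hrz, (zOf_spec h T).2.1] at hr4
    omega
  refine isConj_iff.mpr ⟨t, ?_⟩
  rcases four_eq_or_inv h T hr hr4 (mul_mem (mul_mem ht hr) ((T : Subgroup G).inv_mem ht))
      (show orderOf (t * r * t⁻¹) = 4 by rw [← MulAut.conj_apply, MulEquiv.orderOf_eq, hr4]) with e | e
  · exact absurd e hne
  · exact e

theorem isConj_four (h : Nat.card G = 168) {s t : G} (hs : orderOf s = 4) (ht : orderOf t = 4) :
    IsConj s t := by
  have key : ∀ u : G, orderOf u = 4 → ∃ U : Sylow 2 G, u ∈ (U : Subgroup G) := fun u hu => by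
    obtain ⟨U, hU⟩ := (IsPGroup.of_card (p := 2) (n := 2) (G := Subgroup.zpowers u)
      (by rw [Nat.card_zpowers, hu]; norm_num)).exists_le_sylow
    exact ⟨U, hU (Subgroup.mem_zpowers u)⟩
  obtain ⟨S, hS⟩ := key s hs
  obtain ⟨T, hT⟩ := key t ht
  obtain ⟨g, rfl⟩ := MulAction.exists_smul_eq G S T
  have h1 : g * s * g⁻¹ ∈ ((g • S : Sylow 2 G) : Subgroup G) :=
    Subgroup.smul_mem_pointwise_smul _ (MulAut.conj g) _ hS
  have h2 : orderOf (g * s * g⁻¹) = 4 := by rw [← MulAut.conj_apply, MulEquiv.orderOf_eq, hs]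
  refine (isConj_iff.mpr ⟨g, rfl⟩ : IsConj s (g * s * g⁻¹)).trans ?_
  rcases four_eq_or_inv h (g • S) h1 h2 hT ht with e | e
  · rw [e]
  · rw [e]
    exact inv_conj_of_four h (g • S) h1 h2

theorem isConj_three (h : Nat.card G = 168) {s t : G} (hs : orderOf s = 3) (ht : orderOf t = 3) :
    IsConj s t := by
  obtain ⟨S, hS⟩ := (IsPGroup.of_card (p := 3) (n := 1) (G := Subgroup.zpowers s)
    (by rw [Nat.card_zpowers, hs]; norm_num)).exists_le_sylow
  obtain ⟨T, hT⟩ := (IsPGroup.of_card (p := 3) (n := 1) (G := Subgroup.zpowers t)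
    (by rw [Nat.card_zpowers, ht]; norm_num)).exists_le_sylow
  obtain ⟨g, rfl⟩ := MulAction.exists_smul_eq G T S
  refine IsConj.trans ?_ (isConj_iff.mpr ⟨g, rfl⟩ : IsConj t (g * t * g⁻¹)).symm
  set x := g * t * g⁻¹
  have hx : x ∈ ((g • T : Sylow 3 G) : Subgroup G) :=
    Subgroup.smul_mem_pointwise_smul _ (MulAut.conj g) _ (hT (Subgroup.mem_zpowers t))
  have hxo : orderOf x = 3 := by show orderOf (g * t * g⁻¹) = 3; rw [← MulAut.conj_apply, MulEquiv.orderOf_eq, ht]
  have hPe : Subgroup.zpowers s = ((g • T : Sylow 3 G) : Subgroup G) :=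
    Subgroup.eq_of_le_of_card_ge hS (by
      rw [card_sylow_prime h (Or.inl rfl) (g • T), Nat.card_zpowers, hs])
  rw [← hPe, ← mem_powers_iff_mem_zpowers] at hx
  obtain ⟨i, hi⟩ := hx
  have hi' : s ^ (i % 3) = x := by rw [← hs, pow_mod_orderOf]; exact hi
  have h3 : i % 3 = 0 ∨ i % 3 = 1 ∨ i % 3 = 2 := by omega
  rcases h3 with e | e | e <;> rw [e] at hi'
  · exfalso; rw [← hi', pow_zero, orderOf_one] at hxo; omega
  · rw [← hi', pow_one]
  rw [← hi']
  obtain ⟨n, hn, hnc⟩ := SetLike.not_le_iff_exists.mp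
    (not_normalizer_le_centralizer (not_comm h) (by rw [h]; norm_num) (g • T : Sylow 3 G))
  rw [← hPe] at hn hnc
  have hnx : n * s * n⁻¹ ∈ Subgroup.zpowers s :=
    (Subgroup.mem_normalizer_iff.mp hn s).mp (Subgroup.mem_zpowers s)
  rw [← mem_powers_iff_mem_zpowers] at hnx
  obtain ⟨j, hj⟩ := hnx
  have hj' : s ^ (j % 3) = n * s * n⁻¹ := by rw [← hs, pow_mod_orderOf]; exact hj
  refine isConj_iff.mpr ⟨n, ?_⟩
  have h3' : j % 3 = 0 ∨ j % 3 = 1 ∨ j % 3 = 2 := by omega
  rcases h3' with e | e | e <;> rw [e] at hj'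
  · exfalso
    rw [pow_zero, eq_comm, mul_inv_eq_one, mul_eq_left] at hj'
    rw [hj', orderOf_one] at hs
    omega
  · exfalso
    apply hnc
    rw [Subgroup.zpowers_eq_closure, Subgroup.centralizer_closure,
      Subgroup.mem_centralizer_singleton_iff]
    rw [pow_one, eq_comm, mul_inv_eq_iff_eq_mul] at hj'
    exact hj'
  · exact hj'.symm

theorem class_seven (h : Nat.card G = 168) (x : G) (hx : orderOf x = 7) :
    Nat.card {g : G // IsConj x g} = 24 ∧ ¬ IsConj x x⁻¹ := by
  have hC := centralizer_of_prime (p := 7) h (Or.inr rfl) x hx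
  constructor
  · have h1 := MulAction.index_stabilizer (ConjAct G) x
    rw [ConjAct.orbit_eq_carrier_conjClasses] at h1
    have h3 := Subgroup.card_mul_index (Subgroup.centralizer ({x} : Set G))
    have h4 : (Subgroup.centralizer ({x} : Set G)).index =
        (MulAction.stabilizer (ConjAct G) x).index := by
      rw [Subgroup.centralizer_eq_comap_stabilizer]
      exact Subgroup.index_comap_of_surjective _ fun a => ⟨ConjAct.ofConjAct a, rfl⟩
    rw [h4, h1, hC, Nat.card_zpowers, hx, h] at h3
    rw [show {g : G // IsConj x g} = ↥{g : G | IsConj x g} from rfl, Nat.card_coe_set_eq,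
      show {g : G | IsConj x g} = (ConjClasses.mk x).carrier from Set.ext fun g => by
        rw [ConjClasses.mem_carrier_iff_mk_eq, ConjClasses.mk_eq_mk_iff_isConj]
        exact isConj_comm]
    omega
  · intro hc
    obtain ⟨c, hc⟩ := isConj_iff.mp hc
    obtain ⟨P, hP⟩ := (IsPGroup.of_card (p := 7) (n := 1) (G := Subgroup.zpowers x)
      (by rw [Nat.card_zpowers, hx]; norm_num)).exists_le_sylow
    have hPe : Subgroup.zpowers x = (P : Subgroup G) := Subgroup.eq_of_le_of_card_ge hP
      (by rw [card_sylow_prime h (Or.inr rfl) P, Nat.card_zpowers, hx])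
    have hcN : c ∈ Subgroup.normalizer ((P : Subgroup G) : Set G) := by
      rw [← hPe, Coprime.mem_normalizer_iff_conj_smul, Coprime.conj_smul_eq_map,
        MonoidHom.map_zpowers]
      show Subgroup.zpowers (c * x * c⁻¹) = _
      rw [hc, Subgroup.zpowers_inv]
    have hd : orderOf c ∣ 21 := by
      rw [← card_normalizer_seven h P, ← Subgroup.orderOf_mk c hcN]
      exact orderOf_dvd_natCard _
    have h2 : c ^ 2 * x * (c ^ 2)⁻¹ = x := by
      rw [show c ^ 2 * x * (c ^ 2)⁻¹ = c * (c * x * c⁻¹) * c⁻¹ by rw [pow_two]; group, hc,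
        show c * x⁻¹ * c⁻¹ = (c * x * c⁻¹)⁻¹ by group, hc, inv_inv]
    obtain ⟨k, hk⟩ : Odd (orderOf c) := (by decide : Odd 21).of_dvd_nat hd
    have hck : (c ^ 2) ^ (k + 1) = c := by
      rw [← pow_mul, show 2 * (k + 1) = orderOf c + 1 by omega, pow_succ, pow_orderOf_eq_one, one_mul]
    have hc2 : Commute (c ^ 2) x := mul_inv_eq_iff_eq_mul.mp h2
    have hcomm : Commute c x := hck ▸ hc2.pow_left (k + 1)
    rw [hcomm.eq, mul_inv_cancel_right] at hc
    have : orderOf x ∣ 2 := orderOf_dvd_of_pow_eq_one (by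
      rw [pow_two]; nth_rewrite 2 [hc]; rw [mul_inv_cancel])
    rw [hx] at this
    norm_num at this

end CfsgLib.OneSixEight
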