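import Cfsg.Agent.Lib.SmallOrder.Basic

/-!
Simple groups of order `p (p ^ 2 - 1) / 2` for small primes `p` are determined by their action on
the `p + 1` Sylow `p`-subgroups; the finite part of the argument is carried by `Data`.
-/

set_option autoImplicit false
set_option linter.style.haveILetI false
set_option linter.unusedSectionVars false

namespace CfsgLib.PSLPrime

open CfsgLib.SmallOrder

/-- The points. -/
abbrev Pt (p : ℕ) : Type := Option (ZMod p)

/-- Translation. -/
def shift {p : ℕ} (k : ZMod p) : Pt p → Pt p := Option.map (· + k)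

/-- Multiplication by a power of `4`. -/
def rot {p : ℕ} (k : ℕ) : Pt p → Pt p := Option.map (4 ^ k * ·)

/-- The candidate determined by the exponent `m` and the images `a` of `1` and `b` of `2`. -/
def cand {p : ℕ} (q : ℕ) (lg : List ℕ) (sq : List Bool) (m : ℕ) (a b : ZMod p) : Pt p → Pt p
  | none => some 0
  | some x => if x = 0 then none else
      some (4 ^ (m * lg.getD x.val 0 % q) * if sq.getD x.val false then a else b)

/-- `x ↦ -1 / x`. -/
def invNeg {p : ℕ} : Pt p → Pt p
  | none => some 0
  | some x => if x = 0 then none else some (-(x ^ (p - 2)))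

/-- Evaluation of a word: each letter applies the unknown map and then a translation. -/
def evalWord {p : ℕ} (f : Pt p → Pt p) (w : List (ZMod p)) (x : Pt p) : Pt p :=
  w.foldr (fun k y => shift k (f y)) x

/-- The list of points. -/
def points (p : ℕ) : List (Pt p) :=
  none :: (List.range p).map fun n : ℕ => (some (Nat.cast n) : Pt p)

/-- A word fixing both points without being a power of `rot 1`. -/
def kills {p : ℕ} (q : ℕ) (f : Pt p → Pt p) (w : List (ZMod p)) : Bool :=
  evalWord f w none == none && evalWord f w (some 0) == some 0 &&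
    (List.range q).all fun k => (points p).any fun x => evalWord f w x != rot k x

/-- A candidate is degenerate, a twist of `invNeg`, or killed. -/
def checkCand {p : ℕ} (q : ℕ) (lg : List ℕ) (sq : List Bool) (words : List (List (ZMod p))) (m : ℕ)
    (a b : ZMod p) : Bool :=
  a == 0 || b == 0 ||
    ((points p).any fun x => (points p).any fun y =>
      x != y && cand q lg sq m a b x == cand q lg sq m a b y) ||
    ((List.range q).any fun j => (points p).all fun x => cand q lg sq m a b x == invNeg (rot j x)) ||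
    words.any (kills q (cand q lg sq m a b))

/-- The finite facts used by `nonempty_equiv_model`. -/
structure Data (p q : ℕ) [Fact p.Prime] (lg : List ℕ) (sq : List Bool)
    (words : List (List (ZMod p))) : Prop where
  hq : p = 2 * q + 1
  hn : ∀ n ≤ q * (p + 1), n ∣ q * (p + 1) → n % p = 1 → n ≠ 1 → n = p + 1
  hroots : Nat.card {z : ZMod p // z ^ q = 1} = q
  hfour : (4 : ZMod p) ^ q = 1
  hord : ∀ k < q, 0 < k → (4 : ZMod p) ^ k ≠ 1
  hlog : ∀ x : ZMod p, x ≠ 0 →
    x = 4 ^ lg.getD x.val 0 * if sq.getD x.val false then 1 else 2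
  hinv : ∀ x : Pt p, invNeg (invNeg x) = x
  check : ∀ m : Fin q, ∀ a b : ZMod p, checkCand q lg sq words m a b = true

section Model

variable {p q : ℕ} [Fact p.Prime] {lg : List ℕ} {sq : List Bool} {words : List (List (ZMod p))}

theorem four_ne_zero' (d : Data p q lg sq words) : (4 : ZMod p) ≠ 0 := fun e => by
  have h := d.hfour
  have hq0 : q ≠ 0 := fun e' => by
    have := (Fact.out : p.Prime).one_lt
    have := d.hq
    omega
  rw [e, zero_pow hq0] at h
  exact zero_ne_one h

/-- `x ↦ x + 1`. -/
def permT (p : ℕ) : Equiv.Perm (Pt p) := Equiv.optionCongr (Equiv.addRight (1 : ZMod p))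

/-- `x ↦ 4 x`. -/
noncomputable def permH (d : Data p q lg sq words) : Equiv.Perm (Pt p) :=
  Equiv.optionCongr (Equiv.mulLeft₀ (4 : ZMod p) (four_ne_zero' d))

/-- `x ↦ -1 / x`. -/
def permW (d : Data p q lg sq words) : Equiv.Perm (Pt p) :=
  ⟨invNeg, invNeg, d.hinv, d.hinv⟩

/-- The model. -/
noncomputable def model (d : Data p q lg sq words) : Subgroup (Equiv.Perm (Pt p)) :=
  Subgroup.closure {permT p, permH d, permW d}

variable {G : Type*} [Group G] [Finite G] [IsSimpleGroup G]

theorem nonempty_equiv_model (d : Data p q lg sq words) (h : Nat.card G = p * (q * (p + 1))) :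
    Nonempty (G ≃* model d) := by
  classical
  have hp := (Fact.out : p.Prime)
  have hq1 : 1 ≤ q := by
    have := hp.one_lt
    have := d.hq
    omega
  have hm_pos : 0 < q * (p + 1) := Nat.mul_pos hq1 (Nat.succ_pos p)
  have hG : ¬ IsMulCommutative G := by
    intro hc
    letI : CommGroup G := { (inferInstance : Group G) with mul_comm := hc.is_comm.comm }
    have h1 := IsSimpleGroup.prime_card (α := G)
    rw [h] at h1
    refine Nat.not_prime_mul hp.one_lt.ne' ?_ h1
    intro e
    have := Nat.le_of_dvd Nat.one_pos (Dvd.intro_left q e)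
    have := hp.one_lt
    omega
  have hnd : ¬ p ∣ q * (p + 1) := by
    intro hd
    rcases (Nat.Prime.dvd_mul hp).mp hd with e | e
    · have := Nat.le_of_dvd hq1 e
      have := d.hq
      omega
    · have h1 : p ∣ 1 := (Nat.dvd_add_right dvd_rfl).mp e
      exact hp.not_dvd_one h1
  have hPc : ∀ P : Sylow p G, Nat.card (P : Subgroup G) = p := fun P => by
    rw [P.card_eq_multiplicity, h, Nat.factorization_mul hp.ne_zero hm_pos.ne', Finsupp.add_apply,
      hp.factorization_self, Nat.factorization_eq_zero_of_not_dvd hnd, add_zero, pow_one]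
  have hdvdp : p ∣ Nat.card G := by rw [h]; exact dvd_mul_right _ _
  have hn : Nat.card (Sylow p G) = p + 1 := by
    obtain ⟨P⟩ := (inferInstance : Nonempty (Sylow p G))
    have hd : Nat.card (Sylow p G) ∣ q * (p + 1) := by
      have h1 := P.card_dvd_index
      have h2 := (P : Subgroup G).card_mul_index
      rw [hPc P, h] at h2
      rwa [Nat.eq_of_mul_eq_mul_left hp.pos h2] at h1
    exact d.hn _ (Nat.le_of_dvd hm_pos hd) hd (by
      have := card_sylow_modEq_one p G
      rw [Nat.ModEq, Nat.one_mod_eq_one.mpr hp.one_lt.ne'] at this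
      exact this) (card_sylow_ne_one hG hdvdp)
  obtain ⟨P⟩ := (inferInstance : Nonempty (Sylow p G))
  set N := Subgroup.normalizer ((P : Subgroup G) : Set G) with hN
  have hNc : Nat.card N = p * q := by
    have hi := N.card_mul_index
    rw [show N.index = Nat.card (Sylow p G) from (Sylow.card_eq_index_normalizer P).symm, hn, h] at hi
    refine Nat.eq_of_mul_eq_mul_right (Nat.succ_pos p) ?_
    rw [hi, mul_assoc]
  have hstab : ∀ g : G, g • P = P ↔ g ∈ N := fun g => Sylow.smul_eq_iff_mem_normalizer
  have hfaith : Function.Injective (MulAction.toPermHom G (Sylow p G)) := by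
    rw [← MonoidHom.ker_eq_bot_iff]
    refine ((MulAction.toPermHom G (Sylow p G)).normal_ker.eq_bot_or_eq_top).resolve_right fun e => ?_
    refine normalizer_sylow_ne_top hG hdvdp P (top_le_iff.mp fun g _ => ?_)
    exact Sylow.smul_eq_iff_mem_normalizer.mp (congrArg (fun f : Equiv.Perm (Sylow p G) => f P)
      (MonoidHom.mem_ker.mp (e ▸ Subgroup.mem_top g)))
  -- the translation
  obtain ⟨t0, ht0⟩ := exists_prime_orderOf_dvd_card' (G := (P : Subgroup G)) p (by rw [hPc P])
  set t : G := (t0 : G) with ht_def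
  have htP : t ∈ (P : Subgroup G) := t0.2
  have ht : orderOf t = p := by rw [Subgroup.orderOf_coe]; exact ht0
  have hPt : (P : Subgroup G) = Subgroup.zpowers t := (Subgroup.eq_of_le_of_card_ge
    (Subgroup.zpowers_le.mpr htP) (by rw [Nat.card_zpowers, ht, hPc P])).symm
  have htN : t ∈ N := Subgroup.le_normalizer htP
  have tpow : ∀ a b : ℕ, (a : ZMod p) = b → t ^ a = t ^ b := fun a b e => by
    rw [pow_eq_pow_iff_modEq, ht]
    exact (ZMod.natCast_eq_natCast_iff _ _ _).mp e
  have tinj : ∀ a b : ℕ, t ^ a = t ^ b → (a : ZMod p) = b := fun a b e => by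
    rw [pow_eq_pow_iff_modEq, ht] at e
    exact (ZMod.natCast_eq_natCast_iff _ _ _).mpr e
  obtain ⟨q0, hqP⟩ : ∃ Q : Sylow p G, Q ≠ P := by
    haveI : Nontrivial (Sylow p G) := Finite.one_lt_card_iff_nontrivial.mp (by rw [hn]; have := hp.pos; omega)
    exact exists_ne P
  have hfree : ∀ n : ℕ, t ^ n • q0 = q0 → (n : ZMod p) = 0 := fun n e => by
    by_contra hne
    refine hqP (Sylow.ext ?_)
    have hn1 : t ^ n ≠ 1 := fun e1 => hne (by
      have := tinj n 0 (by rw [e1, pow_zero]); rwa [Nat.cast_zero] at this)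
    have hmem : t ^ n ∈ (P : Subgroup G) := pow_mem htP n
    have hp' : IsPGroup p (Subgroup.zpowers (t ^ n)) := P.2.to_le (Subgroup.zpowers_le.mpr hmem)
    have hq' := hp'.inf_normalizer_sylow q0
    rw [inf_eq_left.mpr (Subgroup.zpowers_le.mpr (Sylow.smul_eq_iff_mem_normalizer.mp e))] at hq'
    have ho : orderOf (t ^ n) = p := by
      rcases (Nat.dvd_prime hp).mp (ht ▸ orderOf_pow_dvd n) with e1 | e1
      · exact absurd (orderOf_eq_one_iff.mp e1) hn1
      · exact e1
    rw [← Subgroup.eq_of_le_of_card_ge (hq'.le.trans inf_le_right)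
        (by rw [Nat.card_zpowers, ho, hPc q0]),
      Subgroup.eq_of_le_of_card_ge (Subgroup.zpowers_le.mpr hmem) (by rw [Nat.card_zpowers, ho, hPc P])]
  let L : Pt p → Sylow p G := fun o => o.elim P fun i => t ^ i.val • q0
  have hLne : ∀ i : ZMod p, t ^ i.val • q0 ≠ P := fun i e => hqP (by
    rw [← inv_smul_smul (t ^ i.val) q0, e, inv_smul_eq_iff]
    exact ((hstab _).mpr (pow_mem htN _)).symm)
  have hLinj : Function.Injective L := by
    rintro (_ | a) (_ | b) e
    · rfl
    · exact absurd e.symm (hLne b)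
    · exact absurd e (hLne a)
    · congr 1
      change t ^ a.val • q0 = t ^ b.val • q0 at e
      have he : t ^ a.val = t ^ b.val * t ^ (a - b).val := by
        rw [← pow_add]
        exact tpow _ _ (by
          push_cast
          rw [ZMod.natCast_zmod_val, ZMod.natCast_zmod_val, ZMod.natCast_zmod_val]; ring)
      rw [he, mul_smul, smul_left_cancel_iff] at e
      have := hfree _ e
      rw [ZMod.natCast_zmod_val, sub_eq_zero] at this
      exact this
  have hLbij : Function.Bijective L := (Nat.bijective_iff_injective_and_card L).mpr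
    ⟨hLinj, by rw [hn, Finite.card_option, Nat.card_zmod]⟩
  let φ : G →* Equiv.Perm (Pt p) :=
    (Equiv.ofBijective L hLbij).symm.permCongrHom.toMonoidHom.comp (MulAction.toPermHom G (Sylow p G))
  have hinj : Function.Injective φ :=
    (Equiv.ofBijective L hLbij).symm.permCongrHom.injective.comp hfaith
  have hφ : ∀ (g : G) (x : Pt p), g • L x = L (φ g x) := fun g x =>
    ((Equiv.ofBijective L hLbij).apply_symm_apply (g • L x)).symm
  have hφeq : ∀ (g : G) (f : Equiv.Perm (Pt p)), (∀ x, g • L x = L (f x)) → φ g = f := fun g f hf =>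
    Equiv.ext fun x => hLinj ((hφ g x).symm.trans (hf x))
  have hφshift : ∀ (k : ℕ) (x : Pt p), φ (t ^ k) x = shift (k : ZMod p) x := fun k x => by
    refine hLinj ((hφ _ x).symm.trans ?_)
    rcases x with _ | i
    · exact (hstab _).mpr (pow_mem htN k)
    · show t ^ k • t ^ i.val • q0 = t ^ (i + (k : ZMod p)).val • q0
      rw [← mul_smul, ← pow_add]
      congr 1
      exact tpow _ _ (by push_cast; rw [ZMod.natCast_zmod_val, ZMod.natCast_zmod_val]; ring)
  have hφT : φ t = permT p := Equiv.ext fun x => by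
    have := hφshift 1 x
    rw [pow_one, Nat.cast_one] at this
    rw [this]
    rcases x with _ | i <;> rfl
  -- the stabilizer of two points
  set T := N ⊓ MulAction.stabilizer G q0 with hT
  have hTmem : ∀ a : G, a • P = P → a • q0 = q0 → a ∈ T := fun a h1 h2 =>
    Subgroup.mem_inf.mpr ⟨(hstab a).mp h1, h2⟩
  have htrans : ∀ a ∈ N, ∃ i : ZMod p, a • q0 = t ^ i.val • q0 := fun a ha => by
    obtain ⟨x, hx⟩ := hLbij.2 (a • q0)
    rcases x with _ | i
    · exact absurd (by rw [← inv_smul_smul a q0, ← hx, inv_smul_eq_iff]; exact ((hstab a).mpr ha).symm) hqP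
    · exact ⟨i, hx.symm⟩
  have hTc : Nat.card T = q := by
    let f : ZMod p × T → N := fun a =>
      ⟨t ^ a.1.val * (a.2 : G), mul_mem (pow_mem htN _) a.2.2.1⟩
    have hf : Function.Bijective f := by
      refine ⟨fun a b e => ?_, fun g => ?_⟩
      · have e' : t ^ a.1.val * (a.2 : G) = t ^ b.1.val * (b.2 : G) := congrArg Subtype.val e
        have h2 := congrArg (· • q0) e'
        simp only [mul_smul, MulAction.mem_stabilizer_iff.mp a.2.2.2,
          MulAction.mem_stabilizer_iff.mp b.2.2.2] at h2
        have h1 : a.1 = b.1 := Option.some_injective _ (hLinj h2)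
        rw [h1] at e'
        exact Prod.ext h1 (Subtype.ext (mul_left_cancel e'))
      · obtain ⟨i, hi⟩ := htrans g g.2
        have hm : (t ^ i.val)⁻¹ * (g : G) ∈ T := hTmem _
          ((hstab _).mpr (mul_mem (inv_mem (pow_mem htN _)) g.2))
          (by rw [mul_smul, hi, inv_smul_smul])
        exact ⟨(i, ⟨_, hm⟩), Subtype.ext (mul_inv_cancel_left (t ^ i.val) (g : G))⟩
    have := Nat.card_congr (Equiv.ofBijective f hf)
    rw [Nat.card_prod, Nat.card_zmod, hNc] at this
    exact Nat.eq_of_mul_eq_mul_left hp.pos this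
  -- the torus
  have hconjT : ∀ a ∈ T, ∃ k : ℕ, a * t * a⁻¹ = t ^ k := fun a ha => by
    have hm : a * t * a⁻¹ ∈ Subgroup.zpowers t := hPt ▸ (Subgroup.mem_normalizer_iff.mp ha.1 t).mp htP
    rw [← mem_powers_iff_mem_zpowers] at hm
    obtain ⟨k, hk⟩ := hm
    exact ⟨k, hk.symm⟩
  choose kf hkf using hconjT
  have hTeq : ∀ a (ha : a ∈ T), ∀ i : ZMod p,
      φ a (some i) = some ((kf a ha : ZMod p) * i) := fun a ha i => by
    refine hLinj ((hφ a _).symm.trans ?_)
    show a • t ^ i.val • q0 = t ^ ((kf a ha : ZMod p) * i).val • q0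
    rw [← mul_smul, show a * t ^ i.val = (a * t * a⁻¹) ^ i.val * a by rw [conj_pow]; group,
      hkf a ha, mul_smul, ha.2, ← pow_mul]
    congr 1
    exact tpow _ _ (by push_cast; rw [ZMod.natCast_zmod_val, ZMod.natCast_zmod_val])
  have hTnone : ∀ a ∈ T, φ a none = none := fun a ha =>
    hLinj ((hφ a none).symm.trans ((hstab a).mpr ha.1))
  obtain ⟨h0, hh0, hk0⟩ : ∃ a, ∃ ha : a ∈ T, (kf a ha : ZMod p) = 4 := by
    have hpow : ∀ a : T, ∀ n : ℕ,
        φ ((a : G) ^ n) (some 1) = some ((kf a.1 a.2 : ZMod p) ^ n) := fun a n => by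
      induction n with
      | zero => simp
      | succ n ih =>
        rw [pow_succ' (a : G), map_mul, Equiv.Perm.mul_apply, ih, hTeq a.1 a.2, pow_succ']
    let f : T → {z : ZMod p // z ^ q = 1} := fun a => ⟨(kf a.1 a.2 : ZMod p), by
      have h1 : (a : G) ^ q = 1 := by
        have := pow_card_eq_one' (x := a)
        rw [hTc] at this
        exact congrArg Subtype.val this
      have h2 := hpow a q
      rw [h1, map_one] at h2
      exact (Option.some_injective _ h2).symm⟩
    have hf : Function.Bijective f := by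
      refine (Nat.bijective_iff_injective_and_card f).mpr ⟨fun a b e => ?_, by rw [hTc, d.hroots]⟩
      refine Subtype.ext (hinj (Equiv.ext fun x => ?_))
      rcases x with _ | i
      · rw [hTnone _ a.2, hTnone _ b.2]
      · rw [hTeq _ a.2, hTeq _ b.2, show (kf a.1 a.2 : ZMod p) = (kf b.1 b.2 : ZMod p) from congrArg Subtype.val e]
    obtain ⟨a, ha⟩ := hf.2 ⟨4, d.hfour⟩
    exact ⟨a.1, a.2, congrArg Subtype.val ha⟩
  have hφH : φ h0 = permH d := Equiv.ext fun x => by
    rcases x with _ | i
    · rw [hTnone _ hh0]; rfl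
    · rw [hTeq _ hh0, hk0]; rfl
  have hφrot : ∀ (k : ℕ) (x : Pt p), φ (h0 ^ k) x = rot k x := fun k => by
    induction k with
    | zero => intro x; rcases x with _ | i <;> simp [rot]
    | succ k ih =>
      intro x
      rw [pow_succ', map_mul, Equiv.Perm.mul_apply, ih, hφH]
      rcases x with _ | i
      · rfl
      · show some ((4 : ZMod p) * (4 ^ k * i)) = some (4 ^ (k + 1) * i)
        rw [pow_succ', mul_assoc]
  have hordh : orderOf h0 = q := by
    refine (orderOf_eq_iff hq1).mpr ⟨?_, fun m hm hm0 e => ?_⟩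
    · have := pow_card_eq_one' (x := (⟨h0, hh0⟩ : T))
      rw [hTc] at this
      exact congrArg Subtype.val this
    · refine d.hord m hm hm0 ?_
      have := hφrot m (some 1)
      rw [e, map_one] at this
      simpa [rot] using this.symm
  have hTgen : T = Subgroup.zpowers h0 := (Subgroup.eq_of_le_of_card_ge (Subgroup.zpowers_le.mpr hh0)
    (by rw [Nat.card_zpowers, hordh, hTc])).symm
  have hTimg : ∀ a ∈ T, ∃ k < q, ∀ x, φ a x = rot k x := by
    intro a ha
    rw [hTgen, ← mem_powers_iff_mem_zpowers] at ha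
    obtain ⟨k, rfl⟩ := ha
    refine ⟨k % q, Nat.mod_lt _ hq1, fun x => ?_⟩
    show φ (h0 ^ k) x = _
    rw [← pow_mod_orderOf, hordh, hφrot]
  -- an element interchanging the two points
  obtain ⟨g, hg1, hg2⟩ : ∃ g : G, g • P = q0 ∧ g • q0 = P := by
    obtain ⟨b, hb⟩ := MulAction.exists_smul_eq G q0 P
    obtain ⟨x, hx⟩ := hLbij.2 (b • P)
    rcases x with _ | i
    · have hbP : b • P = P := hx.symm
      exact absurd (smul_left_cancel b (hb.trans hbP.symm)) hqP
    · refine ⟨(t ^ i.val)⁻¹ * b, ?_, ?_⟩
      · rw [mul_smul, ← hx]; exact inv_smul_smul _ _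
      · rw [mul_smul, hb, inv_smul_eq_iff]; exact ((hstab _).mpr (pow_mem htN _)).symm
  obtain ⟨m, hm⟩ : ∃ m : Fin q, ∀ (k : ℕ) (x : Pt p),
      φ g (rot k x) = rot ((m : ℕ) * k % q) (φ g x) := by
    have hq' : g⁻¹ • q0 = P := by rw [← hg1, inv_smul_smul]
    have hP' : g⁻¹ • P = q0 := by rw [← hg2, inv_smul_smul]
    have hc : g * h0 * g⁻¹ ∈ T := by
      refine hTmem _ ?_ ?_
      · rw [mul_smul, mul_smul, hP', hh0.2, hg2]
      · rw [mul_smul, mul_smul, hq', (hstab h0).mpr hh0.1, hg1]
    rw [hTgen, ← mem_powers_iff_mem_zpowers] at hc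
    obtain ⟨m, hm⟩ := hc
    simp only at hm
    refine ⟨⟨m % q, Nat.mod_lt _ hq1⟩, fun k x => ?_⟩
    have e1 : g * h0 ^ k = h0 ^ (m % q * k % q) * g := by
      rw [← hordh, pow_mod_orderOf, pow_mul, pow_mod_orderOf, hm, conj_pow]; group
    have := congrArg (fun f : Equiv.Perm (Pt p) => f x) (congrArg φ e1)
    simp only [map_mul, Equiv.Perm.mul_apply, hφrot] at this
    exact this
  have hgn : φ g none = some 0 := hLinj ((hφ g none).symm.trans (by
    show g • P = t ^ (0 : ZMod p).val • q0
    rw [ZMod.val_zero, pow_zero, one_smul]; exact hg1))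
  have hg0 : φ g (some 0) = none := hLinj ((hφ g (some 0)).symm.trans (by
    show g • t ^ (0 : ZMod p).val • q0 = P
    rw [ZMod.val_zero, pow_zero, one_smul]; exact hg2))
  have hsome : ∀ z : ZMod p, z ≠ 0 → ∃ c, c ≠ 0 ∧ φ g (some z) = some c := fun z hz => by
    cases hh : φ g (some z) with
    | none => exact absurd (Option.some_injective _ ((φ g).injective (hh.trans hg0.symm))) hz
    | some c =>
      refine ⟨c, fun e => ?_, rfl⟩
      exact Option.some_ne_none z ((φ g).injective (hh.trans (e ▸ hgn.symm)))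
  have htwo : (2 : ZMod p) ≠ 0 := fun e => four_ne_zero' d (by
    rw [show (4 : ZMod p) = 2 * 2 by norm_num, e, mul_zero])
  obtain ⟨a, ha0, ha⟩ := hsome 1 one_ne_zero
  obtain ⟨b, hb0, hb⟩ := hsome 2 htwo
  have hcand : ∀ x, φ g x = cand q lg sq m a b x := by
    intro x
    rcases x with _ | z
    · exact hgn
    by_cases hz : z = 0
    · subst hz; rw [hg0]; simp [cand]
    have hl := d.hlog z hz
    simp only [cand, if_neg hz]
    cases hs : sq.getD z.val false
    · rw [hs] at hl
      have hx : (some z : Pt p) = rot (lg.getD z.val 0) (some 2) := by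
        show some z = some (_ * (2 : ZMod p))
        exact congrArg some (by simpa using hl)
      conv_lhs => rw [hx, hm, hb]
      simp [rot]
    · rw [hs] at hl
      have hx : (some z : Pt p) = rot (lg.getD z.val 0) (some 1) := by
        show some z = some (_ * (1 : ZMod p))
        exact congrArg some (by simpa using hl)
      conv_lhs => rw [hx, hm, ha]
      simp [rot]
  have hchk := d.check m a b
  simp only [checkCand, Bool.or_eq_true, List.any_eq_true, List.all_eq_true, Bool.and_eq_true,
    bne_iff_ne, beq_iff_eq] at hchk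
  obtain ⟨g', hg'1, hφW⟩ : ∃ g' : G, g' • P = q0 ∧ φ g' = permW d := by
    rcases hchk with (((e | e) | ⟨x, -, y, -, hxy, hexy⟩) | ⟨j, -, hj⟩) | ⟨w, -, hw⟩
    · exact absurd e ha0
    · exact absurd e hb0
    · exfalso
      rw [← hcand, ← hcand] at hexy
      exact hxy ((φ g).injective hexy)
    · refine ⟨g * (h0 ^ j)⁻¹, ?_, Equiv.ext fun x => ?_⟩
      · rw [mul_smul, inv_smul_eq_iff.mpr ((hstab _).mpr (pow_mem hh0.1 j)).symm, hg1]
      · have hpts : ∀ y : Pt p, y ∈ points p := by
          rintro (_ | i)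
          · exact List.mem_cons_self
          · refine List.mem_cons_of_mem _ (List.mem_map.mpr ⟨i.val, List.mem_range.mpr i.val_lt, ?_⟩)
            rw [ZMod.natCast_zmod_val]
        rw [map_mul, map_inv, Equiv.Perm.mul_apply, hcand, hj _ (hpts _)]
        show invNeg (rot j ((φ (h0 ^ j))⁻¹ x)) = invNeg x
        rw [← hφrot, Equiv.Perm.inv_def, Equiv.apply_symm_apply]
    · exfalso
      have key : ∀ (w' : List (ZMod p)) (x : Pt p),
          φ (w'.foldr (fun k acc => t ^ k.val * g * acc) 1) x = evalWord (cand q lg sq m a b) w' x := by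
        intro w'
        induction w' with
        | nil => intro x; simp [evalWord]
        | cons k w' ih =>
          intro x
          simp only [List.foldr_cons, evalWord]
          rw [map_mul, map_mul, Equiv.Perm.mul_apply, Equiv.Perm.mul_apply, hφshift,
            ZMod.natCast_zmod_val, hcand, ih]
          rfl
      simp only [kills, Bool.and_eq_true, beq_iff_eq, List.all_eq_true, List.any_eq_true,
        List.mem_range, bne_iff_ne] at hw
      obtain ⟨⟨h9, h00⟩, hk⟩ := hw
      set W := w.foldr (fun k acc => t ^ k.val * g * acc) 1 with hWdef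
      have hq0 : L (some 0) = q0 := by
        show t ^ (0 : ZMod p).val • q0 = q0
        rw [ZMod.val_zero, pow_zero, one_smul]
      have hWT : W ∈ T := hTmem W
        (by
          have e := hφ W none
          rw [key w none, h9] at e
          exact e)
        (by
          have e := hφ W (some 0)
          rw [key w (some 0), h00, hq0] at e
          exact e)
      obtain ⟨k, hkq, hkx⟩ := hTimg W hWT
      obtain ⟨x, -, hx⟩ := hk k hkq
      exact hx ((key w x).symm.trans (hkx x))
  -- generation
  have hgen : Subgroup.closure ({t, h0, g'} : Set G) = ⊤ := by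
    set K := Subgroup.closure ({t, h0, g'} : Set G) with hK
    by_contra hne
    have htK : t ∈ K := Subgroup.subset_closure (by simp)
    have hhK : h0 ∈ K := Subgroup.subset_closure (by simp)
    have hgK : g' ∈ K := Subgroup.subset_closure (by simp)
    have hNK : N ≤ K := by
      intro z hz
      obtain ⟨i, hi⟩ := htrans z hz
      have hmem : (t ^ i.val)⁻¹ * z ∈ T := hTmem _
        ((hstab _).mpr (mul_mem (inv_mem (pow_mem htN _)) hz))
        (by rw [mul_smul, hi, inv_smul_smul])
      rw [hTgen] at hmem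
      have h2 := mul_mem (pow_mem htK i.val) (Subgroup.zpowers_le.mpr hhK hmem)
      rwa [mul_inv_cancel_left] at h2
    have hgN : g' ∉ N := fun hg => hqP (hg'1.symm.trans ((hstab g').mpr hg))
    have hlt : N < K := lt_of_le_of_ne hNK fun e' => hgN (e' ▸ hgK)
    obtain ⟨c, hc⟩ := Subgroup.card_dvd_of_le hlt.le
    have hgt : Nat.card N < Nat.card K :=
      lt_of_not_ge fun hh => hlt.ne (Subgroup.eq_of_le_of_card_ge hlt.le hh)
    rw [hc, hNc] at hgt
    have hc2 : 2 ≤ c := by
      by_contra hc'
      interval_cases c <;> simp at hgt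
    have hi := K.card_mul_index
    rw [h, hc, hNc, mul_assoc, mul_assoc] at hi
    have h10 : c * K.index = p + 1 :=
      Nat.eq_of_mul_eq_mul_left hq1 (Nat.eq_of_mul_eq_mul_left hp.pos hi)
    have hd := (dvd_mul_of_dvd_right hdvdp 2).trans (two_mul_card_dvd_factorial hG hne)
    have hpi := (Nat.Prime.dvd_factorial hp).mp hd
    have := Nat.mul_le_mul hc2 hpi
    have := hp.one_lt
    omega
  have hrange : φ.range = model d := by
    rw [MonoidHom.range_eq_map, ← hgen, MonoidHom.map_closure, Set.image_insert_eq, Set.image_insert_eq,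
      Set.image_singleton, hφT, hφH, hφW]
    rfl
  exact ⟨(MonoidHom.ofInjective hinj).trans (MulEquiv.subgroupCongr hrange)⟩

end Model

/-- The logarithm table for `11`. -/
def lg11 : List ℕ := [0, 0, 0, 4, 1, 2, 4, 3, 1, 3, 2]

/-- The table of squares for `11`. -/
def sq11 : List Bool :=
  [false, true, false, true, true, true, false, false, false, true, false]

/-- The test words for `11`. -/
def words11 : List (List (ZMod 11)) :=
  [[0, 0], [1, 1, 1], [9, 3, 1], [5, 4, 1], [3, 5, 1], [4, 9, 1], [4, 2, 1], [3, 6, 1], [5, 7, 1],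
    [9, 8, 1], [1, 10, 1], [1, 2, 1], [3, 2, 1], [5, 2, 1], [9, 2, 1], [1, 6, 1], [4, 6, 1],
    [5, 6, 1], [9, 6, 1], [1, 7, 1], [3, 7, 1], [4, 7, 1], [9, 7, 1], [1, 8, 1], [3, 8, 1],
    [4, 8, 1], [5, 8, 1], [3, 10, 1], [4, 10, 1], [5, 10, 1], [9, 10, 1]]

/-- The logarithm table for `13`. -/
def lg13 : List ℕ := [0, 0, 0, 2, 1, 4, 2, 5, 1, 4, 5, 3, 3]

/-- The table of squares for `13`. -/
def sq13 : List Bool :=
  [false, true, false, true, true, false, false, false, false, true, true, false, true]

/-- The test words for `13`. -/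
def words13 : List (List (ZMod 13)) :=
  [[0, 0], [1, 1, 1], [1, 12, 1], [1, 3, 1], [1, 4, 1], [1, 9, 1], [1, 10, 1], [1, 2, 1],
    [12, 2, 1], [9, 3, 1], [3, 4, 1], [1, 5, 1], [12, 5, 1], [1, 6, 1], [12, 6, 1], [1, 7, 1],
    [12, 7, 1], [1, 8, 1], [12, 8, 1], [3, 9, 1], [9, 10, 1], [1, 11, 1], [12, 11, 1], [3, 2, 1],
    [4, 2, 1], [9, 2, 1], [10, 2, 1], [3, 5, 1], [4, 5, 1], [9, 5, 1], [10, 5, 1], [3, 6, 1],
    [4, 6, 1], [9, 6, 1], [10, 6, 1], [3, 7, 1], [4, 7, 1], [9, 7, 1], [10, 7, 1], [3, 8, 1],
    [4, 8, 1], [9, 8, 1], [10, 8, 1], [3, 11, 1], [4, 11, 1], [9, 11, 1], [10, 11, 1]]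

instance : Fact (Nat.Prime 11) := ⟨by norm_num⟩

instance : Fact (Nat.Prime 13) := ⟨by norm_num⟩

theorem data11 : Data 11 5 lg11 sq11 words11 where
  hq := rfl
  hn := by decide
  hroots := by rw [Nat.card_eq_fintype_card]; decide +kernel
  hfour := by decide
  hord := by decide
  hlog := by decide +kernel
  hinv := by decide +kernel
  check := by decide +kernel

theorem data13 : Data 13 6 lg13 sq13 words13 where
  hq := rfl
  hn := by decide
  hroots := by rw [Nat.card_eq_fintype_card]; decide +kernel
  hfour := by decide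
  hord := by decide
  hlog := by decide +kernel
  hinv := by decide +kernel
  check := by decide +kernel

end CfsgLib.PSLPrime
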