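import Cfsg.Agent.Lib.SmallOrder.OneSixEight

/-!
Klein four-subgroups and maximal subgroups of a simple group of order 168.
-/

set_option autoImplicit false
set_option linter.style.haveILetI false
set_option maxRecDepth 20000

namespace CfsgLib.OneSixEight.Subgroups

open CfsgLib.OneSixEight CfsgLib.SmallOrder

variable {G : Type*} [Group G] [Finite G] [IsSimpleGroup G]

/-- a Klein four-group as a statement on elements -/
structure Four (U : Subgroup G) : Prop where
  card : Nat.card U = 4
  sq : ∀ u ∈ U, u * u = 1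

theorem four_of_klein {U : Subgroup G} (hU : IsKleinFour ↥U) : Four U := by
  refine ⟨hU.card_four, fun u hu => ?_⟩
  have h := Monoid.pow_exponent_eq_one (⟨u, hu⟩ : U)
  rw [hU.exponent_two, pow_two] at h
  exact congrArg Subtype.val h

theorem klein_of_four {U : Subgroup G} (hU : Four U) : IsKleinFour ↥U := by
  refine ⟨hU.card, ?_⟩
  haveI : Nontrivial U := Finite.one_lt_card_iff_nontrivial.1 (by rw [hU.card]; norm_num)
  refine (Nat.prime_two.eq_one_or_self_of_dvd _ (Monoid.exponent_dvd_of_forall_pow_eq_one fun u => ?_)).resolve_left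
    fun e => not_subsingleton U (Monoid.exp_eq_one_iff.1 e)
  exact Subtype.ext (by rw [SubmonoidClass.coe_pow, pow_two]; exact hU.sq u u.2)

theorem comm {U : Subgroup G} (hU : Four U) {a b : G} (ha : a ∈ U) (hb : b ∈ U) : a * b = b * a := by
  rw [← inv_eq_of_mul_eq_one_right (hU.sq _ (mul_mem ha hb)), mul_inv_rev,
    inv_eq_of_mul_eq_one_right (hU.sq _ ha), inv_eq_of_mul_eq_one_right (hU.sq _ hb)]

theorem four_map {U : Subgroup G} (hU : Four U) (g : G) : Four (U.map (MulAut.conj g).toMonoidHom) := by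
  refine ⟨by rw [Subgroup.card_map_of_injective (MulAut.conj g).injective, hU.card], ?_⟩
  rintro _ ⟨u, hu, rfl⟩
  rw [← map_mul, hU.sq u hu, map_one]

theorem exists_ne_ne {U : Subgroup G} (hU : Four U) (z : G) : ∃ s ∈ U, s ≠ 1 ∧ s ≠ z := by
  classical
  by_contra hno
  push Not at hno
  have hsub : (U : Set G) ⊆ {1, z} := fun u hu => by
    by_cases h1 : u = 1
    · exact Or.inl h1
    · exact Or.inr (hno u hu h1)
  have := Set.ncard_le_ncard hsub
  rw [← Nat.card_coe_set_eq, show Nat.card ↥(U : Set G) = 4 from hU.card] at this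
  have h2 : ({1, z} : Set G).ncard ≤ 2 := (Set.ncard_insert_le _ _).trans (by rw [Set.ncard_singleton])
  omega

/-- the data of a Sylow 2-subgroup: a cyclic part and an inverting involution -/
theorem sylow_shape (h : Nat.card G = 168) (T : Sylow 2 G) :
    ∃ r s : G, r ∈ (T : Subgroup G) ∧ s ∈ (T : Subgroup G) ∧ s * s = 1 ∧ s ≠ 1 ∧
      r * r = zOf h T ∧ zOf h T * zOf h T = 1 ∧ s * r ≠ r * s ∧
      (∀ t ∈ (T : Subgroup G), t * zOf h T = zOf h T * t) ∧
      (∀ x ∈ (T : Subgroup G), x * r = r * x → x = 1 ∨ x = zOf h T ∨ x = r ∨ x = r⁻¹) ∧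
      (∀ x ∈ (T : Subgroup G), x * r ≠ r * x → x * x = 1 ∧ x * r * x⁻¹ = r⁻¹) := by
  obtain ⟨hzT, hz2, hzC, hzu⟩ := zOf_spec h T
  obtain ⟨r, hr, hr4, hr2⟩ := exists_four h T
  set z := zOf h T
  have hz0 : z * z = 1 := by rw [← pow_two, ← hz2, pow_orderOf_eq_one]
  have hzc : ∀ t ∈ (T : Subgroup G), t * z = z * t := fun t ht =>
    Subgroup.mem_centralizer_singleton_iff.1 (hzC.ge ht)
  have hord : ∀ x ∈ (T : Subgroup G), x ≠ r → x ≠ r⁻¹ → x * x = 1 := by
    intro x hx h1 h2
    have hd : orderOf x ∣ 2 ^ 3 := by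
      rw [show (2 : ℕ) ^ 3 = Nat.card (T : Subgroup G) by rw [card_sylow_two_group h T]; rfl,
        ← Subgroup.orderOf_mk _ hx]
      exact orderOf_dvd_natCard _
    have h8 := (two_element_split (G := G) h).2.2.1 x
    have h4 : orderOf x ≠ 4 := fun e => by
      rcases four_eq_or_inv h T hr hr4 hx e with e' | e'
      · exact h1 e'
      · exact h2 e'
    obtain ⟨k, hk, hk'⟩ := (Nat.dvd_prime_pow Nat.prime_two).1 hd
    rw [← pow_two]
    refine orderOf_dvd_iff_pow_eq_one.1 ?_
    interval_cases k <;> simp_all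
  have hcr : ∀ x ∈ (T : Subgroup G), x * r = r * x → x = 1 ∨ x = z ∨ x = r ∨ x = r⁻¹ := by
    intro x hx hc
    by_cases h1 : x = r
    · exact Or.inr (Or.inr (Or.inl h1))
    by_cases h2 : x = r⁻¹
    · exact Or.inr (Or.inr (Or.inr h2))
    by_cases h3 : x * r = r
    · exact Or.inl (mul_eq_right.1 h3)
    by_cases h4 : x * r = r⁻¹
    · refine Or.inr (Or.inl ?_)
      rw [eq_mul_inv_iff_mul_eq.2 h4, ← mul_inv_rev, ← pow_two, hr2, inv_eq_of_mul_eq_one_right hz0]
    exfalso
    have h5 := hord (x * r) (mul_mem hx hr) h3 h4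
    have e : x * r * (x * r) = x * x * (r * r) := by
      calc x * r * (x * r) = x * (r * x) * r := by group
        _ = x * (x * r) * r := by rw [hc]
        _ = _ := by group
    rw [e, hord x hx h1 h2, one_mul, ← pow_two, hr2] at h5
    rw [h5, orderOf_one] at hz2
    omega
  have hinv : ∀ x ∈ (T : Subgroup G), x * r ≠ r * x → x * x = 1 ∧ x * r * x⁻¹ = r⁻¹ := by
    intro x hx hne
    refine ⟨hord x hx (fun e => hne (by rw [e])) (fun e => hne (by rw [e]; group)), ?_⟩
    rcases four_eq_or_inv h T hr hr4 (mul_mem (mul_mem hx hr) (inv_mem hx))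
      (by rw [← MulAut.conj_apply, MulEquiv.orderOf_eq, hr4]) with e | e
    · exact absurd (mul_inv_eq_iff_eq_mul.1 e) hne
    · exact e
  obtain ⟨s, hs, hsr⟩ : ∃ s ∈ (T : Subgroup G), s * r ≠ r * s := by
    by_contra hno
    push Not at hno
    have := hzu r hr (fun e => by rw [e, orderOf_one] at hr4; omega) hno
    rw [this] at hr4
    omega
  exact ⟨r, s, hr, hs, (hinv s hs hsr).1, fun e => hsr (by rw [e]; group), by rw [← pow_two, hr2], hz0,
    hsr, hzc, hcr, hinv⟩

theorem zOf_mem (h : Nat.card G = 168) (T : Sylow 2 G) {U : Subgroup G} (hU : Four U)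
    (hUT : U ≤ (T : Subgroup G)) : zOf h T ∈ U := by
  obtain ⟨r, s, hr, -, -, -, hr2, hz0, -, -, hcr, hinv⟩ := sylow_shape h T
  have hrz : zOf h T ≠ 1 := fun e => by
    have := (zOf_spec h T).2.1
    rw [e, orderOf_one] at this
    omega
  have hnr : ∀ u ∈ U, u ≠ r ∧ u ≠ r⁻¹ := fun u hu => by
    constructor <;> rintro rfl
    · exact hrz (hr2 ▸ hU.sq u hu)
    · have := hU.sq _ hu
      rw [← mul_inv_rev, inv_eq_one, hr2] at this
      exact hrz this
  by_contra hz
  have hne : ∀ u ∈ U, u ≠ 1 → u * r ≠ r * u := fun u hu h1 hc => by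
    rcases hcr u (hUT hu) hc with e | e | e | e
    · exact h1 e
    · exact hz (e ▸ hu)
    · exact (hnr u hu).1 e
    · exact (hnr u hu).2 e
  obtain ⟨a, ha, ha1, -⟩ := exists_ne_ne hU 1
  obtain ⟨b, hb, hb1, hba⟩ := exists_ne_ne hU a
  refine hne (a * b) (mul_mem ha hb) (fun e => hba ?_) ?_
  · rw [eq_inv_of_mul_eq_one_right e, inv_eq_of_mul_eq_one_right (hU.sq a ha)]
  · have h1 := (hinv a (hUT ha) (hne a ha ha1)).2
    have h2 := (hinv b (hUT hb) (hne b hb hb1)).2
    rw [← mul_inv_eq_iff_eq_mul]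
    calc a * b * r * (a * b)⁻¹ = a * (b * r * b⁻¹) * a⁻¹ := by group
      _ = a * r⁻¹ * a⁻¹ := by rw [h2]
      _ = (a * r * a⁻¹)⁻¹ := by group
      _ = r := by rw [h1, inv_inv]

/-- the Klein four-group spanned by two commuting involutions -/
def span2 (z s : G) (hz : z * z = 1) (hs : s * s = 1) (hc : s * z = z * s) : Subgroup G where
  carrier := {x | x = 1 ∨ x = z ∨ x = s ∨ x = z * s}
  one_mem' := Or.inl rfl
  mul_mem' := by
    have e1 : ∀ x : G, z * (z * x) = x := fun x => by rw [← mul_assoc, hz, one_mul]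
    have e2 : s * (z * s) = z := by rw [← mul_assoc, hc, mul_assoc, hs, mul_one]
    have e3 : z * s * (z * s) = 1 := by rw [mul_assoc, e2, hz]
    have e4 : z * s * z = s := by rw [mul_assoc, hc, e1]
    have e5 : z * s * s = z := by rw [mul_assoc, hs, mul_one]
    intro a b ha hb
    rcases ha with ha | ha | ha | ha <;> rcases hb with hb | hb | hb | hb <;> rw [ha, hb] <;>
      simp [hz, hs, hc, e1, e2, e3, e4, e5]
  inv_mem' := by
    have e3 : (z * s)⁻¹ = z * s := by
      rw [mul_inv_rev, inv_eq_of_mul_eq_one_right hz, inv_eq_of_mul_eq_one_right hs, hc]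
    intro a ha
    rcases ha with rfl | rfl | rfl | rfl <;>
      simp [inv_eq_of_mul_eq_one_right hz, inv_eq_of_mul_eq_one_right hs, e3]

theorem four_span2 {z s : G} (hz : z * z = 1) (hs : s * s = 1) (hc : s * z = z * s) (hz1 : z ≠ 1)
    (hs1 : s ≠ 1) (hsz : s ≠ z) : Four (span2 z s hz hs hc) := by
  have e3 : z * s ≠ 1 := fun e => hsz (by rw [eq_inv_of_mul_eq_one_right e, inv_eq_of_mul_eq_one_right hz])
  refine ⟨?_, ?_⟩
  · show Nat.card ↥({x | x = 1 ∨ x = z ∨ x = s ∨ x = z * s} : Set G) = 4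
    rw [Nat.card_coe_set_eq, Set.ncard_eq_four]
    exact ⟨1, z, s, z * s, hz1.symm, hs1.symm, e3.symm, hsz.symm, fun e => hs1 (mul_eq_left.1 e.symm),
      fun e => hz1 (mul_eq_right.1 e.symm), rfl⟩
  · rintro u (rfl | rfl | rfl | rfl)
    · exact one_mul 1
    · exact hz
    · exact hs
    · rw [mul_assoc, ← mul_assoc s, hc, mul_assoc z s s, hs, mul_one, hz]

/-- the two Klein four-groups of a Sylow 2-subgroup -/
theorem exists_two (h : Nat.card G = 168) (T : Sylow 2 G) :
    ∃ U W : Subgroup G, U ≠ W ∧ U ≤ (T : Subgroup G) ∧ W ≤ (T : Subgroup G) ∧ Four U ∧ Four W ∧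
      ∀ V : Subgroup G, V ≤ (T : Subgroup G) → Four V → V = U ∨ V = W := by
  obtain ⟨r, s, hr, hs, hs2, hs1, hr2, hz0, hsr, hzc, hcr, hinv⟩ := sylow_shape h T
  obtain ⟨hzT, hzo, -, -⟩ := zOf_spec h T
  set z := zOf h T
  have hz1 : z ≠ 1 := fun e => by rw [e, orderOf_one] at hzo; omega
  have hzr : z * r = r * z := by rw [← hr2, mul_assoc]
  have hzsr : s * r * r ≠ r * (s * r) := fun e => hsr (mul_right_cancel (e.trans (mul_assoc _ _ _).symm))
  have hsz : s ≠ z := fun e => hsr (by rw [e, hzr])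
  have hsr2 := (hinv (s * r) (mul_mem hs hr) hzsr).1
  have hU := four_span2 hz0 hs2 (hzc s hs) hz1 hs1 hsz
  have hW := four_span2 hz0 hsr2 (hzc _ (mul_mem hs hr)) hz1
    (fun e => hsr (by rw [eq_inv_of_mul_eq_one_left e]; group))
    (fun e => hzsr (by rw [e, hzr]))
  have hUT : span2 z s hz0 hs2 (hzc s hs) ≤ (T : Subgroup G) := by
    rintro x (rfl | rfl | rfl | rfl)
    exacts [one_mem _, hzT, hs, mul_mem hzT hs]
  have hWT : span2 z (s * r) hz0 hsr2 (hzc _ (mul_mem hs hr)) ≤ (T : Subgroup G) := by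
    rintro x (rfl | rfl | rfl | rfl)
    exacts [one_mem _, hzT, mul_mem hs hr, mul_mem hzT (mul_mem hs hr)]
  refine ⟨_, _, ?_, hUT, hWT, hU, hW, fun V hV hV4 => ?_⟩
  · intro e
    have hm : s * r ∈ span2 z s hz0 hs2 (hzc s hs) := e ▸ Or.inr (Or.inr (Or.inl rfl))
    rcases hm with e' | e' | e' | e'
    · exact hsr (by rw [eq_inv_of_mul_eq_one_left e']; group)
    · exact hzsr (by rw [e', hzr])
    · rw [mul_eq_left.1 e'] at hsr
      simp at hsr
    · have hrz : r = z := by
        refine mul_left_cancel (a := s) ?_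
        rw [e', hzc s hs]
      rw [hrz] at hsr
      exact hsr (hzc s hs)
  · have hzV := zOf_mem h T hV4 hV
    obtain ⟨x, hx, hx1, hxz⟩ := exists_ne_ne hV4 z
    have hxr : x * r ≠ r * x := fun hc => by
      rcases hcr x (hV hx) hc with e | e | e | e
      · exact hx1 e
      · exact hxz e
      · exact hz1 (hr2 ▸ e ▸ hV4.sq x hx)
      · have := hV4.sq x hx
        rw [e, ← mul_inv_rev, inv_eq_one, hr2] at this
        exact hz1 this
    have hsx : s * x * r = r * (s * x) := by
      rw [← mul_inv_eq_iff_eq_mul]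
      calc s * x * r * (s * x)⁻¹ = s * (x * r * x⁻¹) * s⁻¹ := by group
        _ = (s * r * s⁻¹)⁻¹ := by rw [(hinv x (hV hx) hxr).2]; group
        _ = r := by rw [(hinv s hs hsr).2, inv_inv]
    have hxe : ∀ y, s * x = y → x = s * y := fun y e => by rw [← e, ← mul_assoc, hs2, one_mul]
    rcases hcr _ (mul_mem hs (hV hx)) hsx with e | e | e | e
    all_goals have e' := hxe _ e
    · refine Or.inl (Subgroup.eq_of_le_of_card_ge ?_ (by rw [hV4.card, hU.card])).symm
      have hsV : s ∈ V := by rwa [e', mul_one] at hx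
      rintro y (rfl | rfl | rfl | rfl)
      exacts [one_mem _, hzV, hsV, mul_mem hzV hsV]
    · refine Or.inl (Subgroup.eq_of_le_of_card_ge ?_ (by rw [hV4.card, hU.card])).symm
      have hsV : s ∈ V := by
        have := mul_mem hx hzV
        rwa [e', mul_assoc, hz0, mul_one] at this
      rintro y (rfl | rfl | rfl | rfl)
      exacts [one_mem _, hzV, hsV, mul_mem hzV hsV]
    · refine Or.inr (Subgroup.eq_of_le_of_card_ge ?_ (by rw [hV4.card, hW.card])).symm
      rintro y (rfl | rfl | rfl | rfl)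
      exacts [one_mem _, hzV, e' ▸ hx, mul_mem hzV (e' ▸ hx)]
    · refine Or.inr (Subgroup.eq_of_le_of_card_ge ?_ (by rw [hV4.card, hW.card])).symm
      have hsrV : s * r ∈ V := by
        have := mul_mem hx hzV
        rwa [e', ← show r * r = zOf h T from hr2, mul_assoc, ← mul_assoc r⁻¹, inv_mul_cancel, one_mul] at this
      rintro y (rfl | rfl | rfl | rfl)
      exacts [one_mem _, hzV, hsrV, mul_mem hzV hsrV]

theorem le_normalizer_of_four (h : Nat.card G = 168) {T : Sylow 2 G} {U : Subgroup G} (hU : Four U)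
    (hUT : U ≤ (T : Subgroup G)) : (T : Subgroup G) ≤ Subgroup.normalizer (U : Set G) := by
  have hi : (U.subgroupOf (T : Subgroup G)).index = 2 := by
    have h1 := (U.subgroupOf (T : Subgroup G)).card_mul_index
    rw [Nat.card_congr (Subgroup.subgroupOfEquivOfLe hUT).toEquiv, hU.card, card_sylow_two_group h T] at h1
    omega
  haveI := Subgroup.normal_of_index_eq_two hi
  exact Subgroup.normal_subgroupOf_iff_le_normalizer hUT |>.1 inferInstance

theorem exists_sylow_ge {U : Subgroup G} (hU : Four U) : ∃ T : Sylow 2 G, U ≤ (T : Subgroup G) :=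
  (IsPGroup.of_card (p := 2) (n := 2) hU.card).exists_le_sylow

theorem map_mem_normalizer {U : Subgroup G} {g : G} (e : U.map (MulAut.conj g).toMonoidHom = U) :
    g ∈ Subgroup.normalizer (U : Set G) := by
  rw [Subgroup.mem_normalizer_iff_map_conj_eq]
  exact e

theorem not_conjugate (h : Nat.card G = 168) {T : Sylow 2 G} {U W : Subgroup G} (hUT : U ≤ (T : Subgroup G))
    (hWT : W ≤ (T : Subgroup G)) (hU : Four U) (hW : Four W) (hne : U ≠ W) (g : G) :
    U.map (MulAut.conj g).toMonoidHom ≠ W := by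
  intro e
  set T' : Subgroup G := (T : Subgroup G).map (MulAut.conj g).toMonoidHom with hT'
  have hTN := le_normalizer_of_four h hW hWT
  have hT'N : T' ≤ Subgroup.normalizer (W : Set G) := by
    rintro _ ⟨t, ht, rfl⟩
    refine map_mem_normalizer ?_
    rw [← e, Subgroup.map_map]
    have ht' := Subgroup.mem_normalizer_iff_map_conj_eq.1 (le_normalizer_of_four h hU hUT ht)
    conv_rhs => rw [← ht', Subgroup.map_map]
    congr 1
    ext x
    simp [mul_assoc]
  set N := Subgroup.normalizer (W : Set G)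
  obtain ⟨n, hn⟩ := MulAction.exists_smul_eq N ((T.subtype hTN) : Sylow 2 N)
    ((Sylow.subtype (g • T) (by rw [Sylow.smul_def]; exact hT'N)))
  have hgn : ((n : G)⁻¹ * g) • T = T := by
    have h1 := (Sylow.smul_subtype hTN n).symm.trans hn
    have h2 : (n : G) • T = g • T := Sylow.subtype_injective h1
    rw [mul_smul, ← h2, inv_smul_smul]
  replace hgn := (normalizer_sylow_two h T).le (Sylow.smul_eq_iff_mem_normalizer.1 hgn)
  have h1 := Subgroup.mem_normalizer_iff_map_conj_eq.1 (le_normalizer_of_four h hU hUT hgn)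
  have h2 := Subgroup.mem_normalizer_iff_map_conj_eq.1 (inv_mem n.2)
  refine hne (h1.symm.trans (Eq.trans ?_ h2))
  rw [← e, Subgroup.map_map]
  congr 1
  ext x
  simp [mul_assoc]

theorem centralizer_four (h : Nat.card G = 168) {U : Subgroup G} (hU : Four U) {x : G}
    (hx : ∀ u ∈ U, x * u = u * x) : x ∈ U := by
  obtain ⟨T, hUT⟩ := exists_sylow_ge hU
  have hzU := zOf_mem h T hU hUT
  obtain ⟨hzT, hzo, hzC, hzu⟩ := zOf_spec h T
  have hxT : x ∈ (T : Subgroup G) := hzC.le (Subgroup.mem_centralizer_singleton_iff.2 (hx _ hzU))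
  obtain ⟨r, s, hr, hs, -, -, hr2, hz0, -, hzc, hcr, hinv⟩ := sylow_shape h T
  have hz1 : zOf h T ≠ 1 := fun e => by rw [e, orderOf_one] at hzo; omega
  obtain ⟨a, ha, ha1, haz⟩ := exists_ne_ne hU (zOf h T)
  have har : a * r ≠ r * a := fun hc => by
    rcases hcr a (hUT ha) hc with e | e | e | e
    · exact ha1 e
    · exact haz e
    · exact hz1 (hr2 ▸ e ▸ hU.sq a ha)
    · have := hU.sq a ha
      rw [e, ← mul_inv_rev, inv_eq_one, hr2] at this
      exact hz1 this
  have hinva := (hinv a (hUT ha) har).2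
  have hno : ∀ y, (y = r ∨ y = r⁻¹) → y * a ≠ a * y := by
    rintro y (rfl | rfl) hc
    · exact har hc.symm
    · refine har ?_
      calc a * r = r * (r⁻¹ * a) * r := by group
        _ = r * (a * r⁻¹) * r := by rw [hc]
        _ = r * a := by group
  by_cases hc : x * r = r * x
  · rcases hcr x hxT hc with e | e | e | e
    · rw [e]; exact one_mem _
    · rw [e]; exact hzU
    · exact absurd (hx a ha) (hno x (Or.inl e))
    · exact absurd (hx a ha) (hno x (Or.inr e))
  · have hxa : x * a * r = r * (x * a) := by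
      rw [← mul_inv_eq_iff_eq_mul]
      calc x * a * r * (x * a)⁻¹ = x * (a * r * a⁻¹) * x⁻¹ := by group
        _ = (x * r * x⁻¹)⁻¹ := by rw [hinva]; group
        _ = r := by rw [(hinv x hxT hc).2, inv_inv]
    have hback : ∀ y ∈ U, x * a = y → x ∈ U := fun y hy e => by
      rw [show x = x * a * a⁻¹ by group, e]
      exact mul_mem hy (inv_mem ha)
    have hxac : x * a * a = a * (x * a) := by rw [← mul_assoc a, hx a ha]
    rcases hcr _ (mul_mem hxT (hUT ha)) hxa with e | e | e | e
    · exact hback 1 (one_mem _) e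
    · exact hback _ hzU e
    · exact absurd hxac (e ▸ hno _ (Or.inl rfl))
    · exact absurd hxac (e ▸ hno _ (Or.inr rfl))

theorem card_normalizer_four (h : Nat.card G = 168) {U : Subgroup G} (hU : Four U) :
    Nat.card (Subgroup.normalizer (U : Set G)) = 24 := by
  classical
  haveI := Fintype.ofFinite G
  obtain ⟨T, hUT⟩ := exists_sylow_ge hU
  set N := Subgroup.normalizer (U : Set G)
  have hTN := le_normalizer_of_four h hU hUT
  obtain ⟨g, hg, hgz⟩ : ∃ g ∈ N, g ∉ (T : Subgroup G) := by
    have hzU := zOf_mem h T hU hUT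
    obtain ⟨s, hs, hs1, hsz⟩ := exists_ne_ne hU (zOf h T)
    have hs2 : orderOf s = 2 := by
      haveI := Fact.mk Nat.prime_two
      exact orderOf_eq_prime (by rw [pow_two]; exact hU.sq s hs) hs1
    obtain ⟨g, hg⟩ := isConj_iff.1 (isConj_involutions h (zOf_spec h T).2.1 hs2)
    have hback : U.map (MulAut.conj g⁻¹).toMonoidHom ≤ (T : Subgroup G) := by
      rintro _ ⟨u, hu, rfl⟩
      refine (zOf_spec h T).2.2.1.le (Subgroup.mem_centralizer_singleton_iff.2 ?_)
      have hc := comm hU hu hs
      simp only [MulEquiv.coe_toMonoidHom, MulAut.conj_apply, inv_inv]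
      calc g⁻¹ * u * g * zOf h T = g⁻¹ * (u * (g * zOf h T * g⁻¹)) * g := by group
        _ = g⁻¹ * (s * u) * g := by rw [hg, hc]
        _ = _ := by rw [← hg]; group
    have hUg : U.map (MulAut.conj g⁻¹).toMonoidHom = U := by
      by_contra hne
      refine not_conjugate h hback hUT (four_map hU _) hU hne g ?_
      rw [Subgroup.map_map]
      convert Subgroup.map_id U
      ext x
      simp [mul_assoc]
    refine ⟨g, by simpa using inv_mem (map_mem_normalizer hUg), fun hgT => hsz ?_⟩
    rw [← hg, (zOf_spec h T).2.2.1.ge hgT |> Subgroup.mem_centralizer_singleton_iff.1, mul_inv_cancel_right]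
  have hlt : (T : Subgroup G) < N := lt_of_le_of_ne hTN fun e => hgz (e ▸ hg)
  have hd : 8 ∣ Nat.card N := card_sylow_two_group h T ▸ Subgroup.card_dvd_of_le hTN
  have h8 : 8 < Nat.card N := by
    rw [← card_sylow_two_group h T]
    exact lt_of_not_ge fun hle => hgz (Subgroup.eq_of_le_of_card_ge hTN hle ▸ hg)
  -- the centralizer of `U` is `U`
  let f : ↥N →* Equiv.Perm {u : U // u ≠ 1} :=
    { toFun := fun n =>
        { toFun := fun u => ⟨⟨(n : G) * u.1.1 * (n : G)⁻¹, (Subgroup.mem_normalizer_iff.1 n.2 _).1 u.1.2⟩,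
            fun e => u.2 (Subtype.ext (conj_eq_one_iff.1 (congrArg Subtype.val e)))⟩
          invFun := fun u => ⟨⟨(n : G)⁻¹ * u.1.1 * (n : G)⁻¹⁻¹, (Subgroup.mem_normalizer_iff.1 (inv_mem n.2) _).1 u.1.2⟩,
            fun e => u.2 (Subtype.ext (conj_eq_one_iff.1 (congrArg Subtype.val e)))⟩
          left_inv := fun u => Subtype.ext (Subtype.ext (by simp [mul_assoc]))
          right_inv := fun u => Subtype.ext (Subtype.ext (by simp [mul_assoc])) }
      map_one' := Equiv.ext fun u => Subtype.ext (Subtype.ext (by simp))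
      map_mul' := fun a b => Equiv.ext fun u => Subtype.ext (Subtype.ext (by simp [mul_assoc])) }
  have hker : f.ker ≤ U.subgroupOf N := fun n hn => Subgroup.mem_subgroupOf.2
    (centralizer_four h hU fun u hu => by
      by_cases h1 : u = 1
      · rw [h1]; group
      · have := congrArg (fun p : Equiv.Perm {u : U // u ≠ 1} =>
          ((p ⟨⟨u, hu⟩, fun e => h1 (congrArg Subtype.val e)⟩).1 : G)) (MonoidHom.mem_ker.1 hn)
        exact mul_inv_eq_iff_eq_mul.1 this)
  have h1 := f.ker.card_mul_index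
  have h2 : f.ker.index ≤ 6 := by
    rw [Subgroup.index_ker]
    refine (Subgroup.card_le_card_group _).trans_eq ?_
    rw [Nat.card_perm, Nat.card_eq_fintype_card, Fintype.card_subtype_compl, Fintype.card_subtype_eq,
      ← Nat.card_eq_fintype_card, hU.card]
    rfl
  have h3 : Nat.card f.ker ≤ 4 := by
    rw [← hU.card, ← Nat.card_congr (Subgroup.subgroupOfEquivOfLe (Subgroup.le_normalizer : U ≤ N)).toEquiv]
    exact Subgroup.card_le_of_le hker
  have h4 : Nat.card N ≤ 24 := h1 ▸ Nat.mul_le_mul h3 h2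
  have h5 : Nat.card N ∣ 168 := h ▸ N.card_subgroup_dvd_card
  obtain ⟨k, hk⟩ := hd
  have : k ≤ 3 := by omega
  interval_cases k <;> first | omega | (rw [hk] at h5; norm_num at h5)

theorem normalizer_four_S4 (h : Nat.card G = 168) {U : Subgroup G} (hU : Four U) :
    Nonempty (↥(Subgroup.normalizer (U : Set G)) ≃* Equiv.Perm (Fin 4)) := by
  classical
  haveI : Fact (Nat.Prime 3) := ⟨Nat.prime_three⟩
  set N := Subgroup.normalizer (U : Set G)
  have hN : Nat.card N = 24 := card_normalizer_four h hU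
  have hP : ∀ P : Sylow 3 N, Nat.card (P : Subgroup N) = 3 := fun P => by
    rw [P.card_eq_multiplicity, hN, show (24 : ℕ) = 3 * 8 from rfl,
      Nat.factorization_mul (by norm_num) (by norm_num), Finsupp.add_apply,
      Nat.prime_three.factorization_self,
      Nat.factorization_eq_zero_of_not_dvd (by norm_num : ¬ 3 ∣ 8), add_zero, pow_one]
  set f := MulAction.toPermHom N (Sylow 3 N)
  set UN := U.subgroupOf N with hUN
  haveI : UN.Normal := Subgroup.normal_in_normalizer
  have hUc : Nat.card UN = 4 := by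
    rw [hUN, Nat.card_congr (Subgroup.subgroupOfEquivOfLe Subgroup.le_normalizer).toEquiv, hU.card]
  have hdisj : ∀ P : Sylow 3 N, Disjoint UN (P : Subgroup N) := fun P => disjoint_iff.2
    (Subgroup.eq_bot_of_card_eq _ (Nat.eq_one_of_dvd_coprimes (by norm_num : Nat.Coprime 4 3)
      ((Subgroup.card_dvd_of_le inf_le_left).trans hUc.dvd) ((Subgroup.card_dvd_of_le inf_le_right).trans (hP P).dvd)))
  have hcent : ∀ n : N, (∀ u ∈ UN, n * u = u * n) → n ∈ UN := fun n hn => Subgroup.mem_subgroupOf.2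
    (centralizer_four h hU fun u hu => congrArg Subtype.val (hn ⟨u, Subgroup.le_normalizer hu⟩ hu))
  have hnot : ∀ P : Sylow 3 N, ¬ (P : Subgroup N).Normal := fun P hPn => by
    have hle : (P : Subgroup N) ≤ UN := fun x hx => hcent x fun u hu =>
      (Subgroup.commute_of_normal_of_disjoint UN (P : Subgroup N) inferInstance hPn (hdisj P) u x hu hx).symm
    have := Subgroup.card_dvd_of_le hle
    rw [hP, hUc] at this
    norm_num at this
  obtain ⟨P⟩ := (inferInstance : Nonempty (Sylow 3 N))
  have hn3 : Nat.card (Sylow 3 N) = 4 := by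
    have h1 := P.card_dvd_index
    have h2 := (P : Subgroup N).card_mul_index
    rw [hP, hN] at h2
    rw [show (P : Subgroup N).index = 8 by omega] at h1
    have hm : Nat.card (Sylow 3 N) % 3 = 1 := card_sylow_modEq_one 3 N
    have h3 : Nat.card (Sylow 3 N) ≠ 1 := fun e => by
      haveI : Subsingleton (Sylow 3 N) := (Nat.card_eq_one_iff_unique.1 e).1
      exact hnot P (Sylow.normal_of_subsingleton P)
    have hle := Nat.le_of_dvd (by norm_num) h1
    interval_cases hk : Nat.card (Sylow 3 N) <;> simp_all (config := {decide := true})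
  have hker : f.ker ≤ Subgroup.normalizer ((P : Subgroup N) : Set N) := fun x hx => by
    exact Sylow.smul_eq_iff_mem_normalizer.1 (DFunLike.congr_fun (MonoidHom.mem_ker.1 hx) P)
  have hNP : Nat.card (Subgroup.normalizer ((P : Subgroup N) : Set N)) = 6 := by
    have h1 := (Subgroup.normalizer ((P : Subgroup N) : Set N)).card_mul_index
    have h2 := (Sylow.card_eq_index_normalizer P).symm.trans hn3
    change (Subgroup.normalizer ((P : Subgroup N) : Set N)).index = 4 at h2
    rw [h2, hN] at h1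
    omega
  have hinj : Function.Injective f := by
    rw [← MonoidHom.ker_eq_bot_iff]
    have hbot : f.ker ⊓ UN = ⊥ := by
      rw [Subgroup.eq_bot_iff_forall]
      intro x hx
      obtain ⟨hx1, hx2⟩ := Subgroup.mem_inf.1 hx
      -- `x` normalizes `P`, so it centralizes `P`
      have hc : ∀ p ∈ (P : Subgroup N), p * x = x * p := fun p hp => by
        have h1 : x * p * x⁻¹ * p⁻¹ ∈ (P : Subgroup N) :=
          mul_mem ((Subgroup.mem_normalizer_iff.1 (hker hx1) p).1 hp) (inv_mem hp)
        have h2 : x * p * x⁻¹ * p⁻¹ ∈ UN := by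
          rw [mul_assoc x, mul_assoc x]
          exact mul_mem hx2 ((inferInstance : UN.Normal).conj_mem _ (inv_mem hx2) p)
        have := (disjoint_iff.1 (hdisj P)).le (Subgroup.mem_inf.2 ⟨h2, h1⟩)
        rw [Subgroup.mem_bot, mul_inv_eq_one, mul_inv_eq_iff_eq_mul] at this
        exact this.symm
      by_contra hne
      -- so `P` centralizes an involution, hence lies in a Sylow 2-subgroup
      obtain ⟨p, hp⟩ := exists_prime_orderOf_dvd_card' (G := (P : Subgroup N)) 3 (by rw [hP])
      have hpo : orderOf ((p : N) : G) = 3 := by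
        rw [Subgroup.orderOf_coe, Subgroup.orderOf_coe, hp]
      have hmem : (x : G) ∈ Subgroup.centralizer ({((p : N) : G)} : Set G) :=
        Subgroup.mem_centralizer_singleton_iff.2 (congrArg Subtype.val (hc p p.2)).symm
      rw [centralizer_of_prime h (Or.inl rfl) _ hpo] at hmem
      have h2 : orderOf (x : G) ∣ 3 := by
        rw [← hpo, ← Nat.card_zpowers ((p : N) : G), ← Subgroup.orderOf_mk _ hmem]
        exact orderOf_dvd_natCard _
      have h4 : orderOf (x : G) ∣ 4 := by
        rw [Subgroup.orderOf_coe, ← hUc, ← Subgroup.orderOf_mk _ hx2]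
        exact orderOf_dvd_natCard _
      exact hne (Subtype.ext (orderOf_eq_one_iff.1 (Nat.eq_one_of_dvd_coprimes (by norm_num : Nat.Coprime 3 4) h2 h4)))
    have hle : f.ker ≤ UN := fun x hx => hcent x fun u hu =>
      (Subgroup.commute_of_normal_of_disjoint f.ker UN (MonoidHom.normal_ker f) inferInstance
        (disjoint_iff.2 hbot) x u hx hu)
    rwa [inf_eq_left.2 hle] at hbot
  obtain ⟨eS⟩ := (Finite.card_eq (α := Sylow 3 N) (β := Fin 4)).1 (by rw [hn3, Nat.card_fin])
  refine ⟨(MulEquiv.ofBijective f ((Nat.bijective_iff_injective_and_card f).2 ⟨hinj, ?_⟩)).trans eS.permCongrHom⟩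
  rw [hN, Nat.card_perm, hn3]
  rfl

theorem normalizer_unique (h : Nat.card G = 168) {U W : Subgroup G} (hU : Four U) (hW : Four W)
    (hWN : (Subgroup.normalizer (W : Set G)) = Subgroup.normalizer (U : Set G)) : U = W := by
  by_contra hne
  obtain ⟨T, hT⟩ := exists_sylow_ge hU
  -- both lie in every Sylow 2-subgroup of the normalizer
  have hTN := le_normalizer_of_four h hU hT
  have hWT : W ≤ (T : Subgroup G) := by
    have hWn : W ≤ Subgroup.normalizer ((T : Subgroup G) ⊔ W : Subgroup G) := le_sup_right.trans Subgroup.le_normalizer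
    have hp : IsPGroup 2 ↥((T : Subgroup G) ⊔ W) := IsPGroup.to_sup_of_normal_right' T.2
      (IsPGroup.of_card (p := 2) (n := 2) hW.card) (hTN.trans hWN.ge)
    exact le_sup_right.trans (T.3 hp le_sup_left).le
  set N := Subgroup.normalizer (U : Set G)
  have hTle : U ⊔ W ≤ (T : Subgroup G) := sup_le hT hWT
  have heq : U ⊔ W = (T : Subgroup G) := by
    refine Subgroup.eq_of_le_of_card_ge hTle ?_
    rw [card_sylow_two_group h T]
    have hlt : U < U ⊔ W := lt_of_le_of_ne le_sup_left fun e =>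
      hne (Subgroup.eq_of_le_of_card_ge (e ▸ le_sup_right) (by rw [hU.card, hW.card])).symm
    obtain ⟨k, hk⟩ := hU.card ▸ Subgroup.card_dvd_of_le hlt.le
    have : 4 < Nat.card ↥(U ⊔ W) := hU.card ▸ lt_of_not_ge fun hle =>
      hlt.ne (Subgroup.eq_of_le_of_card_ge hlt.le hle)
    omega
  have hNT : N ≤ Subgroup.normalizer ((T : Subgroup G) : Set G) := by
    intro n hn
    rw [Subgroup.mem_normalizer_iff_map_conj_eq, ← heq, Subgroup.map_sup,
      Subgroup.mem_normalizer_iff_map_conj_eq.1 hn,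
      Subgroup.mem_normalizer_iff_map_conj_eq.1 (hWN.ge hn)]
  have := Subgroup.card_le_of_le hNT
  rw [normalizer_sylow_two h T, card_normalizer_four h hU, card_sylow_two_group h T] at this
  omega

theorem card_le_of_ne_top (h : Nat.card G = 168) {M : Subgroup G} (hM : M ≠ ⊤) : Nat.card M ≤ 24 := by
  classical
  have hm := M.card_mul_index
  rw [h] at hm
  by_contra hgt
  have h6 : M.index ≤ 6 := by
    by_contra h7
    have : 25 * 7 ≤ Nat.card M * M.index := Nat.mul_le_mul (by omega) (by omega)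
    omega
  have hker : (MulAction.toPermHom G (G ⧸ M)).ker = ⊥ := by
    rcases (MonoidHom.normal_ker (MulAction.toPermHom G (G ⧸ M))).eq_bot_or_eq_top with e | e
    · exact e
    · exfalso
      rw [← Subgroup.normalCore_eq_ker] at e
      exact hM (top_le_iff.1 (e ▸ Subgroup.normalCore_le M))
  have hd := Subgroup.card_dvd_of_injective _ ((MonoidHom.ker_eq_bot_iff _).1 hker)
  rw [h, Nat.card_perm, ← Subgroup.index_eq_card] at hd
  have hi : 0 < M.index := Nat.pos_of_ne_zero Subgroup.index_ne_zero_of_finite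
  interval_cases hk : M.index <;> simp_all [Nat.factorial] <;> omega

theorem isCoatom_normalizer_four (h : Nat.card G = 168) {U : Subgroup G} (hU : Four U) :
    IsCoatom (Subgroup.normalizer (U : Set G)) := by
  refine ⟨fun e => ?_, fun M hM => ?_⟩
  · have := card_normalizer_four h hU
    rw [e, Subgroup.card_top, h] at this
    omega
  · by_contra hne
    have h1 := card_le_of_ne_top h hne
    have h2 := Subgroup.eq_of_le_of_card_ge hM.le (by rw [card_normalizer_four h hU]; exact h1)
    exact hM.ne h2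

theorem normalizer_three_le (h : Nat.card G = 168) (P : Sylow 3 G) :
    ∃ U : Subgroup G, Four U ∧ Subgroup.normalizer ((P : Subgroup G) : Set G) ≤ Subgroup.normalizer (U : Set G) := by
  classical
  haveI : Fact (Nat.Prime 3) := ⟨Nat.prime_three⟩
  obtain ⟨T⟩ := (inferInstance : Nonempty (Sylow 2 G))
  obtain ⟨U, -, -, -, -, hU, -, -⟩ := exists_two h T
  set N := Subgroup.normalizer (U : Set G) with hNdef
  have hN := card_normalizer_four h hU
  obtain ⟨e⟩ := normalizer_four_S4 h hU
  -- an element of order three and an involution inverting it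
  let a : N := e.symm (Equiv.swap 0 1 * Equiv.swap 1 2)
  let b : N := e.symm (Equiv.swap 0 1)
  have ha : orderOf (a : G) = 3 := by
    rw [Subgroup.orderOf_coe, MulEquiv.orderOf_eq]
    exact orderOf_eq_prime (by decide) (by decide)
  obtain ⟨P0, hP0⟩ := (IsPGroup.of_card (p := 3) (n := 1) (G := Subgroup.zpowers (a : G))
    (by rw [Nat.card_zpowers, ha, pow_one])).exists_le_sylow
  have hPe : Subgroup.zpowers (a : G) = (P0 : Subgroup G) := Subgroup.eq_of_le_of_card_ge hP0
    (by rw [Nat.card_zpowers, ha, card_sylow_prime h (Or.inl rfl) P0])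
  obtain ⟨g, hg⟩ := MulAction.exists_smul_eq G P0 P
  refine ⟨U.map (MulAut.conj g).toMonoidHom, four_map hU g, ?_⟩
  set NP0 := Subgroup.normalizer ((P0 : Subgroup G) : Set G) with hNP0
  have hab : (b : G) * a * (b : G)⁻¹ = (a : G) ^ 2 := by
    have h1 : Equiv.swap (0 : Fin 4) 1 * (Equiv.swap 0 1 * Equiv.swap 1 2) * (Equiv.swap (0 : Fin 4) 1)⁻¹ =
        (Equiv.swap 0 1 * Equiv.swap 1 2) ^ 2 := by decide
    have h2 := congrArg e.symm h1
    rw [map_mul, map_mul, map_inv, map_pow] at h2
    exact congrArg Subtype.val h2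
  have hbN : (b : G) ∈ NP0 := by
    rw [hNP0, ← hPe, Subgroup.mem_normalizer_iff_map_conj_eq, MonoidHom.map_zpowers]
    show Subgroup.zpowers ((b : G) * a * (b : G)⁻¹) = _
    rw [hab]
    refine Subgroup.eq_of_le_of_card_ge (Subgroup.zpowers_le.2 (pow_mem (Subgroup.mem_zpowers _) 2)) (le_of_eq ?_)
    rw [Nat.card_zpowers, Nat.card_zpowers, orderOf_pow, ha]
    rfl
  have hle : (P0 : Subgroup G) ⊔ Subgroup.zpowers (b : G) ≤ NP0 := sup_le Subgroup.le_normalizer (Subgroup.zpowers_le.2 hbN)
  have hb : orderOf (b : G) = 2 := by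
    rw [Subgroup.orderOf_coe, MulEquiv.orderOf_eq]
    exact orderOf_eq_prime (by decide) (by decide)
  have hNP : NP0 ≤ N := by
    have heq : (P0 : Subgroup G) ⊔ Subgroup.zpowers (b : G) = NP0 := by
      refine Subgroup.eq_of_le_of_card_ge hle ?_
      have h1 : Nat.card NP0 = 6 := card_normalizer_three h P0
      have h2 : 3 ∣ Nat.card ↥((P0 : Subgroup G) ⊔ Subgroup.zpowers (b : G)) :=
        (card_sylow_prime h (Or.inl rfl) P0).symm.dvd.trans (Subgroup.card_dvd_of_le le_sup_left)
      have h3 : 2 ∣ Nat.card ↥((P0 : Subgroup G) ⊔ Subgroup.zpowers (b : G)) := by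
        have := Subgroup.card_dvd_of_le (le_sup_right (a := (P0 : Subgroup G)) (b := Subgroup.zpowers (b : G)))
        rwa [Nat.card_zpowers, hb] at this
      have h4 := Nat.le_of_dvd Nat.card_pos ((by norm_num : Nat.Coprime 2 3).mul_dvd_of_dvd_of_dvd h3 h2)
      omega
    rw [← heq, ← hPe]
    exact sup_le (Subgroup.zpowers_le.2 a.2) (Subgroup.zpowers_le.2 b.2)
  intro x hx
  have hx' : g⁻¹ * x * g ∈ N := hNP (Sylow.smul_eq_iff_mem_normalizer.1 (by
    rw [mul_smul, mul_smul, hg, Sylow.smul_eq_iff_mem_normalizer.2 hx, ← hg, inv_smul_smul]))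
  refine map_mem_normalizer ?_
  rw [Subgroup.map_map]
  conv_rhs => rw [← Subgroup.mem_normalizer_iff_map_conj_eq.1 hx', Subgroup.map_map]
  congr 1
  ext y
  simp [mul_assoc]

/-- the four-group in the symmetric group of degree four -/
def vFour : Subgroup (Equiv.Perm (Fin 4)) where
  carrier := {g | g * g = 1 ∧ Equiv.Perm.sign g = 1}
  one_mem' := ⟨one_mul 1, map_one _⟩
  mul_mem' {a b} ha hb := (by decide : ∀ a b : Equiv.Perm (Fin 4), (a * a = 1 ∧ Equiv.Perm.sign a = 1) →
    (b * b = 1 ∧ Equiv.Perm.sign b = 1) → (a * b * (a * b) = 1 ∧ Equiv.Perm.sign (a * b) = 1)) a b ha hb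
  inv_mem' {a} ha := (by decide : ∀ a : Equiv.Perm (Fin 4), (a * a = 1 ∧ Equiv.Perm.sign a = 1) →
    (a⁻¹ * a⁻¹ = 1 ∧ Equiv.Perm.sign a⁻¹ = 1)) a ha

theorem vFour_squares : ∀ g : Equiv.Perm (Fin 4), g * g = 1 ∧ Equiv.Perm.sign g = 1 →
    ∃ w : Equiv.Perm (Fin 4), w * w = g := by decide

theorem vFour_conj : ∀ g x : Equiv.Perm (Fin 4), g * g = 1 ∧ Equiv.Perm.sign g = 1 →
    x * g * x⁻¹ * (x * g * x⁻¹) = 1 ∧ Equiv.Perm.sign (x * g * x⁻¹) = 1 := by decide

theorem card_vFour : Nat.card vFour = 4 := by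
  rw [show Nat.card vFour = Nat.card {g : Equiv.Perm (Fin 4) // g * g = 1 ∧ Equiv.Perm.sign g = 1} from rfl,
    Nat.card_eq_fintype_card]
  decide

theorem of_four_sylow (h : Nat.card G = 168) {M : Subgroup G} (hd : Nat.card M ∣ 168)
    (hle : Nat.card M ≤ 24) (h7 : ¬ 7 ∣ Nat.card M) (h3 : 3 ∣ Nat.card M)
    (hn1 : ¬ Nat.card (Sylow 3 M) = 1) :
    ∃ U : Subgroup G, Four U ∧ M ≤ Subgroup.normalizer (U : Set G) := by
  classical
  haveI : Fact (Nat.Prime 3) := ⟨Nat.prime_three⟩
  have h24 : Nat.card M ∣ 24 :=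
    Nat.Coprime.dvd_of_dvd_mul_right ((Fact.out : Nat.Prime 7).coprime_iff_not_dvd.2 h7).symm
      (show Nat.card M ∣ 24 * 7 from hd)
  obtain ⟨S⟩ := (inferInstance : Nonempty (Sylow 3 M))
  have hS3 : ∀ P : Sylow 3 M, Nat.card (P : Subgroup M) = 3 := fun P => by
    obtain ⟨n, hn⟩ := IsPGroup.iff_card.1 P.2
    have a2 := P.dvd_card_of_dvd_card h3
    have a1 := (P : Subgroup M).card_subgroup_dvd_card.trans h24
    rcases n with _ | _ | n
    · rw [hn] at a2; norm_num at a2
    · rw [hn, pow_one]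
    · exfalso
      rw [hn, pow_succ, pow_succ, mul_assoc] at a1
      have := (dvd_mul_left (3 * 3) (3 ^ n)).trans a1
      norm_num at this
  have hn4 : Nat.card (Sylow 3 M) = 4 := by
    have h1 := S.card_dvd_index
    have h2 := (S : Subgroup M).card_mul_index
    rw [hS3] at h2
    have h8 : (S : Subgroup M).index ∣ 8 := by
      have : 3 * (S : Subgroup M).index ∣ 3 * 8 := by rw [h2]; exact h24
      exact Nat.dvd_of_mul_dvd_mul_left (by norm_num) this
    have hm : Nat.card (Sylow 3 M) % 3 = 1 := card_sylow_modEq_one 3 M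
    have h18 := h1.trans h8
    have hle' := Nat.le_of_dvd (by norm_num) h18
    interval_cases hk : Nat.card (Sylow 3 M) <;> simp_all (config := {decide := true})
  set f := MulAction.toPermHom M (Sylow 3 M) with hf
  set NS := Subgroup.normalizer ((S : Subgroup M) : Set M) with hNS
  have hNSi : NS.index = 4 := (Sylow.card_eq_index_normalizer S).symm.trans hn4
  have hkle : f.ker ≤ NS := fun x hx => by
    exact Sylow.smul_eq_iff_mem_normalizer.1 (DFunLike.congr_fun (MonoidHom.mem_ker.1 hx) S)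
  have hNSc : Nat.card NS = 3 ∨ Nat.card NS = 6 := by
    have h1 := NS.card_mul_index
    have h2 : 3 ∣ Nat.card NS := hS3 S ▸ Subgroup.card_dvd_of_le Subgroup.le_normalizer
    have h3' : Nat.card NS ≤ 6 := by rw [hNSi] at h1; omega
    have h4 : 0 < Nat.card NS := Nat.card_pos
    omega
  have hkbot : f.ker = ⊥ := by
    refine (Subgroup.eq_bot_iff_forall _).2 fun x hx => ?_
    -- no element of order three lies in the kernel
    have hno3 : ∀ y ∈ f.ker, orderOf y ≠ 3 := by
      intro y hy e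
      have hall : ∀ P : Sylow 3 M, y ∈ (P : Subgroup M) := fun P => by
        have hp : IsPGroup 3 (Subgroup.zpowers y) :=
          IsPGroup.of_card (n := 1) (by rw [Nat.card_zpowers, e, pow_one])
        have := hp.inf_normalizer_sylow P
        rw [inf_eq_left.2 (Subgroup.zpowers_le.2 (Sylow.smul_eq_iff_mem_normalizer.1
          (DFunLike.congr_fun (MonoidHom.mem_ker.1 hy) P)))] at this
        exact (this.le.trans inf_le_right) (Subgroup.mem_zpowers y)
      refine hn1 (Nat.card_eq_one_iff_unique.2 ⟨⟨fun P Q => Sylow.ext ?_⟩, ⟨S⟩⟩)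
      rw [← Subgroup.eq_of_le_of_card_ge (Subgroup.zpowers_le.2 (hall P)) (by rw [hS3, Nat.card_zpowers, e]),
        ← Subgroup.eq_of_le_of_card_ge (Subgroup.zpowers_le.2 (hall Q)) (by rw [hS3, Nat.card_zpowers, e])]
    have h2 : ∀ y ∈ f.ker, orderOf y = 1 ∨ orderOf y = 2 := fun y hy => by
      have hd' : orderOf y ∣ 6 := by
        have := Subgroup.orderOf_mk y (hkle hy) ▸ orderOf_dvd_natCard (⟨y, hkle hy⟩ : NS)
        rcases hNSc with e | e <;> rw [e] at this
        · exact this.trans (by norm_num)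
        · exact this
      have hle6 := Nat.le_of_dvd (by norm_num) hd'
      have h36 : orderOf y ≠ 6 := fun e => hno3 (y ^ 2) (pow_mem hy 2) (by rw [orderOf_pow, e]; rfl)
      have h33 := hno3 y hy
      interval_cases hk : orderOf y <;> simp_all (config := {decide := true})
    rcases h2 x hx with e | e
    · exact orderOf_eq_one_iff.1 e
    exfalso
    -- the kernel has order two, so it is centralized by an element of order three
    obtain ⟨p, hp⟩ := exists_prime_orderOf_dvd_card' (G := (S : Subgroup M)) 3 (by rw [hS3])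
    have hpo : orderOf ((p : M) : G) = 3 := by rw [Subgroup.orderOf_coe, Subgroup.orderOf_coe, hp]
    have hK2 : ∀ y ∈ f.ker, y = 1 ∨ y = x := by
      intro y hy
      by_contra hne
      push Not at hne
      have hKc : 4 ≤ Nat.card f.ker := by
        have hxy : y * x ≠ 1 := fun e' => hne.2 (by
          rw [eq_inv_of_mul_eq_one_left e', inv_eq_of_mul_eq_one_right]
          rw [← pow_two, ← e, pow_orderOf_eq_one])
        have : ({1, x, y, y * x} : Set M).ncard = 4 := by
          rw [Set.ncard_eq_four]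
          refine ⟨1, x, y, y * x, ?_, hne.1.symm, hxy.symm, hne.2.symm, ?_, ?_, rfl⟩
          · exact fun e' => by rw [← e', orderOf_one] at e; omega
          · exact fun e' => hne.1 (mul_eq_right.1 e'.symm)
          · exact fun e' => by rw [mul_eq_left.1 e'.symm, orderOf_one] at e; omega
        rw [← this]
        show _ ≤ Nat.card ↥(f.ker : Set M)
        rw [Nat.card_coe_set_eq]
        refine Set.ncard_le_ncard ?_
        rintro w (rfl | rfl | rfl | rfl)
        exacts [one_mem _, hx, hy, mul_mem hy hx]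
      have hKd := Subgroup.card_dvd_of_le hkle
      rcases hNSc with e' | e' <;> rw [e'] at hKd
      · have := Nat.le_of_dvd (by norm_num) hKd
        omega
      · have h6 : Nat.card f.ker = 6 := by
          have := Nat.le_of_dvd (by norm_num) hKd
          interval_cases hk : Nat.card f.ker <;> simp_all (config := {decide := true})
        obtain ⟨w, hw⟩ := exists_prime_orderOf_dvd_card' (G := f.ker) 3 (by rw [h6]; norm_num)
        exact hno3 w w.2 (by rw [Subgroup.orderOf_coe, hw])
    have hconj : (p : M) * x * (p : M)⁻¹ = x := by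
      refine (hK2 _ ((MonoidHom.normal_ker f).conj_mem x hx p)).resolve_left fun e' => ?_
      rw [conj_eq_one_iff.1 e', orderOf_one] at e
      omega
    have hmem : (x : G) ∈ Subgroup.centralizer ({((p : M) : G)} : Set G) :=
      Subgroup.mem_centralizer_singleton_iff.2 (congrArg Subtype.val (mul_inv_eq_iff_eq_mul.1 hconj).symm)
    rw [centralizer_of_prime h (Or.inl rfl) _ hpo] at hmem
    have h23 : orderOf (x : G) ∣ 3 := by
      rw [← hpo, ← Nat.card_zpowers ((p : M) : G), ← Subgroup.orderOf_mk _ hmem]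
      exact orderOf_dvd_natCard _
    rw [Subgroup.orderOf_coe, e] at h23
    norm_num at h23
  obtain ⟨eS⟩ := (Finite.card_eq (α := Sylow 3 M) (β := Fin 4)).1 (by rw [hn4, Nat.card_fin])
  let g : ↥M →* Equiv.Perm (Fin 4) := eS.permCongrHom.toMonoidHom.comp f
  have hg : Function.Injective g := eS.permCongrHom.injective.comp ((MonoidHom.ker_eq_bot_iff f).1 hkbot)
  have hidx : g.range.index ≤ 2 := by
    have h1 := g.range.card_mul_index
    rw [← Nat.card_congr (g.ofInjective hg).toEquiv, Nat.card_perm, Nat.card_fin] at h1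
    have h12 : 12 ≤ Nat.card M := by
      have := NS.card_mul_index
      rw [hNSi] at this
      omega
    have h24' : (4 : ℕ).factorial = 24 := rfl
    by_contra hgt
    have : 12 * 3 ≤ Nat.card M * g.range.index := Nat.mul_le_mul h12 (by omega)
    omega
  have hV : vFour ≤ g.range := by
    intro v hv
    obtain ⟨w, rfl⟩ := vFour_squares v hv
    rcases (show g.range.index = 1 ∨ g.range.index = 2 by
      have := Nat.pos_of_ne_zero (Subgroup.index_ne_zero_of_finite (H := g.range)); omega) with e | e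
    · rw [Subgroup.index_eq_one.1 e]; exact Subgroup.mem_top _
    · exact Subgroup.mul_self_mem_of_index_two e w
  set V := vFour.comap g with hVdef
  have hVc : Nat.card V = 4 := by
    rw [← card_vFour, ← Subgroup.card_map_of_injective hg (K := V), hVdef, Subgroup.map_comap_eq_self hV]
  refine ⟨V.map M.subtype, ⟨by rw [Subgroup.card_map_of_injective M.subtype_injective, hVc], ?_⟩, ?_⟩
  · rintro _ ⟨v, hv, rfl⟩
    rw [← map_mul, show v * v = 1 from hg (by rw [map_mul, map_one]; exact (show g v ∈ vFour from hv).1), map_one]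
  · have hVn : V.Normal := ⟨fun v hv x => by
      show g (x * v * x⁻¹) ∈ vFour
      rw [map_mul, map_mul, map_inv]
      exact vFour_conj _ _ hv⟩
    intro x hx
    rw [Subgroup.mem_normalizer_iff]
    intro y
    constructor
    · rintro ⟨w, hw, rfl⟩
      exact ⟨_, hVn.conj_mem w hw ⟨x, hx⟩, rfl⟩
    · rintro ⟨w, hw, hwe⟩
      refine ⟨_, hVn.conj_mem w hw ⟨x, hx⟩⁻¹, ?_⟩
      have hw' : (w : G) = x * y * x⁻¹ := hwe
      simp [hw', mul_assoc]

theorem le_local (h : Nat.card G = 168) {M : Subgroup G} (hM : M ≠ ⊤) :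
    (∃ U : Subgroup G, Four U ∧ M ≤ Subgroup.normalizer (U : Set G)) ∨
      ∃ P : Sylow 7 G, M ≤ Subgroup.normalizer ((P : Subgroup G) : Set G) := by
  classical
  haveI : Fact (Nat.Prime 3) := ⟨Nat.prime_three⟩
  have hle := card_le_of_ne_top h hM
  have hd : Nat.card M ∣ 168 := h ▸ M.card_subgroup_dvd_card
  by_cases h7 : 7 ∣ Nat.card M
  · right
    obtain ⟨S⟩ := (inferInstance : Nonempty (Sylow 7 M))
    have h1 := S.card_dvd_index
    have h2 := (S : Subgroup M).card_mul_index
    have hm : Nat.card (Sylow 7 M) % 7 = 1 := card_sylow_modEq_one 7 M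
    have hS7 : Nat.card (S : Subgroup M) = 7 := by
      have a1 : Nat.card (S : Subgroup M) ∣ 168 := (S : Subgroup M).card_subgroup_dvd_card.trans hd
      have a2 : 7 ∣ Nat.card (S : Subgroup M) := S.dvd_card_of_dvd_card h7
      obtain ⟨n, hn⟩ := IsPGroup.iff_card.1 S.2
      have a3 : Nat.card (S : Subgroup M) ≤ 24 := (Subgroup.card_le_card_group _).trans hle
      rcases n with _ | _ | n
      · rw [hn] at a2; norm_num at a2
      · rw [hn, pow_one]
      · rw [hn] at a3
        have : 7 ^ 2 ≤ 7 ^ (n + 1 + 1) := Nat.pow_le_pow_right (by norm_num) (by omega)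
        omega
    rw [hS7] at h2
    have hn1 : Nat.card (Sylow 7 M) = 1 := by
      have := Nat.card_pos (α := M)
      have := Nat.le_of_dvd (by omega) h1
      omega
    haveI : Subsingleton (Sylow 7 M) := (Nat.card_eq_one_iff_unique.1 hn1).1
    haveI := Sylow.normal_of_subsingleton S
    have hSc : Nat.card ((S : Subgroup M).map M.subtype) = 7 := by
      rw [Subgroup.card_map_of_injective M.subtype_injective, hS7]
    obtain ⟨P, hP⟩ := (IsPGroup.of_card (p := 7) (n := 1) (by rw [hSc, pow_one])).exists_le_sylow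
    refine ⟨P, ?_⟩
    have e : (P : Subgroup G) = (S : Subgroup M).map M.subtype :=
      (Subgroup.eq_of_le_of_card_ge hP (by rw [hSc, card_sylow_prime h (Or.inr rfl) P])).symm
    rw [e]
    intro x hx
    rw [Subgroup.mem_normalizer_iff]
    intro y
    constructor
    · rintro ⟨w, hw, rfl⟩
      exact ⟨_, (inferInstance : (S : Subgroup M).Normal).conj_mem w hw ⟨x, hx⟩, rfl⟩
    · rintro ⟨w, hw, hwe⟩
      refine ⟨_, (inferInstance : (S : Subgroup M).Normal).conj_mem w hw ⟨x, hx⟩⁻¹, ?_⟩
      have hw' : (w : G) = x * y * x⁻¹ := hwe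
      simp [hw', mul_assoc]
  left
  -- a normal subgroup of prime power order
  by_cases h3 : 3 ∣ Nat.card M
  · obtain ⟨S⟩ := (inferInstance : Nonempty (Sylow 3 M))
    have hS3 : Nat.card (S : Subgroup M) = 3 := by
      obtain ⟨n, hn⟩ := IsPGroup.iff_card.1 S.2
      have a1 : Nat.card (S : Subgroup M) ∣ 168 := (S : Subgroup M).card_subgroup_dvd_card.trans hd
      have a2 : 3 ∣ Nat.card (S : Subgroup M) := S.dvd_card_of_dvd_card h3
      rcases n with _ | _ | n
      · rw [hn] at a2; norm_num at a2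
      · rw [hn, pow_one]
      · exfalso
        rw [hn, pow_succ, pow_succ, mul_assoc] at a1
        have := (dvd_mul_left (3 * 3) (3 ^ n)).trans a1
        norm_num at this
    by_cases hn1 : Nat.card (Sylow 3 M) = 1
    · haveI : Subsingleton (Sylow 3 M) := (Nat.card_eq_one_iff_unique.1 hn1).1
      haveI := Sylow.normal_of_subsingleton S
      have hSc : Nat.card ((S : Subgroup M).map M.subtype) = 3 := by
        rw [Subgroup.card_map_of_injective M.subtype_injective, hS3]
      obtain ⟨P, hP⟩ := (IsPGroup.of_card (p := 3) (n := 1) (by rw [hSc, pow_one])).exists_le_sylow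
      obtain ⟨U, hU, hle'⟩ := normalizer_three_le h P
      refine ⟨U, hU, le_trans ?_ hle'⟩
      have e : (P : Subgroup G) = (S : Subgroup M).map M.subtype :=
        (Subgroup.eq_of_le_of_card_ge hP (by rw [hSc, card_sylow_prime h (Or.inl rfl) P])).symm
      rw [e]
      intro x hx
      rw [Subgroup.mem_normalizer_iff]
      intro y
      constructor
      · rintro ⟨w, hw, rfl⟩
        exact ⟨_, (inferInstance : (S : Subgroup M).Normal).conj_mem w hw ⟨x, hx⟩, rfl⟩
      · rintro ⟨w, hw, hwe⟩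
        refine ⟨_, (inferInstance : (S : Subgroup M).Normal).conj_mem w hw ⟨x, hx⟩⁻¹, ?_⟩
        have hw' : (w : G) = x * y * x⁻¹ := hwe
        simp [hw', mul_assoc]
    · -- four Sylow 3-subgroups: order 12 or 24, and a normal four-group
      exact of_four_sylow h hd hle h7 h3 hn1
  · -- a 2-group
    have h8 : Nat.card M ∣ 8 := by
      refine Nat.Coprime.dvd_of_dvd_mul_right ?_ (show Nat.card M ∣ 8 * 21 from hd)
      rw [show (21 : ℕ) = 3 * 7 from rfl]
      exact Nat.Coprime.mul_right (Nat.prime_three.coprime_iff_not_dvd.2 h3).symm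
        ((Fact.out : Nat.Prime 7).coprime_iff_not_dvd.2 h7).symm
    obtain ⟨n, -, hn⟩ := (Nat.dvd_prime_pow Nat.prime_two).1 (show Nat.card M ∣ 2 ^ 3 from h8)
    obtain ⟨T, hT⟩ := (IsPGroup.of_card (p := 2) (n := n) hn).exists_le_sylow
    obtain ⟨U, -, -, hUT, -, hU, -, -⟩ := exists_two h T
    exact ⟨U, hU, hT.trans (le_normalizer_of_four h hU hUT)⟩

end CfsgLib.OneSixEight.Subgroups
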