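import Mathlib

/-!
Data for the subgroups of `PSL(2, 11)` isomorphic to `A₅`.

Elements are coded by their entries modulo 11, normalised up to sign; the finite facts are checked
by the kernel.
-/

set_option autoImplicit false
set_option maxRecDepth 100000
set_option maxHeartbeats 400000

namespace CfsgLib.PSLEleven


/-- Entries modulo 11 of a two-by-two matrix. -/
abbrev M4 : Type := ℕ × ℕ × ℕ × ℕ

/-- Decoding. -/
def dec (k : ℕ) : M4 := (k / 1331, k / 121 % 11, k / 11 % 11, k % 11)

/-- Coding. -/
def cod (m : M4) : ℕ := ((m.1 * 11 + m.2.1) * 11 + m.2.2.1) * 11 + m.2.2.2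

/-- Product. -/
def mul (m n : M4) : M4 :=
  ((m.1 * n.1 + m.2.1 * n.2.2.1) % 11, (m.1 * n.2.1 + m.2.1 * n.2.2.2) % 11,
    (m.2.2.1 * n.1 + m.2.2.2 * n.2.2.1) % 11, (m.2.2.1 * n.2.1 + m.2.2.2 * n.2.2.2) % 11)

/-- Negative. -/
def neg (m : M4) : M4 :=
  ((11 - m.1) % 11, (11 - m.2.1) % 11, (11 - m.2.2.1) % 11, (11 - m.2.2.2) % 11)

/-- Inverse in determinant one. -/
def inv (m : M4) : M4 := (m.2.2.2 % 11, (11 - m.2.1) % 11, (11 - m.2.2.1) % 11, m.1 % 11)

/-- Entries are reduced. -/
def Red (m : M4) : Prop := m.1 < 11 ∧ m.2.1 < 11 ∧ m.2.2.1 < 11 ∧ m.2.2.2 < 11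

/-- Code up to sign. -/
def ncod (m : M4) : ℕ := min (cod m) (cod (neg m))

/-- Determinant one. -/
def dok (m : M4) : Bool := Nat.beq ((m.1 * m.2.2.2 + (11 - m.2.1) * m.2.2.1) % 11) 1

/-- Conjugate. -/
def cnj (g x : M4) : M4 := mul (mul g x) (inv g)

/-- The elements of one subgroup isomorphic to `A₅`. -/
def L1 : List ℕ :=
  [231, 298, 443, 580, 628, 1332, 1477, 1587, 1813, 1880, 1990, 2156, 2261, 2397, 2486, 2583,
    2679, 2789, 2934, 3145, 3232, 3324, 3456, 3562, 3738, 3848, 3915, 4030, 4133, 4266, 4360,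
    4565, 4658, 4803, 4913, 5005, 5193, 5303, 5415, 5507, 5592, 5737, 5847, 5947, 6135, 6245,
    6295, 6516, 6650, 6675, 6785, 7002, 7069, 7179, 7354, 7450, 7589, 7684, 7772, 7982]

/-- The elements of the other class. -/
def L2 : List ℕ :=
  [241, 297, 443, 573, 635, 1332, 1562, 1587, 1799, 1884, 1990, 2121, 2211, 2397, 2506, 2573,
    2734, 2818, 2910, 3056, 3165, 3386, 3453, 3562, 3738, 3838, 3962, 4074, 4220, 4309, 4396,
    4497, 4620, 4723, 4896, 5005, 5193, 5296, 5371, 5552, 5661, 5728, 5823, 5932, 6078, 6285,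
    6375, 6474, 6607, 6730, 6812, 6906, 7127, 7255, 7354, 7410, 7519, 7707, 7806, 7915]

/-- Conjugators of the involutions. -/
def sel : List ℕ :=
  [231, 232, 233, 234, 235, 236, 237, 238, 239, 240, 241, 297, 298, 299, 300, 301, 302, 303,
    304, 305, 306, 307, 440, 441, 442, 443, 444, 445, 446, 447, 448, 449, 450, 572, 573, 574,
    575, 576, 577, 578, 579, 580, 581, 582, 627, 628, 629, 630, 631, 632, 633, 634, 635, 636,
    637]

/-- Conjugators of the second generators. -/
def certs : List ℕ :=
  [231, 232, 235, 236, 238, 239]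

/-- The involution. -/
def invS : M4 := dec 231

/-- An element of order three of the first subgroup. -/
def genB : M4 := dec 298

/-- Code of the identity. -/
def one : ℕ := 1332

/-- A closed list of elements. -/
def chkGroup (L : List ℕ) : Bool :=
  L.contains one && L.all fun x => dok (dec x) && decide (x < 14641) &&
    L.all fun y => L.contains (ncod (mul (dec x) (dec y)))

theorem chkGroup₁ : chkGroup L1 = true := by decide +kernel
theorem chkGroup₂ : chkGroup L2 = true := by decide +kernel
theorem canon_L2 : (L2.all fun y => Nat.beq (ncod (dec y)) y) = true := by decide +kernel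

theorem len_L : L1.length = 60 ∧ L2.length = 60 := by decide +kernel

theorem chkInvol : ((List.range 14641).all fun k =>
    !(dok (dec k) && Nat.beq (ncod (mul (dec k) (dec k))) one && !Nat.beq (ncod (dec k)) one) ||
      sel.any fun g => Nat.beq (ncod (cnj (dec g) (dec k))) (ncod invS)) = true := by
  decide +kernel

theorem chkSel : ((sel ++ certs).all fun g => dok (dec g) && decide (g < 14641)) = true := by
  decide +kernel

/-- Membership of a conjugate pair. -/
def pairIn (L : List ℕ) (g b : M4) : Bool :=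
  L.contains (ncod (cnj g invS)) && L.contains (ncod (cnj g b))

theorem chkPairs : ((List.range 14641).all fun k =>
    !(dok (dec k) && Nat.beq (ncod (mul (mul (dec k) (dec k)) (dec k))) one &&
      !Nat.beq (ncod (dec k)) one &&
      (let c := mul invS (dec k); Nat.beq (ncod (mul (mul (mul c c) (mul c c)) c)) one)) ||
      certs.any fun g => pairIn L1 (dec g) (dec k) || pairIn L2 (dec g) (dec k)) = true := by
  decide +kernel

theorem chkNonConj : ((List.range 14641).all fun k =>
    !(dok (dec k)) || !pairIn L2 (dec k) genB) = true := by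
  decide +kernel

theorem chkGens : (L1.contains (ncod invS) && L1.contains (ncod genB) && dok invS && dok genB) = true := by
  decide +kernel

theorem chkSwap : ((L1.all fun x => L2.contains
    (ncod (let m := dec x; (m.1, 2 * m.2.1 % 11, 6 * m.2.2.1 % 11, m.2.2.2)))) &&
    L2.all fun x => L1.contains
    (ncod (let m := dec x; (m.1, 6 * m.2.1 % 11, 2 * m.2.2.1 % 11, m.2.2.2)))) = true := by
  decide +kernel

end CfsgLib.PSLEleven
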